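import Cfsg.Agent.Lib.ExtraIndexP.Defs

/-!
# Elementary facts on the context
-/

set_option autoImplicit false

open Cfsg Cfsg.FusionSystem CfsgLib.Fusion Module
open scoped commutatorElement

namespace CfsgLib.ExtraIndexP

universe u

variable {Ω : Type u} [Group Ω] {p n : ℕ} [hp : Fact p.Prime] {S Q : Subgroup Ω}
  {F : FusionSystem S} {z : Ω}

theorem zp_eq_pow (hz : orderOf z = p) (k : ℕ) : zp z (k : ZMod p) = z ^ k := by
  rw [zp, ZMod.val_natCast, ← hz, pow_mod_orderOf]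

theorem zp_zero (z : Ω) : zp (p := p) z 0 = 1 := by rw [zp, ZMod.val_zero, pow_zero]

theorem zp_one (z : Ω) : zp (p := p) z 1 = z := by rw [zp, ZMod.val_one, pow_one]

theorem zp_add (hz : orderOf z = p) (i j : ZMod p) : zp z (i + j) = zp z i * zp z j := by
  rw [zp, zp, zp, ← pow_add, ← pow_mod_orderOf z (i.val + j.val), hz, ZMod.val_add]

theorem zp_neg (hz : orderOf z = p) (i : ZMod p) : zp z (-i) = (zp z i)⁻¹ := by
  refine eq_inv_of_mul_eq_one_left ?_
  rw [← zp_add hz, neg_add_cancel, zp_zero]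

theorem zp_sub (hz : orderOf z = p) (i j : ZMod p) : zp z (i - j) = zp z i * (zp z j)⁻¹ := by
  rw [sub_eq_add_neg, zp_add hz, zp_neg hz]

theorem zp_injective (hz : orderOf z = p) {i j : ZMod p} (h : zp z i = zp z j) : i = j := by
  refine ZMod.val_injective p (pow_injOn_Iio_orderOf ?_ ?_ h)
  · show i.val < orderOf z
    rw [hz]; exact ZMod.val_lt i
  · show j.val < orderOf z
    rw [hz]; exact ZMod.val_lt j

theorem zp_eq_one_iff (hz : orderOf z = p) {i : ZMod p} : zp z i = 1 ↔ i = 0 :=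
  ⟨fun h => zp_injective hz (h.trans (zp_zero z).symm), fun h => h ▸ zp_zero z⟩

theorem zp_mem (z : Ω) (i : ZMod p) : zp z i ∈ Subgroup.zpowers z := pow_mem (Subgroup.mem_zpowers z) _

theorem exists_zp (hz : orderOf z = p) {w : Ω} (hw : w ∈ Subgroup.zpowers z) :
    ∃ i : ZMod p, w = zp z i := by
  have hfin : IsOfFinOrder z := orderOf_pos_iff.mp (hz.symm ▸ hp.out.pos)
  obtain ⟨k, hk : z ^ k = w⟩ := (hfin.mem_powers_iff_mem_zpowers).mpr hw
  exact ⟨k, by rw [zp_eq_pow hz, hk]⟩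

theorem zp_pow (hz : orderOf z = p) (i : ZMod p) (k : ℕ) : zp z i ^ k = zp z ((k : ZMod p) * i) := by
  induction k with
  | zero => rw [pow_zero, Nat.cast_zero, zero_mul, zp_zero]
  | succ k ih => rw [pow_succ, ih, ← zp_add hz, Nat.cast_succ, add_mul, one_mul]

namespace Ctx

variable (h : Ctx p n S Q F z)
include h

theorem zpowers_le : Subgroup.zpowers z ≤ Q := Subgroup.zpowers_le.mpr h.z_mem

theorem comm_of_mem {w : Ω} (hw : w ∈ Subgroup.zpowers z) {s : Ω} (hs : s ∈ S) :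
    s * w = w * s := by
  obtain ⟨k, rfl⟩ := Subgroup.mem_zpowers_iff.mp hw
  exact (show Commute s z from h.z_comm s hs).zpow_right k

theorem cj_of_mem {w : Ω} (hw : w ∈ Subgroup.zpowers z) {s : Ω} (hs : s ∈ S) : cj s w = w :=
  cj_fixed_iff.mpr (h.comm_of_mem hw hs)

theorem card_zpowers : Nat.card (Subgroup.zpowers z) = p := by
  rw [Nat.card_zpowers, h.z_order]

theorem finite_Q : Finite Q :=
  @Finite.of_injective _ _ h.finite _ (Subgroup.inclusion_injective h.le)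

theorem pow_mem_Q {s : Ω} (hs : s ∈ S) : s ^ p ∈ Q := by
  haveI : (Q.subgroupOf S).Normal := ⟨fun a ha g => h.normal g g.2 a ha⟩
  have h1 := Subgroup.pow_index_mem (Q.subgroupOf S) ⟨s, hs⟩
  rw [h.index] at h1
  exact h1

end Ctx

namespace Coords

variable (K : Coords p n S Q z)

theorem π_one : K.π 1 = 0 := (K.π_eq_zero 1 Q.one_mem).mpr (one_mem _)

theorem π_inv {a : Ω} (ha : a ∈ Q) : K.π a⁻¹ = - K.π a := by
  refine eq_neg_of_add_eq_zero_left ?_
  rw [← K.π_mul _ (Q.inv_mem ha) _ ha, inv_mul_cancel, K.π_one]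

theorem π_zp (h : Ctx p n S Q F z) (i : ZMod p) : K.π (zp z i) = 0 :=
  (K.π_eq_zero _ (h.zpowers_le (zp_mem z i))).mpr (zp_mem z i)

theorem π_pow {a : Ω} (ha : a ∈ Q) (k : ℕ) : K.π (a ^ k) = k • K.π a := by
  induction k with
  | zero => rw [pow_zero, K.π_one, zero_smul]
  | succ k ih => rw [pow_succ, K.π_mul _ (Q.pow_mem ha k) _ ha, ih, succ_nsmul]

theorem eq_mul_zp (h : Ctx p n S Q F z) {a b : Ω} (ha : a ∈ Q) (hb : b ∈ Q)
    (e : K.π a = K.π b) : ∃ i : ZMod p, b = a * zp z i := by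
  have h1 : a⁻¹ * b ∈ Subgroup.zpowers z := (K.π_eq_zero _ (Q.mul_mem (Q.inv_mem ha) hb)).mp (by
    rw [K.π_mul _ (Q.inv_mem ha) _ hb, K.π_inv ha, e, neg_add_cancel])
  obtain ⟨i, hi⟩ := exists_zp h.z_order h1
  exact ⟨i, by rw [← hi, mul_inv_cancel_left]⟩

theorem flip {v w : Fin (2 * n) → ZMod p} : K.B w v = - K.B v w := by
  have h1 := K.alt (v + w)
  simp only [map_add, LinearMap.add_apply, K.alt, zero_add, add_zero] at h1
  exact eq_neg_of_add_eq_zero_left h1

theorem act_one : K.act 1 = 1 := K.act_Q 1 Q.one_mem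

theorem comm_eq_one_iff (h : Ctx p n S Q F z) {a b : Ω} (ha : a ∈ Q) (hb : b ∈ Q) :
    a * b = b * a ↔ K.B (K.π a) (K.π b) = 0 := by
  rw [← commutatorElement_eq_one_iff_mul_comm, K.comm a ha b hb, zp_eq_one_iff h.z_order]

end Coords

end CfsgLib.ExtraIndexP
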