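import Cfsg.Agent.Lib.ExtraIndexP.CaseOneBasic

/-!
# The first case: exponent `p` and the complement
-/

set_option autoImplicit false
set_option linter.style.haveILetI false
set_option linter.unusedSectionVars false

open Cfsg Cfsg.FusionSystem CfsgLib.Fusion Module
open scoped commutatorElement

namespace CfsgLib.ExtraIndexP

universe u

variable {Ω : Type u} [Group Ω] {p n : ℕ} [hp : Fact p.Prime] {S Q : Subgroup Ω}
  {F : FusionSystem S} {z : Ω}

/-- An automorphism of `C` acting as `-1` on `⟨z, y⟩` extends to `S` and inverts the power map. -/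
theorem θ_zero_of_inverting (h : Ctx p n S Q F z) (K : Coords p n S Q z) {y g : Ω} {φ : Ω → Ω}
    (W : Wit S Q F z y g φ) {hh : MulAut (cS S y)} (hha : hh ∈ F.autGroup (cS S y))
    (hz : autFun hh z = z⁻¹) (hy : autFun hh y = y⁻¹) : K.θ = 0 := by
  haveI := h.finite
  obtain ⟨C, hCdef⟩ : ∃ C, C = cS S y := ⟨_, rfl⟩
  subst hCdef
  have hCS : cS S y ≤ S := inf_le_left
  have hzC := W.z_mem h
  have hyC := W.y_mem h
  have hzyS : ∀ s ∈ S, cj s y ∈ cS S y ∧ ∃ i : ZMod p, cj s y = y * zp z i := by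
    intro s hs
    have hq := h.normal s hs y W.hy
    have e : K.π y = K.π (cj s y) := by
      rw [K.act_spec s hs y W.hy]
      have := LinearMap.mem_ker.mp (W.ker_mem h K hs)
      rw [LinearMap.sub_apply, Module.End.one_apply, sub_eq_zero] at this
      exact this.symm
    obtain ⟨i, hi⟩ := K.eq_mul_zp h W.hy hq e
    exact ⟨hi ▸ (cS S y).mul_mem hyC ((cS S y).pow_mem hzC _), i, hi⟩
  have hnorm : ∀ s ∈ S, s ∈ Subgroup.normalizer (cS S y : Set Ω) := by
    have key : ∀ s ∈ S, ∀ c ∈ cS S y, cj s c ∈ cS S y := by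
      intro s hs c hc
      obtain ⟨hcS, hcy⟩ := mem_cS.mp hc
      refine mem_cS.mpr ⟨S.mul_mem (S.mul_mem hs hcS) (S.inv_mem hs), ?_⟩
      obtain ⟨-, i, hi⟩ := hzyS s hs
      have h1 : Commute (cj s c) (cj s y) := by
        show cj s c * cj s y = cj s y * cj s c
        rw [← cj_map_mul, ← cj_map_mul, hcy]
      have h2 : Commute (cj s c) (zp z i) :=
        h.comm_of_mem (zp_mem z i) (S.mul_mem (S.mul_mem hs hcS) (S.inv_mem hs))
      have h3 := h1.mul_right h2.inv_right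
      rwa [hi, mul_inv_cancel_right] at h3
    intro s hs
    refine Subgroup.mem_normalizer_iff.mpr fun c => ⟨key s hs c, fun hc => ?_⟩
    simpa [cj, mul_assoc] using key _ (S.inv_mem hs) _ hc
  have hN : normalizerIn S (cS S y) = S :=
    le_antisymm normalizerIn_le fun s hs => mem_normalizerIn.mpr ⟨hs, hnorm s hs⟩
  have hzlC : ∀ i : ZMod p, zp z i ∈ cS S y := fun i => (cS S y).pow_mem hzC _
  haveI : Finite ↥(normalizerIn S (cS S y)) := finite_of_le normalizerIn_le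
  obtain ⟨hfa, hr⟩ := isFullyAutomized_of_normalized h.group h.sat (P := cS S y)
    ⟨hCS, fun R _ => Subgroup.card_le_of_le (normalizerIn_le.trans hN.ge)⟩
  haveI := finite_mulAut (P := cS S y) hCS
  -- the stabilizer of the two lines
  let H0 : Subgroup (MulAut (cS S y)) :=
    { carrier := {γ | γ ∈ F.autGroup (cS S y) ∧ autFun γ z = z ∧
        ∃ i : ZMod p, autFun γ y = y * zp z i}
      one_mem' := ⟨Subgroup.one_mem _, autFun_one hzC, 0, by
        rw [autFun_one hyC, zp_zero, mul_one]⟩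
      mul_mem' := by
        rintro γ δ ⟨hγ, hγz, i, hγy⟩ ⟨hδ, hδz, j, hδy⟩
        refine ⟨Subgroup.mul_mem _ hγ hδ, by rw [autFun_mul _ _ hzC, hδz, hγz], i + j, ?_⟩
        rw [autFun_mul _ _ hyC, hδy, autFun_map_mul γ hyC (hzlC _), hγy,
          map_zp' (isMor_autFun hCS hγ) hzC, hγz, zp_add h.z_order, mul_assoc]
      inv_mem' := by
        rintro γ ⟨hγ, hγz, i, hγy⟩
        have hγ' := Subgroup.inv_mem _ hγ
        have hz' : autFun γ⁻¹ z = z := by
          conv_lhs => rw [← hγz]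
          exact autFun_inv_left γ hzC
        refine ⟨hγ', hz', -i, ?_⟩
        have e := autFun_inv_left γ hyC
        rw [hγy, autFun_map_mul γ⁻¹ hyC (hzlC _),
          map_zp' (isMor_autFun hCS hγ') hzC, hz'] at e
        rw [zp_neg h.z_order]
        exact eq_mul_inv_of_mul_eq e }
  obtain ⟨P, hPdef⟩ : ∃ P, P = autInducedBy S (cS S y) := ⟨_, rfl⟩
  have hP0 : P ≤ H0 := by
    intro γ hγ
    subst hPdef
    obtain ⟨s, hs, -, e⟩ := mem_autInducedBy.mp hγ
    obtain ⟨-, i, hi⟩ := hzyS s hs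
    exact ⟨autInducedBy_le F hCS hγ, (e z hzC).trans (cj_fixed_iff.mpr (h.z_comm s hs)),
      i, (e y hyC).trans hi⟩
  have hsyl : IsSylIn p P H0 := by
    subst hPdef
    obtain ⟨-, h1, h2⟩ := (isFullyAutomized_iff.mp hfa).2
    exact ⟨hP0, h1, fun C' hC' hle hle' => h2 C' hC' hle (hle'.trans fun γ hγ => hγ.1)⟩
  have hPK : IsPGroup p (P.map (MulAut.conj hh).toMonoidHom) := hsyl.2.1.map _
  have hhm := isMor_autFun hCS hha
  have hz1 : autFun hh⁻¹ z = z⁻¹ := by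
    have e := autFun_inv_left hh hzC
    rw [hz, (isMor_autFun hCS (Subgroup.inv_mem _ hha)).map_inv hzC] at e
    exact inv_eq_iff_eq_inv.mp e
  have hy1 : autFun hh⁻¹ y = y⁻¹ := by
    have e := autFun_inv_left hh hyC
    rw [hy, (isMor_autFun hCS (Subgroup.inv_mem _ hha)).map_inv hyC] at e
    exact inv_eq_iff_eq_inv.mp e
  have hK0 : P.map (MulAut.conj hh).toMonoidHom ≤ H0 := by
    rintro _ ⟨γ, hγ, rfl⟩
    obtain ⟨hγA, hγz, i, hγy⟩ := hP0 hγ
    have hγm := isMor_autFun hCS hγA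
    refine ⟨Subgroup.mul_mem _ (Subgroup.mul_mem _ hha hγA) (Subgroup.inv_mem _ hha), ?_, i, ?_⟩
    · show autFun (hh * γ * hh⁻¹) z = z
      rw [autFun_mul _ _ hzC, autFun_mul _ _ (autFun_mem _ hzC), hz1, hγm.map_inv hzC, hγz,
        hhm.map_inv hzC, hz, inv_inv]
    · show autFun (hh * γ * hh⁻¹) y = y * zp z i
      rw [autFun_mul _ _ hyC, autFun_mul _ _ (autFun_mem _ hyC), hy1, hγm.map_inv hyC, hγy,
        hhm.map_inv ((cS S y).mul_mem hyC (hzlC _)),
        hhm.map_mul hyC (hzlC _), hy, map_zp' hhm hzC, hz, mul_inv_rev, inv_inv]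
      rw [zp, inv_pow, inv_inv]
      exact (h.comm_of_mem (zp_mem z i) (h.le W.hy)).symm
  obtain ⟨β, hβ, hβP⟩ := hsyl.exists_conj_le hPK hK0
  obtain ⟨ψ0, hψ0⟩ : ∃ ψ0, ψ0 = β * hh := ⟨_, rfl⟩
  have hψA : ψ0 ∈ F.autGroup (cS S y) := hψ0 ▸ Subgroup.mul_mem _ hβ.1 hha
  have hψm := isMor_autFun hCS hψA
  have hnE : S ≤ nExt S (cS S y) (autFun ψ0) := by
    intro s hs
    obtain ⟨γ, hγ, hγe⟩ := exists_autInducedBy (P := cS S y) hs (hnorm s hs)
    have h1 := hβP _ ⟨γ, hPdef.symm ▸ hγ, rfl⟩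
    rw [hPdef] at h1
    obtain ⟨t, ht, -, hte⟩ := mem_autInducedBy.mp h1
    refine ⟨hs, hnorm s hs, t, ht, fun c hc => ?_⟩
    refine (mul_conj_aut hγe hte).mp ?_ c hc
    show ψ0 * γ * ψ0⁻¹ = β * (hh * γ * hh⁻¹) * β⁻¹
    rw [hψ0]
    group
  obtain ⟨ψ, hψ, hψe⟩ := (isReceptive_iff.mp hr).2 _ _ hψm (img_autFun ψ0)
  have hψS : IsMor F S ψ := hψ.restrict hnE
  have hψz : ψ z = z⁻¹ := by
    rw [hψe z hzC, hψ0, autFun_mul _ _ hzC, hz, (isMor_autFun hCS hβ.1).map_inv hzC, hβ.2.1]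
  obtain ⟨j, hψy⟩ : ∃ j : ZMod p, ψ y = y⁻¹ * zp z j := by
    obtain ⟨i, hi⟩ := hβ.2.2
    refine ⟨-i, ?_⟩
    rw [hψe y hyC, hψ0, autFun_mul _ _ hyC, hy, (isMor_autFun hCS hβ.1).map_inv hyC, hi,
      mul_inv_rev, zp_neg h.z_order]
    exact (h.comm_of_mem (inv_mem (zp_mem z i)) (S.inv_mem (h.le W.hy))).symm
  have hQψ : img Q ψ = Q := K.img_Q_eq h W.hg W.hgQ (W.rank_two h K) hψS h.le
    (hψz ▸ inv_mem (Subgroup.mem_zpowers z))
  have hodd : ∀ x : ZMod p, x = -x → x = 0 := fun x hx => by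
    have h2 : (2 : ZMod p) ≠ 0 := fun e => by
      have h3 : ((2 : ℕ) : ZMod p) = 0 := by exact_mod_cast e
      have h4 := (Nat.prime_dvd_prime_iff_eq hp.out Nat.prime_two).mp
        ((ZMod.natCast_eq_zero_iff 2 p).mp h3)
      exact absurd h.odd (by rw [h4]; decide)
    exact (mul_eq_zero.mp (show 2 * x = 0 by linear_combination hx)).resolve_left h2
  refine LinearMap.ext fun v => ?_
  obtain ⟨a, ha, rfl⟩ := K.π_surj v
  have hψa : ψ a ∈ Q := hQψ.le (mem_img_of_mem ψ ha)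
  have hψyQ : ψ y ∈ Q := hQψ.le (mem_img_of_mem ψ W.hy)
  have hπy : K.π (ψ y) = - K.π y := by
    rw [hψy, K.π_mul _ (Q.inv_mem W.hy) _ (h.zpowers_le (zp_mem z j)), K.π_zp h, add_zero,
      K.π_inv W.hy]
  have hperp : K.π (ψ a) - K.π a ∈ LinearMap.ker (K.B (K.π y)) := by
    have e := map_commutator' hψS (h.le W.hy) (h.le ha)
    rw [K.comm y W.hy a ha, K.comm _ hψyQ _ hψa, map_zp' hψS (h.le h.z_mem), hψz, hπy] at e
    rw [show zp z⁻¹ (K.B (K.π y) (K.π a)) = zp z (-(K.B (K.π y) (K.π a))) by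
      rw [zp_neg h.z_order, zp, zp, inv_pow], map_neg, LinearMap.neg_apply] at e
    rw [LinearMap.mem_ker, map_sub, sub_eq_zero]
    exact neg_injective (zp_injective h.z_order e).symm
  have hθ : K.θ (K.π (ψ a)) = K.θ (K.π a) := sub_eq_zero.mp (by
    rw [← map_sub]; exact LinearMap.mem_ker.mp (W.θ_perp h K hperp))
  have e : zp z (K.θ (K.π a)) = zp z (-(K.θ (K.π a))) := by
    conv_lhs => rw [← hθ, ← K.pow _ hψa, ← hψS.map_pow (h.le ha), K.pow a ha,
      map_zp' hψS (h.le h.z_mem), hψz]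
    rw [zp_neg h.z_order, zp, zp, inv_pow]
  exact hodd _ (zp_injective h.z_order e)

namespace Wit

variable {y g : Ω} {φ : Ω → Ω} (W : Wit S Q F z y g φ)
  (h : Ctx p n S Q F z) (K : Coords p n S Q z)

include W h K

theorem θ_zero : K.θ = 0 := by
  haveI := h.finite
  have hw := W.w_ne h K
  have hw' : K.π (φ z) ≠ 0 := fun e' => W.z'_not h ((K.π_eq_zero _ (W.z'_mem h K)).mp e')
  by_cases hsp : K.π (φ z) ∈ Submodule.span (ZMod p) {K.π y}
  swap
  · obtain ⟨a0, ha0, ha0C, ha0Q⟩ := W.exists_a0 h K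
    obtain ⟨φ', hφ', e'⟩ := h.receive (W.z'_conj h)
    have W' : Wit S Q F z (φ z) (φ a0) φ' :=
      ⟨W.z'_mem h K, W.z'_not h, W.hφ.mem ha0C, ha0Q, by
        rw [← W.hφ.map_mul ha0C (W.z_mem h), ← W.hφ.map_mul (W.z_mem h) ha0C,
          h.z_comm a0 (h.le ha0)], hφ', e'⟩
    have hne : ¬ LinearMap.ker (K.B (K.π (φ z))) ≤ LinearMap.ker (K.B (K.π y)) := by
      intro hle
      obtain ⟨c, hc⟩ := Submodule.mem_span_singleton.mp
        (K.mem_span_of_perp hw' fun v hv => LinearMap.mem_ker.mp (hle hv))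
      have hc0 : c ≠ 0 := fun e => hw (by rw [← hc, e, zero_smul])
      exact hsp (Submodule.mem_span_singleton.mpr
        ⟨c⁻¹, by rw [← hc, smul_smul, inv_mul_cancel₀ hc0, one_smul]⟩)
    have htop : LinearMap.ker (K.B (K.π (φ z))) ⊔ LinearMap.ker (K.B (K.π y)) = ⊤ := by
      refine Submodule.eq_top_of_finrank_eq ?_
      have h1 := Submodule.finrank_lt_finrank_of_lt (right_lt_sup.mpr hne)
      have h2 := K.finrank_ker_B hw
      have h3 := Submodule.finrank_le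
        (LinearMap.ker (K.B (K.π (φ z))) ⊔ LinearMap.ker (K.B (K.π y)))
      rw [finrank_fin_fun] at h3 ⊢
      omega
    exact LinearMap.ker_eq_top.mp
      (top_le_iff.mp (htop.ge.trans (sup_le (W'.θ_perp h K) (W.θ_perp h K))))
  obtain ⟨c, hc⟩ := Submodule.mem_span_singleton.mp hsp
  have hc0 : c ≠ 0 := fun e => hw' (by rw [← hc, e, zero_smul])
  have hyC := W.y_mem h
  have hzC := W.z_mem h
  have hz'S : φ z ∈ S := W.hφ.mem hzC
  have hyp := W.y_pow h
  obtain ⟨l, hl⟩ := K.eq_mul_zp h (Q.pow_mem W.hy c.val) (W.z'_mem h K) (by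
    rw [K.π_pow W.hy, ← hc, ← Nat.cast_smul_eq_nsmul (ZMod p), ZMod.natCast_zmod_val])
  have hCS : cS S y ≤ S := inf_le_left
  have hmaps : ∀ s ∈ cS S y, φ s ∈ cS S y := by
    intro s hs
    refine mem_cS.mpr ⟨W.hφ.mem hs, ?_⟩
    have h1 : Commute (φ s) (φ z) := by
      show φ s * φ z = φ z * φ s
      rw [← W.hφ.map_mul hs hzC, ← W.hφ.map_mul hzC hs, h.z_comm s (mem_cS.mp hs).1]
    have h2 : Commute (φ s) (zp z l) := h.comm_of_mem (zp_mem z l) (W.hφ.mem hs)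
    have h3 := h1.mul_right h2.inv_right
    rw [hl, mul_inv_cancel_right] at h3
    have h4 : Commute (φ s) (zp (zp y c) c⁻¹) := h3.pow_right _
    rwa [zp_zp hyp hc0] at h4
  obtain ⟨α, hα, hαe⟩ := exists_aut W.hφ (W.hφ.img_eq_self hmaps)
  have hαy : autFun α y = z := (hαe y hyC).trans W.φy
  have hαz : autFun α z = φ z := hαe z hzC
  have hz'C : φ z ∈ cS S y := hmaps z hzC
  have hαm := isMor_autFun hCS hα
  -- transvections
  have hu : ∀ m : ZMod p, ∃ u ∈ F.autGroup (cS S y),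
      autFun u z = z ∧ autFun u (φ z) = zp z m * φ z := by
    intro m
    obtain ⟨t₀, ht₀⟩ : ∃ t₀, K.B (K.π (φ z)) t₀ = -m :=
      LinearMap.surjective (fun e => hw' (K.nondeg _ fun w => by rw [e]; rfl)) _
    obtain ⟨t, ht, rfl⟩ := K.π_surj t₀
    have hn : t ∈ Subgroup.normalizer (cS S y : Set Ω) := by
      refine Subgroup.mem_normalizer_iff.mpr fun a => ?_
      have key : ∀ t ∈ Q, ∀ a ∈ cS S y, t * a * t⁻¹ ∈ cS S y := by
        intro t ht a ha
        obtain ⟨haS, hay⟩ := mem_cS.mp ha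
        have hi := K.comm t ht y W.hy
        refine mem_cS.mpr ⟨S.mul_mem (S.mul_mem (h.le ht) haS) (S.inv_mem (h.le ht)), ?_⟩
        have h1 : Commute (cj t a) (cj t y) := by
          show cj t a * cj t y = cj t y * cj t a
          rw [← cj_map_mul, ← cj_map_mul, hay]
        have e : cj t y = zp z (K.B (K.π t) (K.π y)) * y := by
          rw [← hi, commutatorElement_def, inv_mul_cancel_right]; rfl
        have h2 : Commute (cj t a) (zp z (K.B (K.π t) (K.π y))) :=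
          h.comm_of_mem (zp_mem z _) (S.mul_mem (S.mul_mem (h.le ht) haS) (S.inv_mem (h.le ht)))
        have h3 := h2.inv_right.mul_right h1
        rwa [e, inv_mul_cancel_left] at h3
      exact ⟨key t ht a, fun hh => by simpa [mul_assoc] using key _ (Q.inv_mem ht) _ hh⟩
    obtain ⟨u, hu, hue⟩ := exists_autInducedBy (P := cS S y) (h.le ht) hn
    refine ⟨u, autInducedBy_le F hCS hu, (hue z hzC).trans (cj_fixed_iff.mpr (h.z_comm t (h.le ht))),
      ?_⟩
    rw [hue _ hz'C, ← neg_neg m, ← ht₀, ← K.flip, ← K.comm t ht _ (W.z'_mem h K),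
      commutatorElement_def, inv_mul_cancel_right]
    rfl
  obtain ⟨u₁, hu₁, hu₁z, hu₁w⟩ := hu 1
  obtain ⟨u₂, hu₂, hu₂z, hu₂w⟩ := hu (-c)
  rw [zp_one] at hu₁w
  obtain ⟨v, hv⟩ : ∃ v, v = α * u₂ * α⁻¹ := ⟨_, rfl⟩
  have hvA : v ∈ F.autGroup (cS S y) :=
    hv ▸ Subgroup.mul_mem _ (Subgroup.mul_mem _ hα hu₂) (Subgroup.inv_mem _ hα)
  have hvα : ∀ a ∈ cS S y, autFun v (autFun α a) = autFun α (autFun u₂ a) := fun a ha => by
    rw [hv, autFun_mul _ _ (autFun_mem α ha), autFun_mul _ _ (autFun_mem _ (autFun_mem α ha)),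
      autFun_inv_left α ha]
  have hvm := isMor_autFun hCS hvA
  have hvw : autFun v (φ z) = φ z := by
    conv_lhs => rw [← hαz, hvα z hzC, hu₂z, hαz]
  have hzlC : ∀ i : ZMod p, zp z i ∈ cS S y := fun i => (cS S y).pow_mem hzC _
  have hαw : autFun α (φ z) = zp z c * zp (φ z) l := by
    conv_lhs => rw [hl, hαm.map_mul ((cS S y).pow_mem hyC _) (hzlC l), hαm.map_pow hyC, hαy,
      map_zp' hαm hzC, hαz]
    rfl
  have hvz : autFun v z = (φ z)⁻¹ * z := by
    have e := hvα (φ z) hz'C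
    rw [hu₂w, hαm.map_mul (hzlC _) hz'C, map_zp' hαm hzC, hαz, hαw,
      hvm.map_mul (hzlC c) (show zp (φ z) l ∈ cS S y from (cS S y).pow_mem hz'C _), map_zp' hvm hzC, map_zp' hvm hz'C, hvw,
      ← mul_assoc] at e
    have e1 := mul_right_cancel e
    have hcm : Commute (φ z)⁻¹ z := (show Commute (φ z) z from h.z_comm _ hz'S).inv_left
    have hp1 : ((φ z)⁻¹ * z) ^ p = 1 := by
      rw [hcm.mul_pow, inv_pow, W.z'_pow h, inv_one, one_mul, ← h.z_order, pow_orderOf_eq_one]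
    have hp2 : autFun v z ^ p = 1 := by
      rw [← hvm.map_pow hzC, ← h.z_order, pow_orderOf_eq_one, hvm.map_one]
    rw [← zp_zp hp2 hc0, e1, ← zp_zp hp1 hc0]
    congr 1
    rw [show zp ((φ z)⁻¹ * z) c = zp (φ z)⁻¹ c * zp z c from hcm.mul_pow _]
    congr 1
    by_cases hz1 : φ z = 1
    · simp [hz1, zp]
    rw [zp_neg (orderOf_eq_prime (W.z'_pow h) hz1), zp, zp, inv_pow]
  -- the element inverting both lines
  obtain ⟨h0, hh0⟩ : ∃ h0, h0 = u₁ * v * u₁ := ⟨_, rfl⟩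
  have hh0A : h0 ∈ F.autGroup (cS S y) :=
    hh0 ▸ Subgroup.mul_mem _ (Subgroup.mul_mem _ hu₁ hvA) hu₁
  have hu₁m := isMor_autFun hCS hu₁
  have hcz : Commute (φ z) z := h.z_comm _ hz'S
  have h0z : autFun h0 z = (φ z)⁻¹ := by
    rw [hh0, autFun_mul _ _ hzC, hu₁z, autFun_mul _ _ hzC, hvz,
      hu₁m.map_mul ((cS S y).inv_mem hz'C) hzC, hu₁m.map_inv hz'C, hu₁w, hu₁z, mul_inv_rev,
      mul_assoc, inv_mul_cancel, mul_one]
  have h0w : autFun h0 (φ z) = z := by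
    rw [hh0, autFun_mul _ _ hz'C, hu₁w, autFun_mul _ _ ((cS S y).mul_mem hzC hz'C),
      hvm.map_mul hzC hz'C, hvz, hvw, mul_assoc, ← hcz.eq, inv_mul_cancel_left, hu₁z]
  have h0m := isMor_autFun hCS hh0A
  obtain ⟨hh, hhh⟩ : ∃ hh, hh = h0 * h0 := ⟨_, rfl⟩
  have hhA : hh ∈ F.autGroup (cS S y) := hhh ▸ Subgroup.mul_mem _ hh0A hh0A
  have hhz : autFun hh z = z⁻¹ := by
    rw [hhh, autFun_mul _ _ hzC, h0z, h0m.map_inv hz'C, h0w]
  have hhw : autFun hh (φ z) = (φ z)⁻¹ := by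
    rw [hhh, autFun_mul _ _ hz'C, h0w, h0z]
  have hhm := isMor_autFun hCS hhA
  have hhy : autFun hh y = y⁻¹ := by
    have hyp' : autFun hh y ^ p = 1 := by rw [← hhm.map_pow hyC, hyp, hhm.map_one]
    have hyp'' : (y⁻¹) ^ p = 1 := by rw [inv_pow, hyp, inv_one]
    rw [← zp_zp hyp' hc0, ← zp_zp hyp'' hc0, ← map_zp' hhm hyC]
    congr 1
    have e : zp y c = φ z * (zp z l)⁻¹ := eq_mul_inv_of_mul_eq hl.symm
    conv_lhs => rw [e, hhm.map_mul hz'C ((cS S y).inv_mem (hzlC l)), hhm.map_inv (hzlC l),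
      map_zp' hhm hzC, hhw, hhz]
    rw [show zp y⁻¹ c = (zp y c)⁻¹ from inv_pow _ _, e, mul_inv_rev,
      show zp z⁻¹ l = (zp z l)⁻¹ from inv_pow _ _]
    exact ((h.comm_of_mem (inv_mem (inv_mem (zp_mem z l))) (S.inv_mem hz'S)))
  exact θ_zero_of_inverting h K W hhA hhz hhy

end Wit

theorem stmtCaseOne : StmtCaseOne.{u} := by
  intro Ω _ p n _ S Q F z h K h1
  obtain ⟨y, g, φ, W⟩ := exists_wit h h1
  have hθ := W.θ_zero h K
  have hexp : ∀ a ∈ Q, a ^ p = 1 := fun a ha => by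
    rw [K.pow a ha, hθ, LinearMap.zero_apply, zp_zero]
  obtain ⟨hn, h2⟩ := W.dims h K
  obtain ⟨g₁, d, hg₁, hg₁Q, hd, hdP, hdy, i, hi, e⟩ := W.core h K
  have hg₁S : g₁ ∈ S := (mem_cS.mp hg₁.1).1
  have hrank : 2 ≤ finrank (ZMod p) (LinearMap.range (K.act g₁ - 1)) :=
    (K.range_eq h W.hg W.hgQ hg₁S hg₁Q).symm ▸ W.rank_two h K
  refine ⟨hn, hexp, ?_⟩
  suffices hx : ∃ x ∈ preimg W.hφ Q, x ∉ Q ∧ K.act x = K.act g₁ ∧
      ∀ a ∈ Q, K.π a ∈ LinearMap.ker (K.act g₁ - 1) → x * a = a * x by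
    obtain ⟨x, hx, hxQ, hxe, hxc⟩ := hx
    have hxS : x ∈ S := (mem_cS.mp hx.1).1
    refine ⟨x, hxS, hxQ, ?_, fun a ha hfix => hxc a ha ?_, hxe ▸ hrank⟩
    · refine W.hφ.inj (Subgroup.pow_mem _ hx.1 p) (cS S y).one_mem ?_
      rw [W.hφ.map_pow hx.1, hexp _ hx.2, W.hφ.map_one]
    · rw [LinearMap.mem_ker, LinearMap.sub_apply, Module.End.one_apply, ← hxe, hfix, sub_self]
  by_cases hker : LinearMap.ker (K.act g₁ - 1) ≤ Submodule.span (ZMod p) {K.π y}
  · refine ⟨g₁, hg₁, hg₁Q, rfl, fun a ha hm => K.comm_of_span h hg₁S ?_ ha (hker hm)⟩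
    rintro v rfl
    exact ⟨y, W.hy, rfl, (mem_cS.mp hg₁.1).2⟩
  obtain ⟨v, hv, hvy⟩ := SetLike.not_le_iff_exists.mp hker
  obtain ⟨f, hf, rfl⟩ := K.π_surj v
  have hwk := W.ker_mem h K hg₁S
  have hdk : K.π d ∉ LinearMap.ker (K.act g₁ - 1) := fun hm => by
    rw [LinearMap.mem_ker, e] at hm
    exact hi ((smul_eq_zero.mp hm).resolve_right (W.w_ne h K))
  have hfA : K.π f ∉ K.proj (preimg W.hφ Q) := by
    intro hm
    have hlt : K.proj (preimg W.hφ Q) ⊓ LinearMap.ker (K.act g₁ - 1) < K.proj (preimg W.hφ Q) :=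
      lt_of_le_of_ne inf_le_left fun e' => hdk (e'.ge ⟨d, hd, hdP, rfl⟩).2
    have h3 := Submodule.finrank_lt_finrank_of_lt hlt
    have h4 : Submodule.span (ZMod p) {K.π y} =
        K.proj (preimg W.hφ Q) ⊓ LinearMap.ker (K.act g₁ - 1) :=
      Submodule.eq_of_le_of_finrank_le ((Submodule.span_singleton_le_iff_mem _ _).mpr
        ⟨⟨y, W.hy, W.y_pre h K, rfl⟩, hwk⟩)
        (by rw [finrank_span_singleton (W.w_ne h K)]; omega)
    exact hvy (h4.ge ⟨hm, hv⟩)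
  have hfperp : K.π f ∈ LinearMap.ker (K.B (K.π y)) := by
    rw [LinearMap.mem_ker, K.flip, neg_eq_zero]
    have hy' : K.π y = (K.act g₁ - 1) (i⁻¹ • K.π d) := by
      rw [map_smul, e, smul_smul, inv_mul_cancel₀ hi, one_smul]
    rw [hy']
    exact (K.mem_ker_iff hg₁S _).mp hv _
  have hB : K.B (K.π d) (K.π f) ≠ 0 := by
    intro hB
    have h5 : K.proj (preimg W.hφ Q) ⊔ Submodule.span (ZMod p) {K.π f} =
        LinearMap.ker (K.B (K.π y)) := by
      refine Submodule.eq_of_le_of_finrank_le (sup_le (W.proj_le h K)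
        ((Submodule.span_singleton_le_iff_mem _ _).mpr hfperp)) ?_
      have h6 : K.proj (preimg W.hφ Q) < K.proj (preimg W.hφ Q) ⊔
          Submodule.span (ZMod p) {K.π f} :=
        left_lt_sup.mpr fun hle => hfA (hle (Submodule.mem_span_singleton_self _))
      have h7 := Submodule.finrank_lt_finrank_of_lt h6
      have h8 := K.finrank_ker_B (W.w_ne h K)
      omega
    refine hdy (K.mem_span_of_perp (W.w_ne h K) fun v' hv' => ?_)
    have hle : K.proj (preimg W.hφ Q) ⊔ Submodule.span (ZMod p) {K.π f} ≤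
        LinearMap.ker (K.B (K.π d)) := by
      refine sup_le ?_ ((Submodule.span_singleton_le_iff_mem _ _).mpr hB)
      rintro _ ⟨b, hb, hbP, rfl⟩
      exact W.abelian h K hd hb hdP hbP
    exact hle (h5.ge hv')
  have hkerle : LinearMap.ker (K.act g₁ - 1) ≤ Submodule.span (ZMod p) {K.π y, K.π f} := by
    refine (Submodule.eq_of_le_of_finrank_le (Submodule.span_le.mpr ?_) ?_).ge
    · rintro v (rfl | rfl)
      exacts [hwk, hv]
    · have hlt : Submodule.span (ZMod p) {K.π y} < Submodule.span (ZMod p) {K.π y, K.π f} :=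
        lt_of_le_of_ne (Submodule.span_mono (by simp)) fun e' =>
          hvy (e'.ge (Submodule.subset_span (by simp)))
      have h9 := Submodule.finrank_lt_finrank_of_lt hlt
      rw [finrank_span_singleton (W.w_ne h K)] at h9
      have h10 := K.finrank_ker_add (s := g₁)
      omega
  -- correct `g₁` by a power of `d`
  obtain ⟨j, hj⟩ := exists_zp h.z_order (w := ⁅g₁, f⁆) ((K.π_eq_zero _
    (Coords.commutator_mem_Q' h hg₁S hf)).mp (by rw [K.π_commutator h hg₁S hf]; exact hv))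
  obtain ⟨k, hk⟩ : ∃ k : ℕ, (k : ZMod p) * K.B (K.π d) (K.π f) + j = 0 :=
    ⟨(-j * (K.B (K.π d) (K.π f))⁻¹).val, by
      rw [ZMod.natCast_zmod_val, mul_assoc, inv_mul_cancel₀ hB, mul_one, neg_add_cancel]⟩
  refine ⟨g₁ * d ^ k, Subgroup.mul_mem _ hg₁ (Subgroup.pow_mem _ hdP k), fun hh => hg₁Q ?_, ?_,
    fun a ha hm => K.comm_of_span h (S.mul_mem hg₁S (S.pow_mem (h.le hd) k)) ?_ ha (hkerle hm)⟩
  · have := Q.mul_mem hh (Q.inv_mem (Q.pow_mem hd k))
    rwa [mul_inv_cancel_right] at this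
  · rw [K.act_mul _ hg₁S _ (S.pow_mem (h.le hd) k), K.act_Q _ (Q.pow_mem hd k), mul_one]
  · rintro v (rfl | rfl)
    · exact ⟨y, W.hy, rfl,
        (mem_cS.mp ((cS S y).mul_mem hg₁.1 ((cS S y).pow_mem hdP.1 k))).2⟩
    · refine ⟨f, hf, rfl, ?_⟩
      have e1 : d ^ k * f = zp z ((k : ZMod p) * K.B (K.π d) (K.π f)) * (f * d ^ k) := by
        have h11 := K.comm _ (Q.pow_mem hd k) f hf
        rw [K.π_pow hd, map_nsmul, LinearMap.smul_apply, nsmul_eq_mul] at h11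
        rw [← h11, commutatorElement_def]
        group
      have e2 : g₁ * f = zp z j * (f * g₁) := by
        rw [← hj, commutatorElement_def]
        group
      have hc : ∀ i : ZMod p, ∀ s ∈ S, s * zp z i = zp z i * s := fun i s hs =>
        h.comm_of_mem (zp_mem z i) hs
      calc g₁ * d ^ k * f
          = g₁ * zp z ((k : ZMod p) * K.B (K.π d) (K.π f)) * (f * d ^ k) := by
            rw [mul_assoc, e1, ← mul_assoc]
        _ = zp z ((k : ZMod p) * K.B (K.π d) (K.π f)) * (g₁ * f) * d ^ k := by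
            rw [hc _ g₁ hg₁S]; simp only [mul_assoc]
        _ = zp z ((k : ZMod p) * K.B (K.π d) (K.π f) + j) * (f * (g₁ * d ^ k)) := by
            rw [e2, zp_add h.z_order]; simp only [mul_assoc]
        _ = f * (g₁ * d ^ k) := by rw [hk, zp_zero, one_mul]

end CfsgLib.ExtraIndexP
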