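import Cfsg.Agent.Lib.ExtraIndexP.Linear
import Cfsg.Agent.Lib.Fusion.Normal
import Cfsg.Agent.S5179

/-!
# Some essential subgroup moves the centre
-/

set_option autoImplicit false
set_option linter.style.haveILetI false

open Cfsg Cfsg.FusionSystem CfsgLib.Fusion Module
open scoped commutatorElement

namespace CfsgLib.ExtraIndexP

universe u

variable {Ω : Type u} [Group Ω] {p n : ℕ} [hp : Fact p.Prime] {S Q : Subgroup Ω}
  {F : FusionSystem S} {z : Ω}

theorem mem_of_zp_mem {w : Ω} (hw : w ^ p = 1) {H : Subgroup Ω} {i : ZMod p} (hi : i ≠ 0)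
    (hm : zp w i ∈ H) : w ∈ H := by
  by_cases hw1 : w = 1
  · exact hw1 ▸ H.one_mem
  have ho : orderOf w = p := orderOf_eq_prime hw hw1
  have e : zp w i ^ (i⁻¹).val = w := by
    rw [zp_pow ho, ZMod.natCast_zmod_val, inv_mul_cancel₀ hi, zp_one]
  exact e ▸ H.pow_mem hm _

namespace Ctx

variable (h : Ctx p n S Q F z)
include h

theorem commutator_mem {a b : Ω} (ha : a ∈ S) (hb : b ∈ S) : ⁅a, b⁆ ∈ Q := by
  haveI := h.finite
  haveI : (Q.subgroupOf S).Normal := ⟨fun a ha g => h.normal g g.2 a ha⟩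
  haveI : IsCyclic (↥S ⧸ Q.subgroupOf S) := isCyclic_of_prime_card (p := p) h.index
  letI : CommGroup (↥S ⧸ Q.subgroupOf S) := IsCyclic.commGroup
  have e : QuotientGroup.mk' (Q.subgroupOf S) ⁅(⟨a, ha⟩ : S), ⟨b, hb⟩⁆ = 1 := by
    rw [map_commutatorElement]
    exact commutatorElement_eq_one_iff_mul_comm.mpr (mul_comm _ _)
  exact (QuotientGroup.eq_one_iff (N := Q.subgroupOf S) _).mp e

omit hp in
theorem commutator_center {a b : Ω} (ha : a ∈ Q) (hb : b ∈ Q) :
    ⁅a, b⁆ ∈ Subgroup.zpowers z := by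
  refine h.center_Q _ (Q.mul_mem (Q.mul_mem (Q.mul_mem ha hb) (Q.inv_mem ha)) (Q.inv_mem hb))
    fun c hc => ?_
  have h1 : ⁅(⟨a, ha⟩ : Q), ⟨b, hb⟩⁆ ∈ Subgroup.center ↥Q := h.extra.1.2.2 ▸
    Subgroup.commutator_mem_commutator (Subgroup.mem_top _) (Subgroup.mem_top _)
  exact congrArg Subtype.val (Subgroup.mem_center_iff.mp h1 ⟨c, hc⟩).symm

theorem exists_moving : ∃ (E : Subgroup Ω) (α : MulAut E), F.IsEssential p E ∧ ¬ E ≤ Q ∧
    α ∈ F.autGroup E ∧ z ∈ E ∧ autFun α z ∉ Subgroup.zpowers z := by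
  haveI := h.finite
  by_contra hcon
  push Not at hcon
  have hzS : z ∈ S := h.le h.z_mem
  have hin : ∀ (P : Subgroup Ω) (α : MulAut P), α ∈ F.autGroup P → P ≤ S → z ∈ P →
      autFun α z ∈ Subgroup.zpowers z →
      ∀ w ∈ Subgroup.zpowers z, autFun α w ∈ Subgroup.zpowers z := by
    intro P α hα hPS hzP hαz w hw
    obtain ⟨k, rfl⟩ := Subgroup.mem_zpowers_iff.mp hw
    rw [(isMor_autFun hPS hα).map_zpow hzP]
    exact zpow_mem hαz k
  have hN : F.IsNormal (Subgroup.zpowers z) := by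
    refine isNormal_of_invariant h.group h.sat fun P hP => ?_
    rcases hP with rfl | hP
    · exact ⟨Subgroup.zpowers_le.mpr hzS, fun α hα =>
        hin P α hα le_rfl hzS (h.map_center (isMor_autFun le_rfl hα))⟩
    · have hPS : P ≤ S := hP.1.1
      have hzP : z ∈ P := centric_centralizer_le hP.1 (mem_centralizerIn.mpr ⟨hzS, fun x hx =>
        cj_fixed_iff.mpr (h.z_comm x (hPS hx)).symm⟩)
      refine ⟨Subgroup.zpowers_le.mpr hzP, fun α hα => hin P α hα hPS hzP ?_⟩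
      by_cases hPQ : P ≤ Q
      · have h6 : p ^ 6 ≤ Nat.card S := by
          rw [h.card_S]
          exact Nat.pow_le_pow_right hp.out.pos (by linarith [h.two_le])
        obtain rfl := Cfsg.Agent.S5179.result p h.odd h.group Q h.le h.extra h.index h6 F h.sat
          h.core P hPQ hP
        refine h.center_Q _ (autFun_mem α hzP) fun b hb => ?_
        rw [← autFun_inv_right α hb, ← autFun_map_mul α hzP (autFun_mem _ hb),
          ← autFun_map_mul α (autFun_mem _ hb) hzP, h.z_comm _ (hPS (autFun_mem _ hb))]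
      · exact hcon P α hP hPQ hα hzP
  have hle : Subgroup.zpowers z ≤ F.core := le_sSup hN
  rw [h.core] at hle
  have h1 := Subgroup.mem_bot.mp (hle (Subgroup.mem_zpowers z))
  have h2 := h.z_order
  rw [h1, orderOf_one] at h2
  exact hp.out.ne_one h2.symm

end Ctx

theorem stmtReduction : StmtReduction.{u} := by
  intro Ω _ p n _ S Q F z h
  by_cases h1 : CaseOne S Q F z
  · exact Or.inl h1
  right
  haveI := h.finite
  obtain ⟨E, α, hE, hEQ, hα, hzE, hnot⟩ := h.exists_moving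
  have hES : E ≤ S := hE.1.1
  have hm := isMor_autFun hES hα
  obtain ⟨x, hxdef⟩ : ∃ x, x = autFun α z := ⟨_, rfl⟩
  have hxE : x ∈ E := hxdef ▸ autFun_mem α hzE
  have hconj : F.IsConjElt z x := hxdef ▸ isConjElt_of_mor hm hzE
  have hEx : ∀ e ∈ E, e * x = x * e := fun e he => by
    rw [hxdef, ← autFun_inv_right α he, ← autFun_map_mul α (autFun_mem _ he) hzE,
      ← autFun_map_mul α hzE (autFun_mem _ he), h.z_comm _ (hES (autFun_mem _ he))]
  have hzp : z ^ p = 1 := h.z_order ▸ pow_orderOf_eq_one z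
  have hxp : x ^ p = 1 := by rw [hxdef, ← hm.map_pow hzE, hzp, hm.map_one]
  have hxQ : x ∉ Q := by
    intro hx
    obtain ⟨g, hg, hgQ⟩ := SetLike.not_le_iff_exists.mp hEQ
    exact h1 ⟨x, g, hx, hxdef ▸ hnot, hconj, hES hg, hgQ, hEx g hg⟩
  have hxS : x ∈ S := hES hxE
  obtain ⟨φ, hφ, hφx⟩ := h.receive hconj
  have hzC : z ∈ cS S x := mem_cS.mpr ⟨h.le h.z_mem, (h.z_comm x hxS).symm⟩
  have hz' : F.IsConjElt z (φ z) := isConjElt_of_mor hφ hzC
  have hz'n : φ z ∉ Subgroup.zpowers z := by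
    intro hh
    obtain ⟨k, hk⟩ := Subgroup.mem_zpowers_iff.mp hh
    have hk : φ (x ^ k) = φ z := by rw [hφ.map_zpow (self_mem_cS hxS), hφx, hk]
    have hzx : z ∈ Subgroup.zpowers x := Subgroup.mem_zpowers_iff.mpr
      ⟨k, hφ.inj (zpow_mem (self_mem_cS hxS) k) hzC hk⟩
    have hle : Subgroup.zpowers z ≤ Subgroup.zpowers x := Subgroup.zpowers_le.mpr hzx
    have hx1 : x ≠ 1 := fun e => hxQ (e ▸ Q.one_mem)
    haveI : Finite (Subgroup.zpowers x) := finite_of_le (Subgroup.zpowers_le.mpr hxS)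
    have he := eq_of_le_of_card (Subgroup.zpowers_le.mpr hxS) hle
      (by rw [Nat.card_zpowers, Nat.card_zpowers, h.z_order, orderOf_eq_prime hxp hx1])
    exact hxQ (h.zpowers_le (he.ge (Subgroup.mem_zpowers x)))
  have hab : ∀ a ∈ Q, ∀ b ∈ Q, a * x = x * a → b * x = x * b → a * b = b * a := by
    intro a ha b hb hax hbx
    have haC : a ∈ cS S x := mem_cS.mpr ⟨h.le ha, hax⟩
    have hbC : b ∈ cS S x := mem_cS.mpr ⟨h.le hb, hbx⟩
    obtain ⟨i, hi⟩ : ∃ i : ZMod p, ⁅a, b⁆ = zp z i :=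
      exists_zp h.z_order (h.commutator_center ha hb)
    by_contra hne
    have hi0 : i ≠ 0 := fun e => hne (commutatorElement_eq_one_iff_mul_comm.mp (by
      rw [hi, e, zp_zero]))
    have e1 : ⁅φ a, φ b⁆ = zp (φ z) i := by
      rw [← map_commutator' hφ haC hbC, hi, map_zp' hφ hzC]
    have hzp' : φ z ^ p = 1 := by rw [← hφ.map_pow hzC, hzp, hφ.map_one]
    have hz'Q : φ z ∈ Q := mem_of_zp_mem hzp' hi0
      (e1 ▸ h.commutator_mem (hφ.mem haC) (hφ.mem hbC))
    have hMQ : ∀ c ∈ cS S x, φ c ∈ Q := fun c hc => by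
      by_contra hcQ
      refine h1 ⟨φ z, φ c, hz'Q, hz'n, hz', hφ.mem hc, hcQ, ?_⟩
      rw [← hφ.map_mul hc hzC, ← hφ.map_mul hzC hc, h.z_comm c (mem_cS.mp hc).1]
    have hm1 : ⁅φ a, φ b⁆ ∈ Subgroup.zpowers z :=
      h.commutator_center (hMQ a haC) (hMQ b hbC)
    exact hz'n (mem_of_zp_mem hzp' hi0 (e1 ▸ hm1))
  have hCeq : cS S x = Subgroup.zpowers x ⊔ (Q ⊓ Subgroup.centralizer {x}) := by
    refine le_antisymm (fun s hs => ?_) (sup_le (Subgroup.zpowers_le.mpr (self_mem_cS hxS))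
      (inf_le_inf_right _ h.le))
    obtain ⟨k, hk⟩ := h.exists_mul_mem hxS hxQ (mem_cS.mp hs).1
    have hk' : s * (x ^ k)⁻¹ ∈ cS S x :=
      (cS S x).mul_mem hs ((cS S x).inv_mem ((cS S x).pow_mem (self_mem_cS hxS) k))
    rw [← inv_mul_cancel_right s (x ^ k)]
    exact Subgroup.mul_mem _
      (Subgroup.mem_sup_right ⟨hk, Subgroup.mem_centralizer_singleton_iff.mpr (mem_cS.mp hk').2⟩)
      (Subgroup.mem_sup_left (pow_mem (Subgroup.mem_zpowers x) k))
  have hcomm : ∀ s ∈ cS S x, ∀ t ∈ cS S x, s * t = t * s := by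
    intro s hs t ht
    obtain ⟨k, hk⟩ := h.exists_mul_mem hxS hxQ (mem_cS.mp hs).1
    obtain ⟨l, hl⟩ := h.exists_mul_mem hxS hxQ (mem_cS.mp ht).1
    have hs' : Commute (s * (x ^ k)⁻¹) x := (show Commute s x from (mem_cS.mp hs).2).mul_left
      ((Commute.refl x).pow_left k).inv_left
    have ht' : Commute (t * (x ^ l)⁻¹) x := (show Commute t x from (mem_cS.mp ht).2).mul_left
      ((Commute.refl x).pow_left l).inv_left
    have h2 : Commute (s * (x ^ k)⁻¹) (t * (x ^ l)⁻¹) := hab _ hk _ hl hs' ht'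
    have h3 : Commute (s * (x ^ k)⁻¹ * x ^ k) (t * (x ^ l)⁻¹ * x ^ l) :=
      (h2.mul_right (hs'.pow_right l)).mul_left
        (((ht'.pow_right k).symm).mul_right (Commute.pow_pow (Commute.refl x) k l))
    rwa [inv_mul_cancel_right, inv_mul_cancel_right] at h3
  have hEC : E = cS S x := by
    refine le_antisymm (fun e he => mem_cS.mpr ⟨hES he, hEx e he⟩) fun s hs => ?_
    refine centric_centralizer_le hE.1 (mem_centralizerIn.mpr ⟨(mem_cS.mp hs).1, fun e he =>
      cj_fixed_iff.mpr (hcomm s hs e (mem_cS.mpr ⟨hES he, hEx e he⟩))⟩)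
  exact ⟨E, α, x,
    { not_one := h1, ess := hE, aut := hα, z_mem := hzE, image := hxdef.symm, x_mem := hxS,
      x_not := hxQ, x_pow := hxp, abelian := hab, E_eq := hEC.trans hCeq,
      no_conj := fun a ha hax han hc => h1 ⟨a, x, ha, han, hc, hxS, hxQ, hax.symm⟩ }⟩

end CfsgLib.ExtraIndexP
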