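import Cfsg.Agent.Lib.ExtraIndexP.Tools
import Cfsg.Agent.Lib.ExtraIndexP.Reduction

/-!
# The first case: dimension, rank and the power map on a hyperplane
-/

set_option autoImplicit false
set_option linter.style.haveILetI false
set_option linter.unusedSectionVars false

open Cfsg Cfsg.FusionSystem CfsgLib.Fusion Module
open scoped commutatorElement

namespace CfsgLib.ExtraIndexP

universe u

variable {Ω : Type u} [Group Ω] {p n : ℕ} [hp : Fact p.Prime] {S Q : Subgroup Ω}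
  {F : FusionSystem S} {z : Ω}

/-- What a map sends into `H`. -/
def preimg {P : Subgroup Ω} {f : Ω → Ω} (hf : IsMor F P f) (H : Subgroup Ω) : Subgroup Ω where
  carrier := {c | c ∈ P ∧ f c ∈ H}
  one_mem' := ⟨P.one_mem, by rw [hf.map_one]; exact H.one_mem⟩
  mul_mem' {a b} ha hb := ⟨P.mul_mem ha.1 hb.1, by
    rw [hf.map_mul ha.1 hb.1]; exact H.mul_mem ha.2 hb.2⟩
  inv_mem' {a} ha := ⟨P.inv_mem ha.1, by rw [hf.map_inv ha.1]; exact H.inv_mem ha.2⟩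

omit hp in
theorem mem_preimg {P : Subgroup Ω} {f : Ω → Ω} (hf : IsMor F P f) {H : Subgroup Ω} {c : Ω} :
    c ∈ preimg hf H ↔ c ∈ P ∧ f c ∈ H := Iff.rfl

/-- A proper subgroup of a `p`-group is `p` times smaller. -/
theorem mul_card_le [Finite S] (hS : IsPGroup p S) {A B : Subgroup Ω} (hB : B ≤ S) (hAB : A < B) :
    p * Nat.card A ≤ Nat.card B := by
  haveI : Finite B := finite_of_le hB
  haveI : Finite A := finite_of_le (hAB.le.trans hB)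
  obtain ⟨j, hj⟩ := (isPGroup_of_le hB hS).exists_card_eq
  obtain ⟨i, hi⟩ := (isPGroup_of_le (hAB.le.trans hB) hS).exists_card_eq
  have hlt := card_lt_of_lt hB hAB
  rw [hi, hj] at hlt ⊢
  rw [← pow_succ']
  exact Nat.pow_le_pow_right hp.out.pos ((Nat.pow_lt_pow_iff_right hp.out.one_lt).mp hlt)

theorem zp_zp {w : Ω} (hw : w ^ p = 1) {c : ZMod p} (hc : c ≠ 0) : zp (zp w c) c⁻¹ = w := by
  by_cases hw1 : w = 1
  · simp [hw1, zp]
  show zp w c ^ (c⁻¹).val = w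
  rw [zp_pow (orderOf_eq_prime hw hw1), ZMod.natCast_zmod_val, inv_mul_cancel₀ hc, zp_one]

/-- `y` is a conjugate of `z` in `Q` centralised by `g` outside `Q`, and `φ` takes it back. -/
structure Wit (S Q : Subgroup Ω) (F : FusionSystem S) (z y g : Ω) (φ : Ω → Ω) : Prop where
  hy : y ∈ Q
  hyz : y ∉ Subgroup.zpowers z
  hg : g ∈ S
  hgQ : g ∉ Q
  hgy : g * y = y * g
  hφ : IsMor F (cS S y) φ
  φy : φ y = z

theorem exists_wit (h : Ctx p n S Q F z) (h1 : CaseOne S Q F z) :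
    ∃ y g φ, Wit S Q F z y g φ := by
  obtain ⟨y, g, hy, hyz, hc, hg, hgQ, hgy⟩ := h1
  obtain ⟨φ, hφ, e⟩ := h.receive hc
  exact ⟨y, g, φ, hy, hyz, hg, hgQ, hgy, hφ, e⟩

namespace Wit

variable {y g : Ω} {φ : Ω → Ω} (W : Wit S Q F z y g φ)
  (h : Ctx p n S Q F z) (K : Coords p n S Q z)

include W

omit hp in
theorem g_mem : g ∈ cS S y := mem_cS.mpr ⟨W.hg, W.hgy⟩

include h

omit hp in
theorem y_mem : y ∈ cS S y := self_mem_cS (h.le W.hy)

omit hp in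
theorem z_mem : z ∈ cS S y :=
  mem_cS.mpr ⟨h.le h.z_mem, (h.z_comm y (h.le W.hy)).symm⟩

omit hp in
theorem y_pow : y ^ p = 1 := W.hφ.inj (Subgroup.pow_mem _ (W.y_mem h) p) (cS S y).one_mem (by
  rw [W.hφ.map_pow (W.y_mem h), W.φy, W.hφ.map_one, ← h.z_order, pow_orderOf_eq_one])

theorem z'_not : φ z ∉ Subgroup.zpowers z := by
  intro hh
  obtain ⟨i, hi⟩ := exists_zp h.z_order hh
  have e : φ (zp y i) = φ z := by rw [map_zp' W.hφ (W.y_mem h), W.φy, hi]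
  have hzy : zp y i = z := W.hφ.inj (Subgroup.pow_mem _ (W.y_mem h) _) (W.z_mem h) e
  by_cases hi0 : i = 0
  · have h1 : z = 1 := by rw [← hzy, hi0, zp_zero]
    have h2 := h.z_order
    rw [h1, orderOf_one] at h2
    exact hp.out.ne_one h2.symm
  · exact W.hyz (mem_of_zp_mem (W.y_pow h) hi0 (hzy.symm ▸ Subgroup.mem_zpowers z))

omit hp in
theorem z'_conj : F.IsConjElt z (φ z) := isConjElt_of_mor W.hφ (W.z_mem h)

omit hp in
theorem z'_pow : φ z ^ p = 1 := by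
  rw [← W.hφ.map_pow (W.z_mem h), ← h.z_order, pow_orderOf_eq_one, W.hφ.map_one]

include K

theorem w_ne : K.π y ≠ 0 := fun e => W.hyz ((K.π_eq_zero y W.hy).mp e)

theorem ker_mem {s : Ω} (hs : s ∈ S) : K.π y ∈ LinearMap.ker (K.act s - 1) := by
  refine (K.range_le h W.hg W.hgQ hs).2 (LinearMap.mem_ker.mpr ?_)
  rw [← K.π_commutator h W.hg W.hy, commutatorElement_eq_one_iff_mul_comm.mpr W.hgy, K.π_one]

theorem range_le_perp : LinearMap.range (K.act g - 1) ≤ LinearMap.ker (K.B (K.π y)) := by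
  rintro _ ⟨v, rfl⟩
  exact (K.mem_ker_iff W.hg _).mp (W.ker_mem h K W.hg) v

theorem mem_C {a : Ω} (ha : a ∈ Q) : a ∈ cS S y ↔ K.B (K.π y) (K.π a) = 0 := by
  rw [← K.comm_eq_one_iff h W.hy ha, mem_cS, and_iff_right (h.le ha)]
  exact eq_comm

theorem inf_eq : cS S y ⊓ Q = K.lift (LinearMap.ker (K.B (K.π y))) := by
  ext a
  rw [Subgroup.mem_inf, K.mem_lift, LinearMap.mem_ker]
  exact ⟨fun ⟨ha, hq⟩ => ⟨hq, (W.mem_C h K hq).mp ha⟩,
    fun ⟨hq, ha⟩ => ⟨(W.mem_C h K hq).mpr ha, hq⟩⟩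

theorem card_C : p * p ^ (2 * n) ≤ Nat.card (cS S y) := by
  haveI := h.finite
  have hlt : cS S y ⊓ Q < cS S y :=
    lt_of_le_of_ne inf_le_left fun e => W.hgQ (inf_eq_left.mp e W.g_mem)
  have h1 := mul_card_le h.group (B := cS S y) inf_le_left hlt
  rwa [W.inf_eq h K, K.card_lift h, K.finrank_ker_B (W.w_ne h K)] at h1

theorem comm_φ {a b : Ω} (ha : a ∈ Q) (hb : b ∈ Q) (haC : a ∈ cS S y) (hbC : b ∈ cS S y) :
    ⁅φ a, φ b⁆ = zp (φ z) (K.B (K.π a) (K.π b)) := by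
  rw [← map_commutator' W.hφ haC hbC, K.comm a ha b hb, map_zp' W.hφ (W.z_mem h)]

theorem z'_mem : φ z ∈ Q := by
  obtain ⟨v, v', hv, hv', hne⟩ := K.exists_B_ne h (W.w_ne h K)
  obtain ⟨a, ha, rfl⟩ := K.π_surj v
  obtain ⟨b, hb, rfl⟩ := K.π_surj v'
  have haC := (W.mem_C h K ha).mpr hv
  have hbC := (W.mem_C h K hb).mpr hv'
  exact mem_of_zp_mem (W.z'_pow h) hne
    (W.comm_φ h K ha hb haC hbC ▸ h.commutator_mem (W.hφ.mem haC) (W.hφ.mem hbC))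

theorem abelian {a b : Ω} (ha : a ∈ Q) (hb : b ∈ Q) (haP : a ∈ preimg W.hφ Q)
    (hbP : b ∈ preimg W.hφ Q) : K.B (K.π a) (K.π b) = 0 := by
  by_contra hne
  exact W.z'_not h (mem_of_zp_mem (W.z'_pow h) hne
    (W.comm_φ h K ha hb haP.1 hbP.1 ▸ h.commutator_center haP.2 hbP.2))

theorem exists_a0 : ∃ a ∈ Q, a ∈ cS S y ∧ φ a ∉ Q := by
  by_contra hcon
  push Not at hcon
  obtain ⟨v, v', hv, hv', hne⟩ := K.exists_B_ne h (W.w_ne h K)
  obtain ⟨a, ha, rfl⟩ := K.π_surj v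
  obtain ⟨b, hb, rfl⟩ := K.π_surj v'
  have haC := (W.mem_C h K ha).mpr hv
  have hbC := (W.mem_C h K hb).mpr hv'
  exact hne (W.abelian h K ha hb ⟨haC, hcon a ha haC⟩ ⟨hbC, hcon b hb hbC⟩)

theorem y_pre : y ∈ preimg W.hφ Q := ⟨W.y_mem h, W.φy.symm ▸ h.z_mem⟩

theorem z_pre : z ∈ preimg W.hφ Q := ⟨W.z_mem h, W.z'_mem h K⟩

theorem proj_le : K.proj (preimg W.hφ Q) ≤ LinearMap.ker (K.B (K.π y)) := by
  rintro _ ⟨a, ha, haP, rfl⟩
  exact (W.mem_C h K ha).mp haP.1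

theorem perp_le : ∃ v, LinearMap.ker (K.B (K.π y)) ≤
    K.proj (preimg W.hφ Q) ⊔ Submodule.span (ZMod p) {v} := by
  obtain ⟨a0, ha0, ha0C, ha0Q⟩ := W.exists_a0 h K
  refine ⟨K.π a0, fun v hv => ?_⟩
  obtain ⟨a, ha, rfl⟩ := K.π_surj v
  have haC := (W.mem_C h K ha).mpr hv
  obtain ⟨k, hk⟩ := h.exists_mul_mem (W.hφ.mem ha0C) ha0Q (W.hφ.mem haC)
  have hk0C := Subgroup.pow_mem _ ha0C k
  have hb : a * (a0 ^ k)⁻¹ ∈ preimg W.hφ Q := ⟨(cS S y).mul_mem haC ((cS S y).inv_mem hk0C), by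
    rwa [W.hφ.map_mul haC ((cS S y).inv_mem hk0C), W.hφ.map_inv hk0C, W.hφ.map_pow ha0C]⟩
  have hbQ := Q.mul_mem ha (Q.inv_mem (Q.pow_mem ha0 k))
  refine Submodule.mem_sup.mpr ⟨_, ⟨_, hbQ, hb, rfl⟩, k • K.π a0,
    nsmul_mem (Submodule.mem_span_singleton_self _) k, ?_⟩
  rw [K.π_mul a ha _ (Q.inv_mem (Q.pow_mem ha0 k)), K.π_inv (Q.pow_mem ha0 k), K.π_pow ha0,
    neg_add_cancel_right]

theorem dims : n = 2 ∧ finrank (ZMod p) (K.proj (preimg W.hφ Q)) = 2 := by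
  obtain ⟨v, hv⟩ := W.perp_le h K
  have h1 := Submodule.finrank_mono hv
  have h2 := Submodule.finrank_add_le_finrank_add_finrank (K.proj (preimg W.hφ Q))
    (Submodule.span (ZMod p) {v})
  have h3 : finrank (ZMod p) (Submodule.span (ZMod p) {v}) ≤ 1 := by
    refine le_trans (finrank_span_le_card _) ?_
    simp
  have h4 := K.finrank_ker_B (W.w_ne h K)
  have h5 := K.isotropic_le (W := K.proj (preimg W.hφ Q)) (by
    rintro _ ⟨a, ha, haP, rfl⟩ _ ⟨b, hb, hbP, rfl⟩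
    exact W.abelian h K ha hb haP hbP)
  have h6 := h.two_le
  omega

/-- The key element outside `Q`, and one in `Q` which it moves to `y`. -/
theorem core : ∃ g₁ d : Ω, g₁ ∈ preimg W.hφ Q ∧ g₁ ∉ Q ∧ d ∈ Q ∧ d ∈ preimg W.hφ Q ∧
    K.π d ∉ Submodule.span (ZMod p) {K.π y} ∧
    ∃ i : ZMod p, i ≠ 0 ∧ (K.act g₁ - 1) (K.π d) = i • K.π y := by
  haveI := h.finite
  obtain ⟨a0, ha0, ha0C, ha0Q⟩ := W.exists_a0 h K
  obtain ⟨k, hk⟩ := h.exists_mul_mem (W.hφ.mem ha0C) ha0Q (W.hφ.mem W.g_mem)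
  have hk0C := Subgroup.pow_mem _ ha0C k
  have hgP : g * (a0 ^ k)⁻¹ ∈ preimg W.hφ Q :=
    ⟨(cS S y).mul_mem W.g_mem ((cS S y).inv_mem hk0C), by
      rwa [W.hφ.map_mul W.g_mem ((cS S y).inv_mem hk0C), W.hφ.map_inv hk0C, W.hφ.map_pow ha0C]⟩
  obtain ⟨g₁, hg₁⟩ : ∃ g₁, g₁ = g * (a0 ^ k)⁻¹ := ⟨_, rfl⟩
  rw [← hg₁] at hgP
  have hg₁Q : g₁ ∉ Q := fun e => W.hgQ (by
    have := Q.mul_mem e (Q.pow_mem ha0 k)
    rwa [hg₁, inv_mul_cancel_right] at this)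
  have hg₁S : g₁ ∈ S := (mem_cS.mp hgP.1).1
  obtain ⟨hn, h2⟩ := W.dims h K
  have hex : ∃ v ∈ K.proj (preimg W.hφ Q), v ∉ Submodule.span (ZMod p) {K.π y} := by
    refine SetLike.not_le_iff_exists.mp fun hle => ?_
    have := (Submodule.finrank_mono hle).trans (finrank_span_singleton (W.w_ne h K)).le
    omega
  obtain ⟨v, ⟨d, hd, hdP, rfl⟩, hdy⟩ := hex
  obtain ⟨i, hi⟩ := exists_zp h.z_order (h.commutator_center hgP.2 hdP.2)
  have hyi : zp y i ∈ cS S y := Subgroup.pow_mem _ (W.y_mem h) _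
  have e : ⁅g₁, d⁆ = zp y i := by
    refine W.hφ.inj ?_ hyi ?_
    · exact (cS S y).mul_mem ((cS S y).mul_mem ((cS S y).mul_mem hgP.1 hdP.1)
        ((cS S y).inv_mem hgP.1)) ((cS S y).inv_mem hdP.1)
    · rw [map_commutator' W.hφ hgP.1 hdP.1, hi, map_zp' W.hφ (W.y_mem h), W.φy]
  have hi0 : i ≠ 0 := by
    intro hi0
    rw [hi0, zp_zero, commutatorElement_eq_one_iff_mul_comm] at e
    -- then everything sent into `Q` commutes
    have hspan : K.proj (preimg W.hφ Q) ≤ Submodule.span (ZMod p) {K.π y, K.π d} := by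
      refine (Submodule.eq_of_le_of_finrank_le (Submodule.span_le.mpr ?_) ?_).ge
      · rintro v (rfl | rfl)
        · exact ⟨y, W.hy, W.y_pre h K, rfl⟩
        · exact ⟨d, hd, hdP, rfl⟩
      · rw [h2]
        have hlt : Submodule.span (ZMod p) {K.π y} < Submodule.span (ZMod p) {K.π y, K.π d} :=
          lt_of_le_of_ne (Submodule.span_mono (by simp)) fun e' =>
            hdy (e'.ge (Submodule.subset_span (by simp)))
        have := Submodule.finrank_lt_finrank_of_lt hlt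
        rw [finrank_span_singleton (W.w_ne h K)] at this
        omega
    have hcg : ∀ a ∈ Q, a ∈ preimg W.hφ Q → g₁ * a = a * g₁ := fun a ha haP => by
      refine K.comm_of_span h hg₁S ?_ ha (hspan ⟨a, ha, haP, rfl⟩)
      rintro v (rfl | rfl)
      · exact ⟨y, W.hy, rfl, (mem_cS.mp hgP.1).2⟩
      · exact ⟨d, hd, rfl, e⟩
    have hcomm : ∀ c ∈ preimg W.hφ Q, ∀ c' ∈ preimg W.hφ Q, c * c' = c' * c := by
      intro c hc c' hc'
      obtain ⟨l, hl⟩ := h.exists_mul_mem hg₁S hg₁Q (mem_cS.mp hc.1).1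
      obtain ⟨m, hm⟩ := h.exists_mul_mem hg₁S hg₁Q (mem_cS.mp hc'.1).1
      have hl' : c * (g₁ ^ l)⁻¹ ∈ preimg W.hφ Q :=
        Subgroup.mul_mem _ hc (Subgroup.inv_mem _ (Subgroup.pow_mem _ hgP l))
      have hm' : c' * (g₁ ^ m)⁻¹ ∈ preimg W.hφ Q :=
        Subgroup.mul_mem _ hc' (Subgroup.inv_mem _ (Subgroup.pow_mem _ hgP m))
      have h3 : Commute (c * (g₁ ^ l)⁻¹) (c' * (g₁ ^ m)⁻¹) :=
        (K.comm_eq_one_iff h hl hm).mpr (W.abelian h K hl hm hl' hm')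
      have hlg : Commute g₁ (c * (g₁ ^ l)⁻¹) := hcg _ hl hl'
      have hmg : Commute g₁ (c' * (g₁ ^ m)⁻¹) := hcg _ hm hm'
      have h4 : Commute (c * (g₁ ^ l)⁻¹ * g₁ ^ l) (c' * (g₁ ^ m)⁻¹ * g₁ ^ m) :=
        (h3.mul_right (hlg.pow_left m).symm).mul_left
          ((hmg.pow_left l).mul_right (Commute.pow_pow (Commute.refl g₁) l m))
      rwa [inv_mul_cancel_right, inv_mul_cancel_right] at h4
    have hw' : K.π (φ z) ≠ 0 := fun e' => W.z'_not h ((K.π_eq_zero _ (W.z'_mem h K)).mp e')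
    obtain ⟨T, hT⟩ : ∃ T, T = img (cS S y) φ := ⟨_, rfl⟩
    have hTQ : T ⊓ Q ≤ K.lift (LinearMap.ker (K.B (K.π (φ z)))) := by
      rintro _ ⟨hx, hxQ⟩
      obtain ⟨c, hc, rfl⟩ := W.hφ.mem_img.mp (hT ▸ hx)
      refine ⟨hxQ, LinearMap.mem_ker.mpr ((K.comm_eq_one_iff h (W.z'_mem h K) hxQ).mp ?_)⟩
      rw [← W.hφ.map_mul (W.z_mem h) hc, ← W.hφ.map_mul hc (W.z_mem h),
        h.z_comm c (mem_cS.mp hc).1]
    have hTS : T ≤ S := hT ▸ W.hφ.img_le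
    have heq : T ⊓ Q = K.lift (LinearMap.ker (K.B (K.π (φ z)))) := by
      refine eq_of_le_of_card (fun a ha => h.le ha.1) hTQ ?_
      have h7 := (W.card_C h K).trans_eq (hT ▸ W.hφ.card_img).symm
      rw [K.card_lift h, K.finrank_ker_B hw']
      exact Nat.le_of_mul_le_mul_left (h7.trans (h.card_le_inf hTS)) hp.out.pos
    obtain ⟨v, v', hv, hv', hne⟩ := K.exists_B_ne h hw'
    obtain ⟨a, ha, rfl⟩ := K.π_surj v
    obtain ⟨b, hb, rfl⟩ := K.π_surj v'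
    obtain ⟨c, hc, rfl⟩ := W.hφ.mem_img.mp (hT ▸ (heq.ge (show a ∈ K.lift _ from ⟨ha, hv⟩)).1)
    obtain ⟨c', hc', rfl⟩ := W.hφ.mem_img.mp (hT ▸ (heq.ge (show b ∈ K.lift _ from ⟨hb, hv'⟩)).1)
    refine hne ((K.comm_eq_one_iff h ha hb).mp ?_)
    rw [← W.hφ.map_mul hc hc', ← W.hφ.map_mul hc' hc, hcomm c ⟨hc, ha⟩ c' ⟨hc', hb⟩]
  refine ⟨g₁, d, hgP, hg₁Q, hd, hdP, hdy, i, hi0, ?_⟩
  rw [← K.π_commutator h hg₁S hd, e, zp, K.π_pow W.hy, ← Nat.cast_smul_eq_nsmul (ZMod p),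
    ZMod.natCast_zmod_val]

theorem rank_two : 2 ≤ finrank (ZMod p) (LinearMap.range (K.act g - 1)) := by
  obtain ⟨g₁, d, hg₁, hg₁Q, hd, hdP, hdy, i, hi, e⟩ := W.core h K
  rw [← K.range_eq h W.hg W.hgQ (mem_cS.mp hg₁.1).1 hg₁Q]
  by_contra hlt
  have hmem : K.π y ∈ LinearMap.range (K.act g₁ - 1) :=
    ⟨i⁻¹ • K.π d, by rw [map_smul, e, smul_smul, inv_mul_cancel₀ hi, one_smul]⟩
  have heq : Submodule.span (ZMod p) {K.π y} = LinearMap.range (K.act g₁ - 1) :=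
    Submodule.eq_of_le_of_finrank_le ((Submodule.span_singleton_le_iff_mem _ _).mpr hmem)
      (by rw [finrank_span_singleton (W.w_ne h K)]; omega)
  have hker : K.π d ∈ LinearMap.ker (K.act g₁ - 1) := by
    refine (K.mem_ker_iff (mem_cS.mp hg₁.1).1 _).mpr fun v => ?_
    obtain ⟨c, hc⟩ := Submodule.mem_span_singleton.mp
      (heq.ge (LinearMap.mem_range_self (K.act g₁ - 1) v))
    rw [← hc, map_smul, K.flip, (W.mem_C h K hd).mp hdP.1, neg_zero, smul_zero]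
  rw [LinearMap.mem_ker, e] at hker
  exact hi ((smul_eq_zero.mp hker).resolve_right (W.w_ne h K))

theorem θ_perp : LinearMap.ker (K.B (K.π y)) ≤ LinearMap.ker K.θ := by
  obtain ⟨hn, h2⟩ := W.dims h K
  have hU : LinearMap.range (K.act g - 1) ⊔ K.proj (preimg W.hφ Q) ≤ LinearMap.ker K.θ := by
    refine sup_le ?_ ?_
    · rintro _ ⟨v, rfl⟩
      exact K.θ_sub_one W.hg v
    · rintro _ ⟨a, ha, haP, rfl⟩
      refine by_contra fun hne => W.z'_not h (mem_of_zp_mem (W.z'_pow h) hne ?_)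
      rw [← map_zp' W.hφ (W.z_mem h), ← K.pow a ha, W.hφ.map_pow haP.1, K.pow _ haP.2]
      exact zp_mem _ _
  have hne : ¬ LinearMap.range (K.act g - 1) ≤ K.proj (preimg W.hφ Q) := by
    intro hle
    obtain ⟨g₁, d, hg₁, hg₁Q, hd, hdP, hdy, i, hi, e⟩ := W.core h K
    have hker : K.π d ∈ LinearMap.ker (K.act g₁ - 1) := by
      rw [K.ker_eq h W.hg W.hgQ (mem_cS.mp hg₁.1).1 hg₁Q]
      refine (K.mem_ker_iff W.hg _).mpr fun v => ?_
      obtain ⟨b, hb, hbP, hbe⟩ := K.mem_proj.mp (hle (LinearMap.mem_range_self (K.act g - 1) v))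
      rw [← hbe]
      exact W.abelian h K hd hb hdP hbP
    rw [LinearMap.mem_ker, e] at hker
    exact hi ((smul_eq_zero.mp hker).resolve_right (W.w_ne h K))
  have hlt : K.proj (preimg W.hφ Q) <
      LinearMap.range (K.act g - 1) ⊔ K.proj (preimg W.hφ Q) := right_lt_sup.mpr hne
  have h3 := Submodule.finrank_lt_finrank_of_lt hlt
  have h4 := K.finrank_ker_B (W.w_ne h K)
  refine (Submodule.eq_of_le_of_finrank_le (sup_le (W.range_le_perp h K) (W.proj_le h K))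
    (by omega)).ge.trans hU

end Wit

end CfsgLib.ExtraIndexP
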