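import Mathlib
import Cfsg.Prelude.Def_FusionSystem
import Cfsg.Prelude.Def_Transfer
import Cfsg.Prelude.Def_Classical
import Cfsg.Prelude.Def_G2
import Cfsg.Agent.Lib.Fusion.Aut

/-!
# An extraspecial subgroup of index `p` (statement S5177): interface

The plan is in `tools/S5177_plan.md`. `zp z i` is the element `z ^ i` of the centre; `Coords` makes
`Q` modulo the centre a symplectic space on which `S` acts.
-/

set_option autoImplicit false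

open Cfsg Cfsg.FusionSystem CfsgLib.Fusion Module
open scoped commutatorElement

namespace CfsgLib.ExtraIndexP

universe u

variable {Ω : Type u} [Group Ω]

/-- The power of `z` with exponent in `ZMod p`. -/
def zp {p : ℕ} (z : Ω) (i : ZMod p) : Ω := z ^ i.val

/-- The standing hypotheses; `z` generates the centre of `S` and of `Q`. -/
structure Ctx (p n : ℕ) (S Q : Subgroup Ω) (F : FusionSystem S) (z : Ω) : Prop where
  prime : p.Prime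
  odd : Odd p
  finite : Finite S
  group : IsPGroup p S
  le : Q ≤ S
  extra : IsExtraspecial p ↥Q
  index : (Q.subgroupOf S).index = p
  two_le : 2 ≤ n
  card_Q : Nat.card Q = p ^ (2 * n + 1)
  card_S : Nat.card S = p ^ (2 * n + 2)
  z_mem : z ∈ Q
  z_order : orderOf z = p
  z_comm : ∀ s ∈ S, s * z = z * s
  center_Q : ∀ a ∈ Q, (∀ b ∈ Q, a * b = b * a) → a ∈ Subgroup.zpowers z
  center_S : ∀ a ∈ S, (∀ b ∈ S, a * b = b * a) → a ∈ Subgroup.zpowers z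
  normal : ∀ s ∈ S, ∀ a ∈ Q, cj s a ∈ Q
  sat : F.IsSaturated p
  core : F.core = ⊥

/-- `Q` modulo the centre as a symplectic space, and the action of `S` on it. -/
structure Coords (p n : ℕ) (S Q : Subgroup Ω) (z : Ω) where
  π : Ω → (Fin (2 * n) → ZMod p)
  B : (Fin (2 * n) → ZMod p) →ₗ[ZMod p] (Fin (2 * n) → ZMod p) →ₗ[ZMod p] ZMod p
  θ : (Fin (2 * n) → ZMod p) →ₗ[ZMod p] ZMod p
  act : Ω → Module.End (ZMod p) (Fin (2 * n) → ZMod p)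
  π_mul : ∀ a ∈ Q, ∀ b ∈ Q, π (a * b) = π a + π b
  π_surj : ∀ v, ∃ a ∈ Q, π a = v
  π_eq_zero : ∀ a ∈ Q, (π a = 0 ↔ a ∈ Subgroup.zpowers z)
  comm : ∀ a ∈ Q, ∀ b ∈ Q, ⁅a, b⁆ = zp z (B (π a) (π b))
  pow : ∀ a ∈ Q, a ^ p = zp z (θ (π a))
  act_spec : ∀ s ∈ S, ∀ a ∈ Q, π (cj s a) = act s (π a)
  act_mul : ∀ s ∈ S, ∀ t ∈ S, act (s * t) = act s * act t
  act_Q : ∀ s ∈ Q, act s = 1
  act_ne : ∀ s ∈ S, s ∉ Q → act s ≠ 1
  act_pow : ∀ s ∈ S, act s ^ p = 1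
  alt : ∀ v, B v v = 0
  nondeg : ∀ v, (∀ w, B v w = 0) → v = 0
  isometry : ∀ s ∈ S, ∀ v w, B (act s v) (act s w) = B v w
  θ_act : ∀ s ∈ S, ∀ v, θ (act s v) = θ v

/-- Some conjugate of `z` in `Q`, outside the centre, is centralised by an element outside `Q`. -/
def CaseOne (S Q : Subgroup Ω) (F : FusionSystem S) (z : Ω) : Prop :=
  ∃ y g : Ω, y ∈ Q ∧ y ∉ Subgroup.zpowers z ∧ F.IsConjElt z y ∧ g ∈ S ∧ g ∉ Q ∧ g * y = y * g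

/-- The other case: an automorphism `α` of an essential `E` sends `z` to `x` outside `Q`. -/
structure CaseTwo (p : ℕ) (S Q : Subgroup Ω) (F : FusionSystem S) (z : Ω) (E : Subgroup Ω)
    (α : MulAut E) (x : Ω) : Prop where
  not_one : ¬ CaseOne S Q F z
  ess : F.IsEssential p E
  aut : α ∈ F.autGroup E
  z_mem : z ∈ E
  image : autFun α z = x
  x_mem : x ∈ S
  x_not : x ∉ Q
  x_pow : x ^ p = 1
  abelian : ∀ a ∈ Q, ∀ b ∈ Q, a * x = x * a → b * x = x * b → a * b = b * a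
  E_eq : E = Subgroup.zpowers x ⊔ (Q ⊓ Subgroup.centralizer {x})
  no_conj : ∀ a ∈ Q, a * x = x * a → a ∉ Subgroup.zpowers z → ¬ F.IsConjElt z a

/-- `n = 2`, `Q` has exponent `p` and a complement acting on `Q` modulo the centre with rank at
least two, which centralises what it fixes modulo the centre. -/
def Split (p n : ℕ) (S Q : Subgroup Ω) (z : Ω) (K : Coords p n S Q z) : Prop :=
  n = 2 ∧ (∀ a ∈ Q, a ^ p = 1) ∧ ∃ x ∈ S, x ∉ Q ∧ x ^ p = 1 ∧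
    (∀ a ∈ Q, K.act x (K.π a) = K.π a → x * a = a * x) ∧
    2 ≤ finrank (ZMod p) (LinearMap.range (K.act x - 1))

/-- The groups of maximal class in the conclusion. -/
def MaxClassType (p : ℕ) (S : Subgroup Ω) [Group.IsNilpotent ↥S] : Prop :=
  11 ≤ p ∧ Nat.card S = p ^ (p - 1) ∧ (∀ x : ↥S, x ^ p = 1) ∧ Group.nilpotencyClass ↥S = p - 2

/-- Normal form with two Jordan blocks of size two. -/
def NFTwo (p : ℕ) (G : Type*) [Group G] (d : ZMod p) : Prop :=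
  ∃ x t₁ t₂ c₁ c₂ z : G, Subgroup.closure {x, t₁, t₂} = ⊤ ∧ Nat.card G = p ^ 6 ∧
    x ^ p = 1 ∧ t₁ ^ p = 1 ∧ t₂ ^ p = 1 ∧ c₁ ^ p = 1 ∧ c₂ ^ p = 1 ∧ z ^ p = 1 ∧
    z ∈ Subgroup.center G ∧
    ⁅x, t₁⁆ = c₁ ∧ ⁅x, t₂⁆ = c₂ ∧ ⁅x, c₁⁆ = 1 ∧ ⁅x, c₂⁆ = 1 ∧ ⁅c₁, c₂⁆ = 1 ∧ ⁅t₁, t₂⁆ = 1 ∧
    ⁅c₁, t₂⁆ = 1 ∧ ⁅c₂, t₁⁆ = 1 ∧ ⁅c₁, t₁⁆ = z ∧ ⁅c₂, t₂⁆ = z ^ d.val

/-- Normal form with one Jordan block of size four. -/
def NFFour (p : ℕ) (G : Type*) [Group G] : Prop :=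
  ∃ x t v₃ v₂ v₁ z : G, Subgroup.closure {x, t} = ⊤ ∧ Nat.card G = p ^ 6 ∧
    x ^ p = 1 ∧ t ^ p = 1 ∧ v₃ ^ p = 1 ∧ v₂ ^ p = 1 ∧ v₁ ^ p = 1 ∧ z ^ p = 1 ∧
    z ∈ Subgroup.center G ∧
    ⁅x, t⁆ = v₃ ∧ ⁅x, v₃⁆ = v₂ ∧ ⁅x, v₂⁆ = v₁ ∧ ⁅x, v₁⁆ = 1 ∧ ⁅v₁, v₂⁆ = 1 ∧ ⁅v₁, v₃⁆ = 1 ∧
    ⁅v₁, t⁆ = z ∧ ⁅v₂, t⁆ = z ∧ ⁅v₃, v₂⁆ = z ∧ ⁅v₃, t⁆ = 1

/-! ## The pieces -/

/-- The hypotheses give the context. -/
def StmtSetup : Prop := ∀ (Ω : Type u) [Group Ω] (S : Subgroup Ω) [Finite S] (p : ℕ)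
  [Fact p.Prime], Odd p → IsPGroup p S → ∀ Q : Subgroup Ω, Q ≤ S → IsExtraspecial p ↥Q →
  (Q.subgroupOf S).index = p → p ^ 6 ≤ Nat.card S → ∀ F : FusionSystem S, F.IsSaturated p →
  F.core = ⊥ → ∃ (n : ℕ) (z : Ω), Ctx p n S Q F z ∧ Nonempty (Coords p n S Q z)

/-- Some automorphism of an essential subgroup moves the centre. -/
def StmtReduction : Prop := ∀ (Ω : Type u) [Group Ω] (p n : ℕ) [Fact p.Prime] (S Q : Subgroup Ω)
  (F : FusionSystem S) (z : Ω), Ctx p n S Q F z →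
  CaseOne S Q F z ∨ ∃ (E : Subgroup Ω) (α : MulAut E) (x : Ω), CaseTwo p S Q F z E α x

/-- The first case. -/
def StmtCaseOne : Prop := ∀ (Ω : Type u) [Group Ω] (p n : ℕ) [Fact p.Prime] (S Q : Subgroup Ω)
  (F : FusionSystem S) (z : Ω), Ctx p n S Q F z → ∀ K : Coords p n S Q z,
  CaseOne S Q F z → Split p n S Q z K

/-- The pearl case: `x` centralises nothing in `Q` outside the centre. -/
def StmtPearl : Prop := ∀ (Ω : Type u) [Group Ω] (p n : ℕ) [Fact p.Prime] (S Q : Subgroup Ω)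
  [Group.IsNilpotent ↥S] (F : FusionSystem S) (z : Ω), Ctx p n S Q F z →
  ∀ K : Coords p n S Q z, ∀ (E : Subgroup Ω) (α : MulAut E) (x : Ω),
  CaseTwo p S Q F z E α x → (∀ a ∈ Q, a * x = x * a → a ∈ Subgroup.zpowers z) →
  Split p n S Q z K ∨ MaxClassType p S

/-- The remaining case: it gives the unitary shape. -/
def StmtSiegel : Prop := ∀ (Ω : Type u) [Group Ω] (p n : ℕ) [Fact p.Prime] (S Q : Subgroup Ω)
  (F : FusionSystem S) (z : Ω), Ctx p n S Q F z →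
  ∀ K : Coords p n S Q z, ∀ (E : Subgroup Ω) (α : MulAut E) (x : Ω),
  CaseTwo p S Q F z E α x → (∃ a ∈ Q, a * x = x * a ∧ a ∉ Subgroup.zpowers z) →
  Split p n S Q z K

/-- Normal forms of the split groups. -/
def StmtNormalForm : Prop := ∀ (Ω : Type u) [Group Ω] (p n : ℕ) [Fact p.Prime] (S Q : Subgroup Ω)
  (F : FusionSystem S) (z : Ω), Ctx p n S Q F z → ∀ K : Coords p n S Q z, Split p n S Q z K →
  NFTwo p ↥S (-1) ∨ (∃ d : ZMod p, ¬ IsSquare (-d) ∧ NFTwo p ↥S d) ∨ (5 ≤ p ∧ NFFour p ↥S)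

/-- The linear model. -/
def StmtSL : Prop := ∀ (G : Type u) [Group G] (p : ℕ) [Fact p.Prime], Odd p → NFTwo p G (-1) →
  ∃ P : Sylow p (Matrix.SpecialLinearGroup (Fin 4) (ZMod p)),
    Nonempty (G ≃* ↥(P : Subgroup (Matrix.SpecialLinearGroup (Fin 4) (ZMod p))))

/-- The unitary model. -/
def StmtSU : Prop := ∀ (G : Type u) [Group G] (p : ℕ) [Fact p.Prime], Odd p → ∀ d : ZMod p,
  ¬ IsSquare (-d) → NFTwo p G d →
  ∃ (K : Type) (_ : Field K) (_ : Fintype K), Fintype.card K = p ^ 2 ∧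
    ∃ P : Sylow p ↥(Cfsg.SU 4 K p), Nonempty (G ≃* ↥(P : Subgroup ↥(Cfsg.SU 4 K p)))

/-- The model of type `G₂`. -/
def StmtG2 : Prop := ∀ (G : Type u) [Group G] (p : ℕ) [Fact p.Prime], 5 ≤ p → NFFour p G →
  ∃ P : Sylow p ↥(Cfsg.Lie.G2 (ZMod p)),
    Nonempty (G ≃* ↥(P : Subgroup ↥(Cfsg.Lie.G2 (ZMod p))))

/-- The statement. -/
def StmtMain : Prop := ∀ (Ω : Type u) [Group Ω] (S : Subgroup Ω) [Finite S] (p : ℕ)
  [Fact p.Prime], Odd p → IsPGroup p S → ∀ Q : Subgroup Ω, Q ≤ S → IsExtraspecial p ↥Q →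
  (Q.subgroupOf S).index = p → p ^ 6 ≤ Nat.card S → ∀ F : FusionSystem S, F.IsSaturated p →
  F.core = ⊥ → ∀ [Group.IsNilpotent ↥S],
    (∃ P : Sylow p (Matrix.SpecialLinearGroup (Fin 4) (ZMod p)),
        Nonempty (↥S ≃* ↥(P : Subgroup (Matrix.SpecialLinearGroup (Fin 4) (ZMod p))))) ∨
      (∃ (K : Type) (_ : Field K) (_ : Fintype K), Fintype.card K = p ^ 2 ∧
        ∃ P : Sylow p ↥(Cfsg.SU 4 K p), Nonempty (↥S ≃* ↥(P : Subgroup ↥(Cfsg.SU 4 K p)))) ∨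
      (5 ≤ p ∧ ∃ P : Sylow p ↥(Cfsg.Lie.G2 (ZMod p)),
        Nonempty (↥S ≃* ↥(P : Subgroup ↥(Cfsg.Lie.G2 (ZMod p))))) ∨
      (11 ≤ p ∧ Nat.card S = p ^ (p - 1) ∧ (∀ x : ↥S, x ^ p = 1) ∧
        Group.nilpotencyClass ↥S = p - 2)

/-- The assembly. -/
theorem main_of (h₀ : StmtSetup.{u}) (h₁ : StmtReduction.{u}) (h₂ : StmtCaseOne.{u})
    (h₃ : StmtPearl.{u}) (h₄ : StmtSiegel.{u}) (h₅ : StmtNormalForm.{u}) (h₆ : StmtSL.{u})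
    (h₇ : StmtSU.{u}) (h₈ : StmtG2.{u}) : StmtMain.{u} := by
  intro Ω _ S _ p _ hp hS Q hQS hQ hi h6 F hF hO _
  obtain ⟨n, z, hC, ⟨K⟩⟩ := h₀ Ω S p hp hS Q hQS hQ hi h6 F hF hO
  have fin : Split p n S Q z K → _ := fun hsp => h₅ Ω p n S Q F z hC K hsp
  have key : Split p n S Q z K ∨ MaxClassType p S := by
    rcases h₁ Ω p n S Q F z hC with h | ⟨E, α, x, h⟩
    · exact Or.inl (h₂ Ω p n S Q F z hC K h)
    · by_cases hx : ∀ a ∈ Q, a * x = x * a → a ∈ Subgroup.zpowers z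
      · exact h₃ Ω p n S Q F z hC K E α x h hx
      · push Not at hx
        exact Or.inl (h₄ Ω p n S Q F z hC K E α x h hx)
  rcases key with hsp | hm
  · rcases fin hsp with h | ⟨d, hd, h⟩ | ⟨h5, h⟩
    · exact Or.inl (h₆ ↥S p hp h)
    · exact Or.inr (Or.inl (h₇ ↥S p hp d hd h))
    · exact Or.inr (Or.inr (Or.inl ⟨h5, h₈ ↥S p h5 h⟩))
  · exact Or.inr (Or.inr (Or.inr hm))

end CfsgLib.ExtraIndexP
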