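import Mathlib
import Cfsg.Prelude.Def_G2

/-!
# The Sylow subgroup of `G₂`: six integral automorphisms of the octonions
-/

set_option autoImplicit false

namespace CfsgLib.ExtraIndexP.G2Model

/-- The matrix `mX`. -/
def mX : Matrix (Fin 8) (Fin 8) ℤ :=
  !![1, 0, 0, 0, 0, 1, 0, 0;
     0, 1, 0, 0, 0, 0, 0, 0;
     -1, 0, 1, 0, 0, -1, 0, 1;
     0, 0, 0, 1, 0, 0, 0, 0;
     0, 0, 0, -1, 1, 0, 0, 0;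
     0, 0, 0, 0, 0, 1, 0, 0;
     0, 1, 0, 0, 0, 0, 1, 0;
     0, 0, 0, 0, 0, -1, 0, 1]

/-- The matrix `mXi`. -/
def mXi : Matrix (Fin 8) (Fin 8) ℤ :=
  !![1, 0, 0, 0, 0, -1, 0, 0;
     0, 1, 0, 0, 0, 0, 0, 0;
     1, 0, 1, 0, 0, -1, 0, -1;
     0, 0, 0, 1, 0, 0, 0, 0;
     0, 0, 0, 1, 1, 0, 0, 0;
     0, 0, 0, 0, 0, 1, 0, 0;
     0, -1, 0, 0, 0, 0, 1, 0;
     0, 0, 0, 0, 0, 1, 0, 1]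

/-- The matrix `mT`. -/
def mT : Matrix (Fin 8) (Fin 8) ℤ :=
  !![1, 0, 0, 1, 0, 0, 0, 0;
     0, 1, 6, 0, -6, 1, 0, 0;
     0, 0, 1, 0, -1, 0, 0, 0;
     0, 0, 0, 1, 0, 0, 0, 0;
     0, 0, 0, 0, 1, 0, 0, 0;
     0, 0, 0, 0, -6, 1, 0, 0;
     -1, 0, 0, -1, 0, 0, 1, 1;
     0, 0, 0, -1, 0, 0, 0, 1]

/-- The matrix `mTi`. -/
def mTi : Matrix (Fin 8) (Fin 8) ℤ :=
  !![1, 0, 0, -1, 0, 0, 0, 0;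
     0, 1, -6, 0, -6, -1, 0, 0;
     0, 0, 1, 0, 1, 0, 0, 0;
     0, 0, 0, 1, 0, 0, 0, 0;
     0, 0, 0, 0, 1, 0, 0, 0;
     0, 0, 0, 0, 6, 1, 0, 0;
     1, 0, 0, -1, 0, 0, 1, -1;
     0, 0, 0, 1, 0, 0, 0, 1]

/-- The matrix `mC`. -/
def mC : Matrix (Fin 8) (Fin 8) ℤ :=
  !![1, 0, 0, -6, -6, 0, 0, 0;
     6, 1, 0, -18, -36, -6, 0, -6;
     0, 0, 1, 3, 6, 0, 0, 0;
     0, 0, 0, 1, 0, 0, 0, 0;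
     0, 0, 0, 0, 1, 0, 0, 0;
     0, 0, 0, -6, 0, 1, 0, 0;
     6, 0, 6, -18, -18, -3, 1, -6;
     0, 0, 0, 6, 6, 0, 0, 1]

/-- The matrix `mCi`. -/
def mCi : Matrix (Fin 8) (Fin 8) ℤ :=
  !![1, 0, 0, 6, 6, 0, 0, 0;
     -6, 1, 0, -18, -36, 6, 0, 6;
     0, 0, 1, -3, -6, 0, 0, 0;
     0, 0, 0, 1, 0, 0, 0, 0;
     0, 0, 0, 0, 1, 0, 0, 0;
     0, 0, 0, 6, 0, 1, 0, 0;
     -6, 0, -6, -18, -18, 3, 1, 6;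
     0, 0, 0, -6, -6, 0, 0, 1]

/-- The matrix `mB`. -/
def mB : Matrix (Fin 8) (Fin 8) ℤ :=
  !![1, 0, 0, -12, 0, 0, 0, 0;
     0, 1, 0, -108, 0, -12, 0, 0;
     0, 0, 1, 36, 12, 0, 0, 0;
     0, 0, 0, 1, 0, 0, 0, 0;
     0, 0, 0, 0, 1, 0, 0, 0;
     0, 0, 0, 0, 0, 1, 0, 0;
     12, 0, 0, -144, 108, -36, 1, -12;
     0, 0, 0, 12, 0, 0, 0, 1]

/-- The matrix `mBi`. -/
def mBi : Matrix (Fin 8) (Fin 8) ℤ :=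
  !![1, 0, 0, 12, 0, 0, 0, 0;
     0, 1, 0, 108, 0, 12, 0, 0;
     0, 0, 1, -36, -12, 0, 0, 0;
     0, 0, 0, 1, 0, 0, 0, 0;
     0, 0, 0, 0, 1, 0, 0, 0;
     0, 0, 0, 0, 0, 1, 0, 0;
     -12, 0, 0, -144, -108, 36, 1, 12;
     0, 0, 0, -12, 0, 0, 0, 1]

/-- The matrix `mA`. -/
def mA : Matrix (Fin 8) (Fin 8) ℤ :=
  !![1, 0, 0, 0, 0, 0, 0, 0;
     0, 1, 0, 0, 0, 0, 0, 0;
     0, 0, 1, 36, 0, 0, 0, 0;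
     0, 0, 0, 1, 0, 0, 0, 0;
     0, 0, 0, 0, 1, 0, 0, 0;
     0, 0, 0, 0, 0, 1, 0, 0;
     0, 0, 0, 0, 0, -36, 1, 0;
     0, 0, 0, 0, 0, 0, 0, 1]

/-- The matrix `mAi`. -/
def mAi : Matrix (Fin 8) (Fin 8) ℤ :=
  !![1, 0, 0, 0, 0, 0, 0, 0;
     0, 1, 0, 0, 0, 0, 0, 0;
     0, 0, 1, -36, 0, 0, 0, 0;
     0, 0, 0, 1, 0, 0, 0, 0;
     0, 0, 0, 0, 1, 0, 0, 0;
     0, 0, 0, 0, 0, 1, 0, 0;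
     0, 0, 0, 0, 0, 36, 1, 0;
     0, 0, 0, 0, 0, 0, 0, 1]

/-- The matrix `mZ`. -/
def mZ : Matrix (Fin 8) (Fin 8) ℤ :=
  !![1, 0, 0, 0, 0, 0, 0, 0;
     0, 1, 0, -216, 0, 0, 0, 0;
     0, 0, 1, 0, 0, 0, 0, 0;
     0, 0, 0, 1, 0, 0, 0, 0;
     0, 0, 0, 0, 1, 0, 0, 0;
     0, 0, 0, 0, 0, 1, 0, 0;
     0, 0, 0, 0, 216, 0, 1, 0;
     0, 0, 0, 0, 0, 0, 0, 1]

/-- The matrix `mZi`. -/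
def mZi : Matrix (Fin 8) (Fin 8) ℤ :=
  !![1, 0, 0, 0, 0, 0, 0, 0;
     0, 1, 0, 216, 0, 0, 0, 0;
     0, 0, 1, 0, 0, 0, 0, 0;
     0, 0, 0, 1, 0, 0, 0, 0;
     0, 0, 0, 0, 1, 0, 0, 0;
     0, 0, 0, 0, 0, 1, 0, 0;
     0, 0, 0, 0, -216, 0, 1, 0;
     0, 0, 0, 0, 0, 0, 0, 1]

end CfsgLib.ExtraIndexP.G2Model
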