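import Cfsg.Agent.Lib.ExtraIndexP.NFUnique
import Cfsg.Agent.Lib.ExtraIndexP.G2ModelData
import Cfsg.Agent.Lib.G2Three.ModelBasic
import Cfsg.Agent.Lib.NCover2.G2Even

/-!
# A Sylow subgroup of `G₂(p)`, `p ≥ 5`, has the normal form with one Jordan block

Six integral automorphisms generate a group of order `p ^ 6`. An element of `p`-power order
normalising it fixes the flag of fixed spaces, and such elements are determined by six coordinates.
-/

set_option autoImplicit false
set_option maxRecDepth 100000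

namespace CfsgLib.ExtraIndexP

open Matrix Cfsg Cfsg.Lie CfsgLib.Involutions.G2Two CfsgLib.NCover2.G2Even
open scoped commutatorElement

universe u

namespace G2Model

local notation "MZ" => Matrix (Fin 8) (Fin 8) ℤ

/-- An integral automorphism with its inverse. -/
structure Good (m m' : Matrix (Fin 8) (Fin 8) ℤ) : Prop where
  val_inv : m * m' = 1
  inv_val : m' * m = 1
  zorn : ∀ i j : Fin 8, m *ᵥ zornMul (Pi.single i 1) (Pi.single j 1) =
    zornMul (m *ᵥ Pi.single i 1) (m *ᵥ Pi.single j 1)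
  nil : (m - 1) * (m - 1) * (m - 1) = 0

instance (m m' : Matrix (Fin 8) (Fin 8) ℤ) : Decidable (Good m m') :=
  decidable_of_iff (m * m' = 1 ∧ m' * m = 1 ∧ (∀ i j : Fin 8,
    m *ᵥ zornMul (Pi.single i 1) (Pi.single j 1) =
      zornMul (m *ᵥ Pi.single i 1) (m *ᵥ Pi.single j 1)) ∧ (m - 1) * (m - 1) * (m - 1) = 0)
    ⟨fun ⟨a, b, c, d⟩ => ⟨a, b, c, d⟩, fun h => ⟨h.1, h.2, h.3, h.4⟩⟩

theorem goodX : Good mX mXi := by decide +kernel
theorem goodT : Good mT mTi := by decide +kernel
theorem goodC : Good mC mCi := by decide +kernel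
theorem goodB : Good mB mBi := by decide +kernel
theorem goodA : Good mA mAi := by decide +kernel
theorem goodZ : Good mZ mZi := by decide +kernel

theorem rels_int : mX * mT * (mXi * mTi) = mC ∧ mX * mC * (mXi * mCi) = mB ∧
    mX * mB * (mXi * mBi) = mA ∧ mX * mA * (mXi * mAi) = 1 ∧ mA * mB * (mAi * mBi) = 1 ∧
    mA * mC * (mAi * mCi) = 1 ∧ mA * mT * (mAi * mTi) = mZ ∧ mB * mT * (mBi * mTi) = mZ ∧
    mC * mB * (mCi * mBi) = mZ ∧ mC * mT * (mCi * mTi) = 1 ∧ mX * mZ * (mXi * mZi) = 1 ∧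
    mT * mZ * (mTi * mZi) = 1 ∧ mC * mZ * (mCi * mZi) = 1 ∧ mB * mZ * (mBi * mZi) = 1 ∧
    mA * mZ * (mAi * mZi) = 1 := by decide +kernel

variable (p : ℕ) [Fact p.Prime]

set_option quotPrecheck false in
local notation "G" => ↥(Lie.G2 (ZMod p))

/-- Reduction of an integral matrix. -/
def red : MZ →+* Matrix (Fin 8) (Fin 8) (ZMod p) := (Int.castRingHom (ZMod p)).mapMatrix

/-- The element of an integral automorphism. -/
def elt {m m' : MZ} (h : Good m m') : G :=
  ⟨⟨red p m, red p m', by rw [← map_mul, h.val_inv, map_one],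
    by rw [← map_mul, h.inv_val, map_one]⟩, fun x y =>
    G2Three.Model.mulVec_zorn_of_basis (red p m) (fun i j => by
      have hs : ∀ k : Fin 8, Int.castRingHom (ZMod p) ∘ (Pi.single k 1 : Fin 8 → ℤ) =
          (Pi.single k 1 : Fin 8 → ZMod p) := fun k => funext fun l => by
        rcases eq_or_ne l k with rfl | hne
        · simp
        · simp [hne]
      have hm : ∀ z : Fin 8 → ℤ, Int.castRingHom (ZMod p) ∘ (m *ᵥ z) =
          red p m *ᵥ (Int.castRingHom (ZMod p) ∘ z) := fun z =>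
        funext fun k => RingHom.map_mulVec _ _ _ k
      rw [← hs, ← hs, ← G2Three.Model.map_zorn, ← hm, ← hm, ← hm, h.zorn,
        G2Three.Model.map_zorn]) x y⟩

theorem eq_of_val {g h : G} (e : g.1.1 = h.1.1) : g = h := Subtype.ext (Units.ext e)

theorem elt_comm {a a' b b' c c' : MZ} (ha : Good a a') (hb : Good b b') (hc : Good c c')
    (h : a * b * (a' * b') = c) : ⁅elt p ha, elt p hb⁆ = elt p hc := by
  refine eq_of_val p ?_
  rw [commutatorElement_def, mul_assoc (elt p ha * elt p hb)]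
  show red p a * red p b * (red p a' * red p b') = red p c
  simp only [← map_mul, h]

theorem elt_comm_one {a a' b b' : MZ} (ha : Good a a') (hb : Good b b')
    (h : a * b * (a' * b') = 1) : ⁅elt p ha, elt p hb⁆ = 1 := by
  refine eq_of_val p ?_
  rw [commutatorElement_def, mul_assoc (elt p ha * elt p hb)]
  show red p a * red p b * (red p a' * red p b') = 1
  simp only [← map_mul, h, map_one]

theorem elt_pow (hp : 5 ≤ p) {a a' : MZ} (ha : Good a a') : elt p ha ^ p = 1 := by
  refine eq_of_val p ?_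
  show (red p a) ^ p = 1
  haveI : CharP (Matrix (Fin 8) (Fin 8) (ZMod p)) p := inferInstance
  have h3 : (red p a - 1) ^ 3 = 0 := by
    rw [← map_one (red p), ← map_sub, ← map_pow, pow_three, ← mul_assoc, ha.nil, map_zero]
  have e : red p a = (red p a - 1) + 1 := (sub_add_cancel _ _).symm
  rw [e, add_pow_char_of_commute _ (Commute.one_right _), one_pow,
    pow_eq_zero_of_le (by omega) h3, zero_add]

/-- The root element of the short simple root. -/
abbrev gX : G := elt p goodX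
/-- The modified root element of the long simple root. -/
abbrev gT : G := elt p goodT
/-- The first commutator. -/
abbrev gC : G := elt p goodC
/-- The second commutator. -/
abbrev gB : G := elt p goodB
/-- The third commutator. -/
abbrev gA : G := elt p goodA
/-- The central element. -/
abbrev gZ : G := elt p goodZ

/-- The subgroup. -/
def U : Subgroup G := Subgroup.closure {gX p, gT p, gC p, gB p, gA p, gZ p}

theorem card_le (hp : 5 ≤ p) : Nat.card (U p) ≤ p ^ 6 := by
  obtain ⟨r1, r2, r3, r4, r5, r6, r7, r8, r9, r10, z1, z2, z3, z4, z5⟩ := rels_int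
  have one : ∀ {s : Set G} {g : G}, g = 1 → g ∈ Subgroup.closure s := fun h => h ▸ one_mem _
  refine card_six_le (by omega) (gZ p) (gA p) (gB p) (gC p) (gT p) (gX p) (elt_pow p hp _)
    (elt_pow p hp _) (elt_pow p hp _) (elt_pow p hp _) (elt_pow p hp _) (elt_pow p hp _)
    (one (elt_comm_one p goodA goodZ z5)) (one (elt_comm_one p goodB goodZ z4)) ?_ (one (elt_comm_one p goodC goodZ z3))
    ?_ ?_ (one (elt_comm_one p goodT goodZ z2)) ?_ ?_ ?_ (one (elt_comm_one p goodX goodZ z1)) ?_ ?_ ?_ ?_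
  · exact one ((inv_of_comm (elt_comm_one p goodA goodB r5)).trans inv_one)
  · exact one ((inv_of_comm (elt_comm_one p goodA goodC r6)).trans inv_one)
  · rw [elt_comm p goodC goodB goodZ r9]; exact Subgroup.subset_closure (by simp)
  · rw [inv_of_comm (elt_comm p goodA goodT goodZ r7)]
    exact inv_mem (Subgroup.subset_closure (by simp))
  · rw [inv_of_comm (elt_comm p goodB goodT goodZ r8)]
    exact inv_mem (Subgroup.subset_closure (by simp))
  · exact one ((inv_of_comm (elt_comm_one p goodC goodT r10)).trans inv_one)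
  · exact one (elt_comm_one p goodX goodA r4)
  · rw [elt_comm p goodX goodB goodA r3]; exact Subgroup.subset_closure (by simp)
  · rw [elt_comm p goodX goodC goodB r2]; exact Subgroup.subset_closure (by simp)
  · rw [elt_comm p goodX goodT goodC r1]; exact Subgroup.subset_closure (by simp)

/-- A basis vector. -/
abbrev ev (i : Fin 8) : Fin 8 → ZMod p := Pi.single i 1

theorem ap_ev {m m' : MZ} (h : Good m m') (i j : Fin 8) :
    ap (elt p h).1 (ev p j) i = ((m i j : ℤ) : ZMod p) := by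
  show (red p m *ᵥ Pi.single j 1) i = _
  rw [Matrix.mulVec_single]
  simp [red]

theorem cast_ne_zero (hp : 5 ≤ p) {n : ℤ} {a b : ℕ} (h : n.natAbs = 2 ^ a * 3 ^ b) :
    (n : ZMod p) ≠ 0 := by
  intro h0
  rw [ZMod.intCast_zmod_eq_zero_iff_dvd] at h0
  have h1 : p ∣ 2 ^ a * 3 ^ b := h ▸ Int.natCast_dvd.mp h0
  rcases (Fact.out : p.Prime).dvd_mul.mp h1 with h2 | h2
  · exact absurd (Nat.le_of_dvd (by norm_num) ((Fact.out : p.Prime).dvd_of_dvd_pow h2)) (by omega)
  · exact absurd (Nat.le_of_dvd (by norm_num) ((Fact.out : p.Prime).dvd_of_dvd_pow h2)) (by omega)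

theorem card_mul_le {Γ : Type*} [Group Γ] [Finite Γ] {H : Subgroup Γ} {g : Γ} (hg : g ^ p = 1)
    (hn : g ∉ H) : Nat.card H * p ≤ Nat.card (H ⊔ Subgroup.zpowers g : Subgroup Γ) := by
  have hord : orderOf g = p :=
    orderOf_eq_prime hg fun h => hn (h ▸ H.one_mem)
  haveI := Fact.mk (Nat.card_zpowers g ▸ hord.symm ▸ (Fact.out : p.Prime) :
    (Nat.card (Subgroup.zpowers g)).Prime)
  have hinf : H.subgroupOf (Subgroup.zpowers g) = ⊥ :=
    ((H.subgroupOf (Subgroup.zpowers g)).eq_bot_or_eq_top_of_prime_card).resolve_right fun h =>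
      hn (Subgroup.subgroupOf_eq_top.mp h (Subgroup.mem_zpowers g))
  let f : H × Subgroup.zpowers g → ↥(H ⊔ Subgroup.zpowers g : Subgroup Γ) := fun q =>
    ⟨q.1 * q.2, mul_mem (Subgroup.mem_sup_left q.1.2) (Subgroup.mem_sup_right q.2.2)⟩
  have hf : Function.Injective f := fun q q' h => by
    have h' : (q.1 : Γ) * q.2 = q'.1 * q'.2 := congrArg Subtype.val h
    have h1 : ((q.2 * q'.2⁻¹ : Subgroup.zpowers g) : Γ) ∈ H := by
      rw [show ((q.2 * q'.2⁻¹ : Subgroup.zpowers g) : Γ) = (q.1 : Γ)⁻¹ * q'.1 by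
        rw [Subgroup.coe_mul, Subgroup.coe_inv, eq_inv_mul_iff_mul_eq, ← mul_assoc, h']; group]
      exact H.mul_mem (H.inv_mem q.1.2) q'.1.2
    have h2 : q.2 * q'.2⁻¹ = 1 := (Subgroup.eq_bot_iff_forall _).mp hinf _ h1
    have h3 : q.2 = q'.2 := mul_inv_eq_one.mp h2
    rw [h3] at h'
    exact Prod.ext (Subtype.ext (mul_right_cancel h')) h3
  have := Nat.card_le_card_of_injective f hf
  rwa [Nat.card_prod, Nat.card_zpowers, hord] at this

/-- The elements fixing a vector. -/
def stabV (v : Fin 8 → ZMod p) : Subgroup G where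
  carrier := {g | ap g.1 v = v}
  mul_mem' := fun {g h} (hg : ap g.1 v = v) (hh : ap h.1 v = v) => by
    show ap (g.1 * h.1) v = v
    rw [ap_mul, hh, hg]
  one_mem' := ap_one v
  inv_mem' := fun {g} (hg : ap g.1 v = v) => by
    show ap (g.1)⁻¹ v = v
    conv_lhs => rw [← hg]
    exact ap_inv_ap _ _

theorem mem_stabV {v : Fin 8 → ZMod p} {g : G} : g ∈ stabV p v ↔ ap g.1 v = v := Iff.rfl

/-- The elements fixing the line of the highest weight and moving `v` along it. -/
def shiftV (v : Fin 8 → ZMod p) : Subgroup G where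
  carrier := {g | ap g.1 (ev p 6) = ev p 6 ∧ ∃ c : ZMod p, ap g.1 v = v + c • ev p 6}
  mul_mem' := by
    rintro g h ⟨hg, c, hc⟩ ⟨hh, d, hd⟩
    refine ⟨?_, c + d, ?_⟩
    · show ap (g.1 * h.1) (ev p 6) = _
      rw [ap_mul, hh, hg]
    · show ap (g.1 * h.1) v = _
      rw [ap_mul, hd, ap_add, ap_smul, hg, hc, add_assoc, ← add_smul]
  one_mem' := ⟨ap_one _, 0, by show ap 1 v = _; rw [ap_one, zero_smul, add_zero]⟩
  inv_mem' := by
    rintro g ⟨hg, c, hc⟩
    have h6 : ap (g.1)⁻¹ (ev p 6) = ev p 6 := by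
      conv_lhs => rw [← hg]
      exact ap_inv_ap _ _
    refine ⟨h6, -c, ?_⟩
    have h := congrArg (ap (g.1)⁻¹) hc
    rw [ap_inv_ap, ap_add, ap_smul, h6] at h
    show ap (g.1)⁻¹ v = _
    rw [neg_smul, ← sub_eq_add_neg, eq_sub_iff_add_eq]
    exact h.symm

theorem fix_of_col {m m' : MZ} (h : Good m m') {j : Fin 8}
    (hc : ∀ i, m i j = if i = j then 1 else 0) : elt p h ∈ stabV p (ev p j) := by
  refine funext fun i => ?_
  rw [ap_ev, hc i]
  rcases eq_or_ne i j with rfl | hne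
  · simp
  · simp [hne]

theorem not_fix_of_col {m m' : MZ} (h : Good m m') {i j : Fin 8} (hij : i ≠ j)
    (hne : ((m i j : ℤ) : ZMod p) ≠ 0) : elt p h ∉ stabV p (ev p j) := fun hm => by
  have h1 := congrFun ((mem_stabV p).mp hm) i
  rw [ap_ev] at h1
  exact hne (h1.trans (by simp [hij]))

theorem card_eq (hp : 5 ≤ p) : Nat.card (U p) = p ^ 6 := by
  refine le_antisymm (card_le p hp) ?_
  have hp0 : 0 < p := (Fact.out : p.Prime).pos
  have step : ∀ (g : G) (s : Set G) (k : ℕ) (K : Subgroup G), g ^ p = 1 →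
      (∀ x ∈ s, x ∈ K) → g ∉ K → p ^ k ≤ Nat.card (Subgroup.closure s) →
      p ^ (k + 1) ≤ Nat.card (Subgroup.closure (insert g s)) := by
    intro g s k K hg hs hgK hk
    rw [closure_insert', pow_succ]
    exact (Nat.mul_le_mul_right p hk).trans
      (card_mul_le p hg fun h => hgK ((Subgroup.closure_le K).mpr hs h))
  have h6X : elt p goodX ∈ stabV p (ev p 6) := fix_of_col p _ (by decide +kernel)
  have h1 : p ^ 1 ≤ Nat.card (Subgroup.closure ({gZ p} : Set G)) := by
    rw [← Subgroup.zpowers_eq_closure, Nat.card_zpowers, pow_one,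
      orderOf_eq_prime (elt_pow p hp goodZ) fun h => ?_]
    refine not_fix_of_col p goodZ (i := 1) (j := 3) (by decide)
      (cast_ne_zero p hp (a := 3) (b := 3) (by decide +kernel)) ?_
    rw [h]
    exact one_mem _
  have h2 := step (gA p) {gZ p} 1 (stabV p (ev p 5)) (elt_pow p hp _)
    (by rintro _ rfl; exact fix_of_col p _ (by decide +kernel))
    (not_fix_of_col p _ (i := 6) (j := 5) (by decide)
      (cast_ne_zero p hp (a := 2) (b := 2) (by decide +kernel))) h1
  have h3 := step (gB p) _ 2 (stabV p (ev p 0)) (elt_pow p hp _)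
    (by rintro _ (rfl | rfl) <;> exact fix_of_col p _ (by decide +kernel))
    (not_fix_of_col p _ (i := 6) (j := 0) (by decide)
      (cast_ne_zero p hp (a := 2) (b := 1) (by decide +kernel))) h2
  have h4 := step (gC p) _ 3 (stabV p (ev p 2)) (elt_pow p hp _)
    (by rintro _ (rfl | rfl | rfl) <;> exact fix_of_col p _ (by decide +kernel))
    (not_fix_of_col p _ (i := 6) (j := 2) (by decide)
      (cast_ne_zero p hp (a := 1) (b := 1) (by decide +kernel))) h3
  have hshift : ∀ {m m' : MZ} (h : Good m m'), (∀ i, m i 6 = if i = 6 then 1 else 0) →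
      (∀ i, i ≠ 6 → m i 2 = if i = 2 then 1 else 0) → elt p h ∈ shiftV p (ev p 2) := by
    intro m m' h h6 h2
    refine ⟨(mem_stabV p).mp (fix_of_col p h h6), ((m 6 2 : ℤ) : ZMod p), funext fun i => ?_⟩
    rw [ap_ev, Pi.add_apply, Pi.smul_apply, smul_eq_mul]
    rcases eq_or_ne i 6 with rfl | hne
    · simp
    · rw [h2 i hne]
      rcases eq_or_ne i 2 with rfl | hne2 <;> simp [*]
  have h5 := step (gT p) _ 4 (shiftV p (ev p 2)) (elt_pow p hp _)
    (by rintro _ (rfl | rfl | rfl | rfl) <;>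
      exact hshift _ (by decide +kernel) (by decide +kernel))
    (fun h => by
      obtain ⟨-, c, hc⟩ := h
      have h1 := congrFun hc 1
      rw [ap_ev] at h1
      refine cast_ne_zero p hp (n := mT 1 2) (a := 1) (b := 1) (by decide +kernel) (h1.trans ?_)
      simp) h4
  exact step (gX p) _ 5 (stabV p (ev p 1)) (elt_pow p hp _)
    (by rintro _ (rfl | rfl | rfl | rfl | rfl) <;> exact fix_of_col p _ (by decide +kernel))
    (not_fix_of_col p _ (i := 6) (j := 1) (by decide)
      (cast_ne_zero p hp (a := 0) (b := 0) (by decide +kernel))) h5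

theorem gen (hp : 5 ≤ p) : Subgroup.closure ({gX p, gT p} : Set G) = U p := by
  obtain ⟨r1, r2, r3, -, -, -, r7, -⟩ := rels_int
  refine le_antisymm (Subgroup.closure_mono (by
    rintro _ (rfl | rfl) <;> simp)) ((Subgroup.closure_le _).mpr ?_)
  have hX : gX p ∈ Subgroup.closure ({gX p, gT p} : Set G) := Subgroup.subset_closure (by simp)
  have hT : gT p ∈ Subgroup.closure ({gX p, gT p} : Set G) := Subgroup.subset_closure (by simp)
  have hcm : ∀ {a b : G}, a ∈ Subgroup.closure ({gX p, gT p} : Set G) →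
      b ∈ Subgroup.closure ({gX p, gT p} : Set G) →
      ⁅a, b⁆ ∈ Subgroup.closure ({gX p, gT p} : Set G) := fun ha hb => by
    rw [commutatorElement_def]
    exact mul_mem (mul_mem (mul_mem ha hb) (inv_mem ha)) (inv_mem hb)
  have hC : gC p ∈ _ := elt_comm p goodX goodT goodC r1 ▸ hcm hX hT
  have hB : gB p ∈ _ := elt_comm p goodX goodC goodB r2 ▸ hcm hX hC
  have hA : gA p ∈ _ := elt_comm p goodX goodB goodA r3 ▸ hcm hX hB
  have hZ : gZ p ∈ _ := elt_comm p goodA goodT goodZ r7 ▸ hcm hA hT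
  rintro _ (rfl | rfl | rfl | rfl | rfl | rfl) <;> assumption

theorem nfFour (hp : 5 ≤ p) : NFFour p ↥(U p) := by
  obtain ⟨r1, r2, r3, r4, r5, r6, r7, r8, r9, r10, z1, z2, -⟩ := rels_int
  have hm : ∀ g ∈ ({gX p, gT p, gC p, gB p, gA p, gZ p} : Set G), g ∈ U p := fun g hg =>
    Subgroup.subset_closure hg
  let x : U p := ⟨gX p, hm _ (by simp)⟩
  let t : U p := ⟨gT p, hm _ (by simp)⟩
  let c : U p := ⟨gC p, hm _ (by simp)⟩
  let b : U p := ⟨gB p, hm _ (by simp)⟩
  let a : U p := ⟨gA p, hm _ (by simp)⟩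
  let z : U p := ⟨gZ p, hm _ (by simp)⟩
  have hz : z ∈ Subgroup.center ↥(U p) := by
    refine Subgroup.mem_center_iff.mpr fun g => Subtype.ext ?_
    have hle : U p ≤ Subgroup.centralizer {gZ p} := by
      rw [← gen p hp, Subgroup.closure_le]
      rintro _ (rfl | rfl) <;> refine Subgroup.mem_centralizer_singleton_iff.mpr ?_
      · exact commutatorElement_eq_one_iff_mul_comm.mp (elt_comm_one p goodX goodZ z1)
      · exact commutatorElement_eq_one_iff_mul_comm.mp (elt_comm_one p goodT goodZ z2)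
    exact Subgroup.mem_centralizer_singleton_iff.mp (hle g.2)
  refine ⟨x, t, c, b, a, z, ?_, card_eq p hp, Subtype.ext (elt_pow p hp goodX),
    Subtype.ext (elt_pow p hp goodT), Subtype.ext (elt_pow p hp goodC),
    Subtype.ext (elt_pow p hp goodB), Subtype.ext (elt_pow p hp goodA),
    Subtype.ext (elt_pow p hp goodZ), hz,
    Subtype.ext (elt_comm p goodX goodT goodC r1), Subtype.ext (elt_comm p goodX goodC goodB r2),
    Subtype.ext (elt_comm p goodX goodB goodA r3), Subtype.ext (elt_comm_one p goodX goodA r4),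
    Subtype.ext (elt_comm_one p goodA goodB r5), Subtype.ext (elt_comm_one p goodA goodC r6),
    Subtype.ext (elt_comm p goodA goodT goodZ r7), Subtype.ext (elt_comm p goodB goodT goodZ r8),
    Subtype.ext (elt_comm p goodC goodB goodZ r9), Subtype.ext (elt_comm_one p goodC goodT r10)⟩
  apply Subgroup.map_injective (U p).subtype_injective
  rw [MonoidHom.map_closure, ← MonoidHom.range_eq_map, Subgroup.range_subtype]
  conv_rhs => rw [← gen p hp]
  simp [Set.image_insert_eq, x, t]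

/-- The elements that are unipotent on the top of the flag. -/
def Flag (g : G) : Prop :=
  ap g.1 (ev p 6) = ev p 6 ∧ (∃ c : ZMod p, ap g.1 (ev p 1) = ev p 1 + c • ev p 6) ∧
    ∃ c d : ZMod p, ap g.1 (ev p 2) = ev p 2 + c • ev p 1 + d • ev p 6

/-- An element of the flag is determined by six coordinates. -/
theorem flag_ext {g h : G} (hg : Flag p g) (hh : Flag p h)
    (e1 : ap g.1 (ev p 1) = ap h.1 (ev p 1)) (e2 : ap g.1 (ev p 2) = ap h.1 (ev p 2))
    (f0 : ap g.1 (ev p 3) 0 = ap h.1 (ev p 3) 0) (f1 : ap g.1 (ev p 3) 1 = ap h.1 (ev p 3) 1)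
    (f2 : ap g.1 (ev p 3) 2 = ap h.1 (ev p 3) 2) : g = h := by
  have coords : ∀ k : G, Flag p k → ∀ x u w : ZMod p,
      ap k.1 (ev p 1) = ev p 1 + x • ev p 6 →
      ap k.1 (ev p 2) = ev p 2 + u • ev p 1 + w • ev p 6 →
      ap k.1 (ev p 3) 7 = -ap k.1 (ev p 3) 0 ∧ ap k.1 (ev p 3) 3 = 1 ∧
        ap k.1 (ev p 3) 4 = -x ∧ ap k.1 (ev p 3) 5 = -w + u * x ∧
        ap k.1 (ev p 3) 6 = -(ap k.1 (ev p 3) 0) ^ 2 + ap k.1 (ev p 3) 1 * x -
          ap k.1 (ev p 3) 2 * (-w + u * x) := by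
    intro k hk x u w h1 h2
    have ht := (invariants k (ev p 3)).1
    have hn := (invariants k (ev p 3)).2
    have p6 := pb_ap k (ev p 3) (ev p 6)
    have p1 := pb_ap k (ev p 3) (ev p 1)
    have p2 := pb_ap k (ev p 3) (ev p 2)
    rw [hk.1] at p6
    rw [h1] at p1
    rw [h2] at p2
    generalize ap k.1 (ev p 3) = v at ht hn p6 p1 p2 ⊢
    simp [tr] at ht
    simp [nrm, dot3] at hn
    simp [pb, dot3] at p6 p1 p2
    have h7 : v 7 = -v 0 := by linear_combination ht
    have h4 : v 4 = -x := by linear_combination -p1 - x * p6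
    have h5 : v 5 = -w + u * x := by linear_combination -p2 - w * p6 - u * h4
    refine ⟨h7, p6, h4, h5, ?_⟩
    linear_combination -hn + v 0 * h7 - v 1 * h4 - v 2 * h5 - v 6 * p6
  have e6 : ap g.1 (ev p 6) = ap h.1 (ev p 6) := by rw [hg.1, hh.1]
  obtain ⟨x, hx⟩ := hg.2.1
  obtain ⟨u, w, huw⟩ := hg.2.2
  have cg := coords g hg x u w hx huw
  have ch := coords h hh x u w (e1 ▸ hx) (e2 ▸ huw)
  have e3 : ap g.1 (ev p 3) = ap h.1 (ev p 3) := by
    funext i
    fin_cases i
    · exact f0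
    · exact f1
    · exact f2
    · exact cg.2.1.trans ch.2.1.symm
    · exact cg.2.2.1.trans ch.2.2.1.symm
    · exact cg.2.2.2.1.trans ch.2.2.2.1.symm
    · show ap g.1 (ev p 3) 6 = ap h.1 (ev p 3) 6
      rw [cg.2.2.2.2, ch.2.2.2.2, f0, f1, f2]
    · show ap g.1 (ev p 3) 7 = ap h.1 (ev p 3) 7
      rw [cg.1, ch.1, f0]
  have prod : ∀ {a b c : Fin 8 → ZMod p}, zornMul a b = c → ap g.1 a = ap h.1 a →
      ap g.1 b = ap h.1 b → ap g.1 c = ap h.1 c := fun hc ha hb => by
    rw [← hc, ap_zorn, ap_zorn, ha, hb]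
  have q4 : zornMul (ev p 2) (ev p 3) = ev p 4 := by
    funext i; fin_cases i <;> simp [zornMul, cross3, dot3]
  have q5 : zornMul (ev p 3) (ev p 1) = ev p 5 := by
    funext i; fin_cases i <;> simp [zornMul, cross3, dot3]
  have q0 : zornMul (ev p 3) (ev p 6) = ev p 0 := by
    funext i; fin_cases i <;> simp [zornMul, cross3, dot3]
  have q7 : zornMul (ev p 6) (ev p 3) = ev p 7 := by
    funext i; fin_cases i <;> simp [zornMul, cross3, dot3]
  refine eq_of_val p (Matrix.ext fun i j => ?_)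
  have hj : ap g.1 (ev p j) = ap h.1 (ev p j) := by
    fin_cases j
    · exact prod q0 e3 e6
    · exact e1
    · exact e2
    · exact e3
    · exact prod q4 e2 e3
    · exact prod q5 e3 e1
    · exact e6
    · exact prod q7 e6 e3
  simpa [ap, Matrix.mulVec_single] using congrFun hj i

theorem card_flag_le (H : Subgroup G) (hH : ∀ g ∈ H, Flag p g) : Nat.card H ≤ p ^ 6 := by
  let f : H → Fin 6 → ZMod p := fun g => ![ap g.1.1 (ev p 1) 6, ap g.1.1 (ev p 2) 1,
    ap g.1.1 (ev p 2) 6, ap g.1.1 (ev p 3) 0, ap g.1.1 (ev p 3) 1, ap g.1.1 (ev p 3) 2]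
  have hf : Function.Injective f := by
    intro g h e
    have a0 := congrFun e 0; have a1 := congrFun e 1; have a2 := congrFun e 2
    have a3 := congrFun e 3; have a4 := congrFun e 4; have a5 := congrFun e 5
    simp only [f, Matrix.cons_val] at a0 a1 a2 a3 a4 a5
    obtain ⟨c, hc⟩ := (hH _ g.2).2.1
    obtain ⟨c', hc'⟩ := (hH _ h.2).2.1
    obtain ⟨u, w, huw⟩ := (hH _ g.2).2.2
    obtain ⟨u', w', huw'⟩ := (hH _ h.2).2.2
    rw [hc, hc'] at a0
    rw [huw, huw'] at a1 a2
    simp at a0 a1 a2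
    exact Subtype.ext (flag_ext p (hH _ g.2) (hH _ h.2) (by rw [hc, hc', a0])
      (by rw [huw, huw', a1, a2]) a3 a4 a5)
  refine (Nat.card_le_card_of_injective f hf).trans_eq ?_
  rw [Nat.card_fun, Nat.card_zmod, Nat.card_fin]

theorem apX_eq (v : Fin 8 → ZMod p) : ap (gX p).1 v =
    ![v 0 + v 5, v 1, -v 0 + v 2 - v 5 + v 7, v 3, -v 3 + v 4, v 5, v 1 + v 6, -v 5 + v 7] := by
  funext i
  show (red p mX *ᵥ v) i = _
  fin_cases i <;> simp [red, mX, Matrix.mulVec, dotProduct, Fin.sum_univ_eight] <;> ring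

theorem apT_eq (v : Fin 8 → ZMod p) : ap (gT p).1 v =
    ![v 0 + v 3, v 1 + 6 * v 2 - 6 * v 4 + v 5, v 2 - v 4, v 3, v 4, -6 * v 4 + v 5,
      -v 0 - v 3 + v 6 + v 7, -v 3 + v 7] := by
  funext i
  show (red p mT *ᵥ v) i = _
  fin_cases i <;> simp [red, mT, Matrix.mulVec, dotProduct, Fin.sum_univ_eight] <;> ring

theorem ap_pow_eigen {g : G} {v : Fin 8 → ZMod p} {c : ZMod p} (h : ap g.1 v = c • v) (n : ℕ) :
    ap (g ^ n : G).1 v = c ^ n • v := by
  induction n with
  | zero => rw [pow_zero, pow_zero, one_smul]; exact ap_one v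
  | succ n ih =>
    show ap ((g ^ (n + 1) : G)).1 v = _
    rw [pow_succ, Subgroup.coe_mul, ap_mul, h, ap_smul, ih, smul_smul, mul_comm, ← pow_succ]

/-- A `p`-power element normalising the subgroup lies in the flag. -/
theorem flag_of_normalizer (hp : 5 ≤ p) {g : G} {k : ℕ} (hgk : g ^ p ^ k = 1)
    (hg : g ∈ Subgroup.normalizer (U p : Set G)) : Flag p g := by
  have h2 : (2 : ZMod p) ≠ 0 := by
    have := cast_ne_zero p hp (n := 2) (a := 1) (b := 0) (by decide)
    exact_mod_cast this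
  have h6 : (6 : ZMod p) ≠ 0 := by
    have := cast_ne_zero p hp (n := 6) (a := 1) (b := 1) (by decide)
    exact_mod_cast this
  have hX : gX p ∈ U p := Subgroup.subset_closure (by simp)
  have hT : gT p ∈ U p := Subgroup.subset_closure (by simp)
  have htr : ∀ i : Fin 8, i ≠ 0 → i ≠ 7 → tr (ap g.1 (ev p i)) = 0 := fun i h0 h7 => by
    rw [(invariants g _).1]
    simp [tr, Ne.symm h0, Ne.symm h7]
  have hback : ∀ h ∈ U p, ∀ v, ∃ h' ∈ U p, ap h.1 (ap g.1 v) = ap g.1 (ap h'.1 v) := by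
    intro h hh v
    refine ⟨g⁻¹ * h * g, (Subgroup.mem_normalizer_iff''.mp hg h).mp hh, ?_⟩
    rw [← ap_mul, ← ap_mul, ← Subgroup.coe_mul, ← Subgroup.coe_mul]
    congr 2
    group
  -- the first line
  have hfix : ∀ h ∈ U p, ap h.1 (ev p 6) = ev p 6 := by
    intro h hh
    refine ((Subgroup.closure_le (stabV p (ev p 6))).mpr ?_ hh : h ∈ stabV p (ev p 6))
    rw [← gen p hp] at hh
    rintro _ (rfl | rfl | rfl | rfl | rfl | rfl) <;> exact fix_of_col p _ (by decide +kernel)
  obtain ⟨c, hc⟩ : ∃ c : ZMod p, ap g.1 (ev p 6) = c • ev p 6 := by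
    refine ⟨ap g.1 (ev p 6) 6, ?_⟩
    have kX : ap (gX p).1 (ap g.1 (ev p 6)) = ap g.1 (ev p 6) := by
      obtain ⟨h', hh', e⟩ := hback _ hX (ev p 6)
      rw [e, hfix h' hh']
    have kT : ap (gT p).1 (ap g.1 (ev p 6)) = ap g.1 (ev p 6) := by
      obtain ⟨h', hh', e⟩ := hback _ hT (ev p 6)
      rw [e, hfix h' hh']
    have t0 := htr 6 (by decide) (by decide)
    rw [apX_eq] at kX
    rw [apT_eq] at kT
    generalize ap g.1 (ev p 6) = v at kX kT t0 ⊢
    have x0 := congrFun kX 0; have x2 := congrFun kX 2; have x4 := congrFun kX 4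
    have x6 := congrFun kX 6; have t1 := congrFun kT 1; have t2 := congrFun kT 2
    simp at x0 x2 x4 x6 t1 t2
    simp [tr] at t0
    have v0 : v 0 = 0 := by
      have e : (2 : ZMod p) * v 0 = 0 := by linear_combination t0 - x2 - x0
      exact (mul_eq_zero.mp e).resolve_left h2
    have v7 : v 7 = 0 := by linear_combination t0 - v0
    have v2 : v 2 = 0 := by
      have e : (6 : ZMod p) * v 2 = 0 := by linear_combination t1 + 6 * t2 - x0
      exact (mul_eq_zero.mp e).resolve_left h6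
    funext i
    fin_cases i <;> simp <;>
      first | exact v0 | exact v2 | exact v7 | exact x0 | exact x4 | exact x6 | exact t2
  have hc1 : c = 1 := by
    have h := ap_pow_eigen p hc (p ^ k)
    rw [hgk, show ap (1 : G).1 (ev p 6) = ev p 6 from ap_one _] at h
    have := congrFun h 6
    simp at this
    exact this.symm
  rw [hc1, one_smul] at hc
  -- the second
  have hS1 : ∀ h ∈ U p, h ∈ shiftV p (ev p 1) := by
    intro h hh
    rw [← gen p hp] at hh
    refine (Subgroup.closure_le _).mpr ?_ hh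
    rintro _ (rfl | rfl)
    · refine ⟨hfix _ hX, 1, ?_⟩
      rw [apX_eq]
      funext i; fin_cases i <;> simp
    · refine ⟨hfix _ hT, 0, ?_⟩
      rw [apT_eq]
      funext i; fin_cases i <;> simp
  have hm1 : ∀ h ∈ U p, ∃ e : ZMod p,
      ap h.1 (ap g.1 (ev p 1)) = ap g.1 (ev p 1) + e • ev p 6 := by
    intro h hh
    obtain ⟨h', hh', e⟩ := hback h hh (ev p 1)
    obtain ⟨-, d, hd⟩ := hS1 h' hh'
    exact ⟨d, by rw [e, hd, ap_add, ap_smul, hc]⟩
  obtain ⟨a, b, hab⟩ : ∃ a b : ZMod p, ap g.1 (ev p 1) = a • ev p 1 + b • ev p 6 := by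
    refine ⟨ap g.1 (ev p 1) 1, ap g.1 (ev p 1) 6, ?_⟩
    obtain ⟨e1, kX⟩ := hm1 _ hX
    obtain ⟨e2, kT⟩ := hm1 _ hT
    have t0 := htr 1 (by decide) (by decide)
    rw [apX_eq] at kX
    rw [apT_eq] at kT
    generalize ap g.1 (ev p 1) = v at kX kT t0 ⊢
    have x0 := congrFun kX 0; have x2 := congrFun kX 2; have x4 := congrFun kX 4
    have t1 := congrFun kT 1; have t2 := congrFun kT 2
    simp at x0 x2 x4 t1 t2
    simp [tr] at t0
    have v0 : v 0 = 0 := by
      have e : (2 : ZMod p) * v 0 = 0 := by linear_combination t0 - x2 - x0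
      exact (mul_eq_zero.mp e).resolve_left h2
    have v7 : v 7 = 0 := by linear_combination t0 - v0
    have v2 : v 2 = 0 := by
      have e : (6 : ZMod p) * v 2 = 0 := by linear_combination t1 + 6 * t2 - x0
      exact (mul_eq_zero.mp e).resolve_left h6
    funext i
    fin_cases i <;> simp <;>
      first | exact v0 | exact v2 | exact v7 | exact x0 | exact x4 | exact t2
  have hpow1 : ∀ n : ℕ, ∃ e : ZMod p, ap (g ^ n : G).1 (ev p 1) = a ^ n • ev p 1 + e • ev p 6 := by
    intro n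
    induction n with
    | zero => exact ⟨0, by rw [pow_zero, pow_zero, one_smul, zero_smul, add_zero]; exact ap_one _⟩
    | succ n ih =>
      obtain ⟨e, he⟩ := ih
      have hc' : ap g.1 (ev p 6) = (1 : ZMod p) • ev p 6 := by rw [one_smul]; exact hc
      refine ⟨a * e + b, ?_⟩
      rw [pow_succ, Subgroup.coe_mul, ap_mul, hab, ap_add, ap_smul, ap_smul, he,
        ap_pow_eigen p hc', one_pow, one_smul, smul_add, smul_smul, smul_smul, pow_succ,
        mul_comm (a ^ n), add_smul, add_assoc]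
  have ha1 : a = 1 := by
    obtain ⟨e, he⟩ := hpow1 (p ^ k)
    rw [hgk, show ap (1 : G).1 (ev p 1) = ev p 1 from ap_one _] at he
    have := congrFun he 1
    simp at this
    exact this.symm
  rw [ha1, one_smul] at hab
  -- the third
  let S2 : Subgroup G :=
    { carrier := {h | h ∈ shiftV p (ev p 1) ∧ ∃ c d : ZMod p,
        ap h.1 (ev p 2) = ev p 2 + c • ev p 1 + d • ev p 6}
      mul_mem' := by
        rintro h h' ⟨hh, c1, d1, e1⟩ ⟨hh', c2, d2, e2⟩
        refine ⟨mul_mem hh hh', ?_⟩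
        obtain ⟨q6, f, q1⟩ := hh
        refine ⟨c1 + c2, d1 + d2 + c2 * f, ?_⟩
        show ap (h.1 * h'.1) (ev p 2) = _
        rw [ap_mul, e2, ap_add, ap_add, ap_smul, ap_smul, e1, q1, q6]
        module
      one_mem' := ⟨one_mem _, 0, 0, by
        show ap 1 (ev p 2) = _
        rw [ap_one, zero_smul, zero_smul, add_zero, add_zero]⟩
      inv_mem' := by
        rintro h ⟨hh, c1, d1, e1⟩
        refine ⟨inv_mem hh, ?_⟩
        obtain ⟨q6, f, q1⟩ := inv_mem hh
        have e := congrArg (ap (h⁻¹ : G).1) e1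
        rw [show ap (h⁻¹ : G).1 (ap h.1 (ev p 2)) = ev p 2 from ap_inv_ap _ _, ap_add, ap_add,
          ap_smul, ap_smul, q1, q6] at e
        refine ⟨-c1, -d1 - c1 * f, ?_⟩
        rw [eq_comm] at e
        linear_combination (norm := module) e }
  have hS2 : ∀ h ∈ U p, h ∈ S2 := by
    intro h hh
    rw [← gen p hp] at hh
    refine (Subgroup.closure_le _).mpr ?_ hh
    rintro _ (rfl | rfl)
    · refine ⟨hS1 _ hX, 0, 0, ?_⟩
      rw [apX_eq]
      funext i; fin_cases i <;> simp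
    · refine ⟨hS1 _ hT, 6, 0, ?_⟩
      rw [apT_eq]
      funext i; fin_cases i <;> simp
  have hm2 : ∀ h ∈ U p, ∃ e f : ZMod p,
      ap h.1 (ap g.1 (ev p 2)) = ap g.1 (ev p 2) + e • ev p 1 + f • ev p 6 := by
    intro h hh
    obtain ⟨h', hh', e⟩ := hback h hh (ev p 2)
    obtain ⟨-, c1, d1, hd⟩ := hS2 h' hh'
    refine ⟨c1, c1 * b + d1, ?_⟩
    rw [e, hd, ap_add, ap_add, ap_smul, ap_smul, hab, hc]
    module
  obtain ⟨q, u, w, hquw⟩ : ∃ q u w : ZMod p,
      ap g.1 (ev p 2) = q • ev p 2 + u • ev p 1 + w • ev p 6 := by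
    refine ⟨ap g.1 (ev p 2) 2, ap g.1 (ev p 2) 1, ap g.1 (ev p 2) 6, ?_⟩
    obtain ⟨e1, f1, kX⟩ := hm2 _ hX
    obtain ⟨e2, f2, kT⟩ := hm2 _ hT
    have t0 := htr 2 (by decide) (by decide)
    rw [apX_eq] at kX
    rw [apT_eq] at kT
    generalize ap g.1 (ev p 2) = v at kX kT t0 ⊢
    have x0 := congrFun kX 0; have x2 := congrFun kX 2; have x4 := congrFun kX 4
    have t2 := congrFun kT 2
    simp at x0 x2 x4 t2
    simp [tr] at t0
    have v0 : v 0 = 0 := by
      have e : (2 : ZMod p) * v 0 = 0 := by linear_combination t0 - x2 - x0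
      exact (mul_eq_zero.mp e).resolve_left h2
    have v7 : v 7 = 0 := by linear_combination t0 - v0
    funext i
    fin_cases i <;> simp <;>
      first | exact v0 | exact v7 | exact x0 | exact x4 | exact t2
  have hpow2 : ∀ n : ℕ, ∃ e f : ZMod p,
      ap (g ^ n : G).1 (ev p 2) = q ^ n • ev p 2 + e • ev p 1 + f • ev p 6 := by
    intro n
    induction n with
    | zero => exact ⟨0, 0, by
        rw [pow_zero, pow_zero, one_smul, zero_smul, zero_smul, add_zero, add_zero]; exact ap_one _⟩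
    | succ n ih =>
      obtain ⟨e, f, he⟩ := ih
      obtain ⟨f1, hf1⟩ := hpow1 n
      have hc' : ap g.1 (ev p 6) = (1 : ZMod p) • ev p 6 := by rw [one_smul]; exact hc
      refine ⟨q * e + u, q * f + u * f1 + w, ?_⟩
      rw [pow_succ, Subgroup.coe_mul, ap_mul, hquw, ap_add, ap_add, ap_smul, ap_smul, ap_smul, he,
        hf1, ha1, one_pow, ap_pow_eigen p hc', one_pow, pow_succ]
      module
  have hq1 : q = 1 := by
    obtain ⟨e, f, he⟩ := hpow2 (p ^ k)
    rw [hgk, show ap (1 : G).1 (ev p 2) = ev p 2 from ap_one _] at he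
    have := congrFun he 2
    simp at this
    exact this.symm
  rw [hq1, one_smul] at hquw
  exact ⟨hc, ⟨b, hab⟩, u, w, hquw⟩

/-- The subgroup is a Sylow subgroup. -/
theorem exists_sylow (hp : 5 ≤ p) : ∃ P : Sylow p G, (P : Subgroup G) = U p := by
  have hUp : IsPGroup p (U p) := IsPGroup.of_card (card_eq p hp)
  obtain ⟨Q, hQ⟩ := hUp.exists_le_sylow
  refine ⟨Q, ?_⟩
  by_contra hne
  haveI : Group.IsNilpotent ↥(Q : Subgroup G) := Q.2.isNilpotent
  have hlt : (U p).subgroupOf (Q : Subgroup G) < ⊤ :=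
    lt_top_iff_ne_top.mpr fun h => hne (le_antisymm (Subgroup.subgroupOf_eq_top.mp h) hQ)
  have hgrow := Group.normalizerCondition_of_isNilpotent _ hlt
  obtain ⟨g, hgN, hgU⟩ := SetLike.exists_of_lt hgrow
  let H : Subgroup G := Subgroup.normalizer (U p : Set G) ⊓ (Q : Subgroup G)
  have hflag : ∀ h ∈ H, Flag p h := fun h hh => by
    obtain ⟨k, hk⟩ := Q.2 ⟨h, hh.2⟩
    exact flag_of_normalizer p hp (congrArg Subtype.val hk) hh.1
  have hgH : (g : G) ∈ H := by
    refine ⟨Subgroup.mem_normalizer_fintype fun x hx => ?_, g.2⟩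
    exact ((Subgroup.mem_normalizer_iff.mp hgN ⟨x, hQ hx⟩).mp hx)
  have hUH : U p ≤ H := le_inf Subgroup.le_normalizer hQ
  have heq : U p = H := Subgroup.eq_of_le_of_card_ge hUH
    ((card_flag_le p H hflag).trans (card_eq p hp).ge)
  exact hgU (show (g : G) ∈ U p from heq ▸ hgH)

end G2Model

/-- The model of type `G₂`. -/
theorem g2Model : StmtG2.{u} := by
  intro L _ p _ h5 h
  obtain ⟨P, hP⟩ := G2Model.exists_sylow p h5
  obtain ⟨e⟩ := nfFour_iso h (G2Model.nfFour p h5)
  exact ⟨P, ⟨e.trans (MulEquiv.subgroupCongr hP.symm)⟩⟩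

end CfsgLib.ExtraIndexP
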