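import Cfsg.Agent.Lib.ExtraIndexP.Basic
import Cfsg.Agent.Lib.Fusion.Saturation

/-!
# The action of `S` on `Q` modulo the centre, and elementary fusion
-/

set_option autoImplicit false
set_option linter.style.haveILetI false

open Cfsg Cfsg.FusionSystem CfsgLib.Fusion Module
open scoped commutatorElement

namespace CfsgLib.ExtraIndexP

universe u

variable {Ω : Type u} [Group Ω] {p n : ℕ} [hp : Fact p.Prime] {S Q : Subgroup Ω}
  {F : FusionSystem S} {z : Ω}

/-- The centralizer in `S` of an element. -/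
def cS (S : Subgroup Ω) (y : Ω) : Subgroup Ω := S ⊓ Subgroup.centralizer {y}

omit hp in
theorem mem_cS {y s : Ω} : s ∈ cS S y ↔ s ∈ S ∧ s * y = y * s := by
  rw [cS, Subgroup.mem_inf, Subgroup.mem_centralizer_singleton_iff]

omit hp in
theorem cS_eq (y : Ω) : cS S y = centralizerIn S (Subgroup.zpowers y) := by
  ext s
  rw [mem_cS, mem_centralizerIn]
  refine and_congr_right fun _ => ⟨fun h x hx => ?_, fun h => ?_⟩
  · obtain ⟨k, rfl⟩ := Subgroup.mem_zpowers_iff.mp hx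
    exact cj_fixed_iff.mpr ((show Commute s y from h).zpow_right k)
  · exact cj_fixed_iff.mp (h y (Subgroup.mem_zpowers y))

omit hp in
theorem self_mem_cS {y : Ω} (hy : y ∈ S) : y ∈ cS S y := mem_cS.mpr ⟨hy, rfl⟩

omit hp in
theorem isConjElt_of_mor {P : Subgroup Ω} {f : Ω → Ω} (hf : IsMor F P f) {x : Ω} (hx : x ∈ P) :
    F.IsConjElt x (f x) :=
  isConjElt_iff.mpr ⟨f, hf.restrict (Subgroup.zpowers_le.mpr hx), rfl⟩

omit hp in
theorem isConjElt_symm' {x y : Ω} (h : F.IsConjElt x y) : F.IsConjElt y x := by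
  obtain ⟨f, hf, e⟩ := isConjElt_iff.mp h
  obtain ⟨g, hg, hl, -, -⟩ := hf.inverse
  have hy : y ∈ img (Subgroup.zpowers x) f := e ▸ mem_img_of_mem f (Subgroup.mem_zpowers x)
  have := isConjElt_of_mor hg hy
  rwa [show g y = x from e ▸ hl x (Subgroup.mem_zpowers x)] at this

omit hp in
theorem isConjElt_trans' {x y w : Ω} (h : F.IsConjElt x y) (h' : F.IsConjElt y w) :
    F.IsConjElt x w := by
  obtain ⟨f, hf, e⟩ := isConjElt_iff.mp h
  obtain ⟨g, hg, e'⟩ := isConjElt_iff.mp h'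
  refine isConjElt_iff.mpr ⟨g ∘ f, hf.comp hg fun a ha => ?_, by rw [Function.comp_apply, e, e']⟩
  obtain ⟨k, rfl⟩ := Subgroup.mem_zpowers_iff.mp ha
  rw [hf.map_zpow (Subgroup.mem_zpowers x), e]
  exact zpow_mem (Subgroup.mem_zpowers y) k

omit hp in
theorem map_commutator' {P : Subgroup Ω} {f : Ω → Ω} (hf : IsMor F P f) {a b : Ω} (ha : a ∈ P)
    (hb : b ∈ P) : f ⁅a, b⁆ = ⁅f a, f b⁆ := by
  rw [commutatorElement_def, commutatorElement_def, hf.map_mul (P.mul_mem (P.mul_mem ha hb)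
    (P.inv_mem ha)) (P.inv_mem hb), hf.map_conj ha hb, hf.map_inv hb]

omit hp in
theorem map_zp' {P : Subgroup Ω} {f : Ω → Ω} (hf : IsMor F P f) {w : Ω} (hw : w ∈ P)
    (i : ZMod p) : f (zp w i) = zp (f w) i := hf.map_pow hw _

namespace Ctx

variable (h : Ctx p n S Q F z)
include h

theorem exists_mul_mem {x : Ω} (hx : x ∈ S) (hxQ : x ∉ Q) {s : Ω} (hs : s ∈ S) :
    ∃ k : ℕ, s * (x ^ k)⁻¹ ∈ Q := by
  haveI := h.finite
  haveI : (Q.subgroupOf S).Normal := ⟨fun a ha g => h.normal g g.2 a ha⟩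
  have hcard : Nat.card (↥S ⧸ Q.subgroupOf S) = p := h.index
  have h1 : QuotientGroup.mk' (Q.subgroupOf S) ⟨x, hx⟩ ≠ 1 := fun e =>
    hxQ ((QuotientGroup.eq_one_iff (N := Q.subgroupOf S) _).mp e)
  obtain ⟨k, hk⟩ := mem_powers_of_prime_card (G := ↥S ⧸ Q.subgroupOf S) hcard h1
    (g' := QuotientGroup.mk' (Q.subgroupOf S) ⟨s, hs⟩)
  refine ⟨k, ?_⟩
  have e : QuotientGroup.mk' (Q.subgroupOf S) (⟨s, hs⟩ * (⟨x, hx⟩ ^ k)⁻¹) = 1 := by
    rw [map_mul, map_inv, map_pow]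
    show _ * (QuotientGroup.mk' (Q.subgroupOf S) ⟨x, hx⟩ ^ k)⁻¹ = 1
    rw [show QuotientGroup.mk' (Q.subgroupOf S) ⟨x, hx⟩ ^ k = _ from hk, mul_inv_cancel]
  exact (QuotientGroup.eq_one_iff (N := Q.subgroupOf S) _).mp e

theorem eq_S_of_gt {T : Subgroup Ω} (hT : T ≤ S) (hQT : Q ≤ T) {x : Ω} (hx : x ∈ T)
    (hxQ : x ∉ Q) : T = S := by
  refine le_antisymm hT fun s hs => ?_
  obtain ⟨k, hk⟩ := h.exists_mul_mem (hT hx) hxQ hs
  have := T.mul_mem (hQT hk) (T.pow_mem hx k)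
  rwa [inv_mul_cancel_right] at this

theorem card_le_inf {T : Subgroup Ω} (hT : T ≤ S) :
    Nat.card T ≤ p * Nat.card ↥(T ⊓ Q : Subgroup Ω) := by
  haveI := h.finite
  haveI : Finite T := finite_of_le hT
  by_cases hTQ : T ≤ Q
  · rw [inf_eq_left.mpr hTQ]
    exact Nat.le_mul_of_pos_left _ hp.out.pos
  have h1 : ((T ⊓ Q).subgroupOf T).index ≤ p := by
    show (T ⊓ Q).relIndex T ≤ p
    rw [Subgroup.inf_relIndex_left]
    exact le_trans (Subgroup.relIndex_le_of_le_right (K := T) (L := S) hT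
      (h.index.trans_ne hp.out.ne_zero)) h.index.le
  have h2 := Subgroup.card_mul_index ((T ⊓ Q).subgroupOf T)
  rw [Nat.card_congr (Subgroup.subgroupOfEquivOfLe inf_le_left).toEquiv] at h2
  rw [← h2, mul_comm]
  exact Nat.mul_le_mul_right _ h1

theorem isReceptive_center : F.IsReceptive (Subgroup.zpowers z) := by
  haveI := h.finite
  haveI := h.prime
  have hzS : z ∈ S := h.le h.z_mem
  refine isReceptive_of_centralized h.group h.sat ⟨Subgroup.zpowers_le.mpr hzS, fun P _ => ?_⟩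
  rw [← cS_eq, show cS S z = S from le_antisymm inf_le_left fun s hs =>
    mem_cS.mpr ⟨hs, h.z_comm s hs⟩]
  exact Subgroup.card_le_of_le centralizerIn_le

/-- A conjugate of the centre can be mapped back with its whole centralizer. -/
theorem receive {y : Ω} (hy : F.IsConjElt z y) : ∃ f, IsMor F (cS S y) f ∧ f y = z := by
  obtain ⟨f, hf, e⟩ := isConjElt_iff.mp (isConjElt_symm' hy)
  have hi : img (Subgroup.zpowers y) f = Subgroup.zpowers z := by
    refine le_antisymm (img_le fun a ha => ?_) (Subgroup.zpowers_le.mpr (e ▸ mem_img_of_mem f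
      (Subgroup.mem_zpowers y)))
    obtain ⟨k, rfl⟩ := Subgroup.mem_zpowers_iff.mp ha
    rw [hf.map_zpow (Subgroup.mem_zpowers y), e]
    exact zpow_mem (Subgroup.mem_zpowers z) k
  obtain ⟨g, hg, hgf, -⟩ := exists_map_centralizer h.isReceptive_center hf hi
  exact ⟨g, hg.restrict (cS_eq (S := S) y ▸ le_sup_left), (hgf y (Subgroup.mem_zpowers y)).trans e⟩

omit hp in
theorem map_center {f : Ω → Ω} (hf : IsMor F S f) : f z ∈ Subgroup.zpowers z := by
  haveI := h.finite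
  have hi : img S f = S := hf.img_eq_self fun a ha => hf.mem ha
  refine h.center_S _ (hf.mem (h.le h.z_mem)) fun b hb => ?_
  obtain ⟨a, ha, rfl⟩ := hf.mem_img.mp (hi.ge hb)
  rw [← hf.map_mul (h.le h.z_mem) ha, ← hf.map_mul ha (h.le h.z_mem), h.z_comm a ha]

end Ctx

namespace Coords

variable (K : Coords p n S Q z)

theorem act_inv {s : Ω} (hs : s ∈ S) : K.act s⁻¹ * K.act s = 1 := by
  rw [← K.act_mul _ (S.inv_mem hs) _ hs, inv_mul_cancel, K.act_one]

theorem act_pow_eq {s : Ω} (hs : s ∈ S) (k : ℕ) : K.act (s ^ k) = K.act s ^ k := by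
  induction k with
  | zero => rw [pow_zero, pow_zero, K.act_one]
  | succ k ih => rw [pow_succ, pow_succ, K.act_mul _ (S.pow_mem hs k) _ hs, ih]

theorem sub_one_pow {s : Ω} (hs : s ∈ S) : (K.act s - 1) ^ p = 0 := by
  rcases Nat.eq_zero_or_pos n with rfl | hn
  · exact LinearMap.ext fun v => funext fun i => absurd i.2 (by omega)
  haveI : Nonempty (Fin (2 * n)) := ⟨⟨0, by omega⟩⟩
  haveI : CharP (Module.End (ZMod p) (Fin (2 * n) → ZMod p)) p :=
    charP_of_injective_algebraMap (R := ZMod p) (algebraMap (ZMod p) _).injective p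
  rw [sub_pow_char_of_commute p (Commute.one_right _), one_pow, K.act_pow s hs, sub_self]

theorem π_commutator (h : Ctx p n S Q F z) {s a : Ω} (hs : s ∈ S) (ha : a ∈ Q) :
    K.π ⁅s, a⁆ = (K.act s - 1) (K.π a) := by
  rw [commutatorElement_def, ← cj, K.π_mul _ (h.normal s hs a ha) _ (Q.inv_mem ha), K.π_inv ha,
    K.act_spec s hs a ha, LinearMap.sub_apply, Module.End.one_apply, sub_eq_add_neg]

omit hp in
theorem commutator_mem_Q' (h : Ctx p n S Q F z) {s a : Ω} (hs : s ∈ S) (ha : a ∈ Q) :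
    ⁅s, a⁆ ∈ Q := by
  rw [commutatorElement_def]
  exact Q.mul_mem (h.normal s hs a ha) (Q.inv_mem ha)

theorem θ_sub_one {s : Ω} (hs : s ∈ S) (v : Fin (2 * n) → ZMod p) :
    K.θ ((K.act s - 1) v) = 0 := by
  rw [LinearMap.sub_apply, Module.End.one_apply, map_sub, K.θ_act s hs, sub_self]

theorem adjoint {s : Ω} (hs : s ∈ S) (v w : Fin (2 * n) → ZMod p) :
    K.B ((K.act s - 1) v) w + K.B v ((K.act s - 1) w) +
      K.B ((K.act s - 1) v) ((K.act s - 1) w) = 0 := by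
  simp only [LinearMap.sub_apply, Module.End.one_apply, map_sub, K.isometry s hs]
  abel

/-- What is fixed is the orthogonal space of what is moved. -/
theorem mem_ker_iff {s : Ω} (hs : s ∈ S) (v : Fin (2 * n) → ZMod p) :
    v ∈ LinearMap.ker (K.act s - 1) ↔ ∀ w, K.B v ((K.act s - 1) w) = 0 := by
  rw [LinearMap.mem_ker]
  refine ⟨fun e w => by simpa [e] using K.adjoint hs v w, fun e => K.nondeg _ fun w => ?_⟩
  have h1 := e (K.act s⁻¹ w)
  have h2 : K.act s (K.act s⁻¹ w) = w := by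
    rw [← Module.End.mul_apply, ← K.act_mul _ hs _ (S.inv_mem hs), mul_inv_cancel, K.act_one,
      Module.End.one_apply]
  have h3 := K.adjoint hs v (K.act s⁻¹ w)
  rw [h1, add_zero, ← map_add] at h3
  simpa [LinearMap.sub_apply, h2] using h3

theorem finrank_ker_add {s : Ω} :
    finrank (ZMod p) (LinearMap.range (K.act s - 1)) +
      finrank (ZMod p) (LinearMap.ker (K.act s - 1)) = 2 * n := by
  rw [LinearMap.finrank_range_add_finrank_ker, finrank_fin_fun]

theorem range_le (h : Ctx p n S Q F z) {x s : Ω} (hx : x ∈ S) (hxQ : x ∉ Q) (hs : s ∈ S) :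
    LinearMap.range (K.act s - 1) ≤ LinearMap.range (K.act x - 1) ∧
      LinearMap.ker (K.act x - 1) ≤ LinearMap.ker (K.act s - 1) := by
  obtain ⟨k, hk⟩ := h.exists_mul_mem hx hxQ hs
  have e : K.act s = K.act x ^ k := by
    conv_lhs => rw [← inv_mul_cancel_right s (x ^ k)]
    rw [K.act_mul _ (h.le hk) _ (S.pow_mem hx k), K.act_Q _ hk, one_mul, K.act_pow_eq hx]
  rw [e]
  constructor
  · rw [← mul_geom_sum]
    exact LinearMap.range_comp_le_range _ _
  · rw [← geom_sum_mul]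
    exact LinearMap.ker_le_ker_comp _ _

theorem range_eq (h : Ctx p n S Q F z) {x s : Ω} (hx : x ∈ S) (hxQ : x ∉ Q) (hs : s ∈ S)
    (hsQ : s ∉ Q) : LinearMap.range (K.act s - 1) = LinearMap.range (K.act x - 1) :=
  le_antisymm (K.range_le h hx hxQ hs).1 (K.range_le h hs hsQ hx).1

theorem ker_eq (h : Ctx p n S Q F z) {x s : Ω} (hx : x ∈ S) (hxQ : x ∉ Q) (hs : s ∈ S)
    (hsQ : s ∉ Q) : LinearMap.ker (K.act s - 1) = LinearMap.ker (K.act x - 1) :=
  le_antisymm (K.range_le h hs hsQ hx).2 (K.range_le h hx hxQ hs).2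

/-- The subgroup of `Q` over a subspace. -/
def lift (W : Submodule (ZMod p) (Fin (2 * n) → ZMod p)) : Subgroup Ω where
  carrier := {a | a ∈ Q ∧ K.π a ∈ W}
  one_mem' := ⟨Q.one_mem, by rw [K.π_one]; exact W.zero_mem⟩
  mul_mem' {a b} ha hb := ⟨Q.mul_mem ha.1 hb.1, by
    rw [K.π_mul a ha.1 b hb.1]; exact W.add_mem ha.2 hb.2⟩
  inv_mem' {a} ha := ⟨Q.inv_mem ha.1, by rw [K.π_inv ha.1]; exact W.neg_mem ha.2⟩

theorem mem_lift {W : Submodule (ZMod p) (Fin (2 * n) → ZMod p)} {a : Ω} :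
    a ∈ K.lift W ↔ a ∈ Q ∧ K.π a ∈ W := Iff.rfl

theorem card_lift (h : Ctx p n S Q F z) (W : Submodule (ZMod p) (Fin (2 * n) → ZMod p)) :
    Nat.card (K.lift W) = p ^ (finrank (ZMod p) W + 1) := by
  haveI := h.finite
  haveI : Finite (K.lift W) := finite_of_le (fun a ha => h.le ha.1)
  let f : ↥(K.lift W) →* Multiplicative W :=
    MonoidHom.mk' (fun a => Multiplicative.ofAdd ⟨K.π a, a.2.2⟩) fun a b =>
      congrArg Multiplicative.ofAdd (Subtype.ext (K.π_mul a a.2.1 b b.2.1))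
  have hf : Function.Surjective f := fun v => by
    obtain ⟨a, ha, e⟩ := K.π_surj (Multiplicative.toAdd v : W)
    exact ⟨⟨a, ha, e ▸ (Multiplicative.toAdd v).2⟩,
      congrArg Multiplicative.ofAdd (Subtype.ext e)⟩
  have hk : f.ker = (Subgroup.zpowers z).subgroupOf (K.lift W) := by
    ext ⟨a, ha⟩
    rw [MonoidHom.mem_ker, Subgroup.mem_subgroupOf]
    refine ⟨fun e => (K.π_eq_zero a ha.1).mp (congrArg Subtype.val (Multiplicative.ofAdd.injective e)),
      fun e => congrArg Multiplicative.ofAdd (Subtype.ext ((K.π_eq_zero a ha.1).mpr e))⟩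
  have hle : Subgroup.zpowers z ≤ K.lift W := Subgroup.zpowers_le.mpr
    ⟨h.z_mem, by rw [(K.π_eq_zero z h.z_mem).mpr (Subgroup.mem_zpowers z)]; exact W.zero_mem⟩
  have h1 := Subgroup.card_mul_index f.ker
  rw [Subgroup.index_ker, MonoidHom.range_eq_top.mpr hf, Subgroup.card_top, hk,
    Nat.card_congr (Subgroup.subgroupOfEquivOfLe hle).toEquiv, h.card_zpowers,
    Nat.card_congr Multiplicative.toAdd, Module.natCard_eq_pow_finrank (K := ZMod p),
    Nat.card_zmod] at h1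
  rw [← h1, pow_succ, mul_comm]

/-- If the action has rank at least two, `Q` is the only subgroup of its kind. -/
theorem eq_Q (h : Ctx p n S Q F z) {x : Ω} (hx : x ∈ S) (hxQ : x ∉ Q)
    (h2 : 2 ≤ finrank (ZMod p) (LinearMap.range (K.act x - 1))) {T : Subgroup Ω} (hT : T ≤ S)
    (hc : Nat.card T = Nat.card Q) (hcomm : ∀ a ∈ T, ∀ b ∈ T, ⁅a, b⁆ ∈ Subgroup.zpowers z) :
    T = Q := by
  haveI := h.finite
  by_contra hne
  have hTQ : ¬ T ≤ Q := fun e => hne (eq_of_le_of_card h.le e hc.ge)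
  obtain ⟨g, hg, hgQ⟩ := SetLike.not_le_iff_exists.mp hTQ
  have hle : T ⊓ Q ≤ K.lift (LinearMap.ker (K.act g - 1)) := fun a ha => ⟨ha.2, by
    rw [LinearMap.mem_ker, ← K.π_commutator h (hT hg) ha.2]
    exact (K.π_eq_zero _ (commutator_mem_Q' h (hT hg) ha.2)).mpr (hcomm g hg a ha.1)⟩
  haveI : Finite (K.lift (LinearMap.ker (K.act g - 1))) := finite_of_le (fun a ha => h.le ha.1)
  have h1 := (h.card_le_inf hT).trans (Nat.mul_le_mul_left p (Subgroup.card_le_of_le hle))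
  rw [hc, h.card_Q, K.card_lift h, ← pow_succ'] at h1
  have h3 := (Nat.pow_le_pow_iff_right hp.out.one_lt).mp h1
  have h4 := K.finrank_ker_add (s := g)
  rw [K.range_eq h hx hxQ (hT hg) hgQ] at h4
  omega

/-- In that case maps preserving the centre preserve `Q`. -/
theorem img_Q_eq (h : Ctx p n S Q F z) {x : Ω} (hx : x ∈ S) (hxQ : x ∉ Q)
    (h2 : 2 ≤ finrank (ZMod p) (LinearMap.range (K.act x - 1))) {R : Subgroup Ω} {f : Ω → Ω}
    (hf : IsMor F R f) (hQR : Q ≤ R) (hz : f z ∈ Subgroup.zpowers z) : img Q f = Q := by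
  have hfQ := hf.restrict hQR
  refine K.eq_Q h hx hxQ h2 hfQ.img_le hfQ.card_img fun a ha b hb => ?_
  obtain ⟨a', ha', rfl⟩ := hfQ.mem_img.mp ha
  obtain ⟨b', hb', rfl⟩ := hfQ.mem_img.mp hb
  rw [← map_commutator' hfQ ha' hb', K.comm a' ha' b' hb', map_zp' hfQ h.z_mem]
  exact pow_mem hz _

end Coords

end CfsgLib.ExtraIndexP
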