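import Cfsg.Agent.Lib.ExtraIndexP.ModelUT
import Cfsg.Agent.Lib.Classical.Order
import Mathlib

/-!
# The linear model
-/

set_option autoImplicit false

open Subgroup

namespace CfsgLib.ExtraIndexP

universe u

theorem factorization_pow_mul {p m : ℕ} (hp : p.Prime) (k : ℕ) (hm : ¬ p ∣ m) :
    (p ^ k * m).factorization p = k := by
  rw [Nat.factorization_mul (pow_ne_zero k hp.ne_zero) (by rintro rfl; exact hm (dvd_zero p)),
    Finsupp.add_apply, hp.factorization_pow, Finsupp.single_eq_same,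
    Nat.factorization_eq_zero_of_not_dvd hm, add_zero]

theorem not_dvd_pow_sub_one {p k : ℕ} (hp : p.Prime) (hk : k ≠ 0) : ¬ p ∣ p ^ k - 1 := fun h => by
  have h1 : 1 ≤ p ^ k := Nat.one_le_pow _ _ hp.pos
  exact hp.not_dvd_one ((Nat.dvd_sub (dvd_pow_self p hk) h).trans (by rw [Nat.sub_sub_self h1]))

theorem two_ne_zero_of_odd {p : ℕ} [Fact p.Prime] (hp : Odd p) (F : Type*) [Field F] [CharP F p] :
    (2 : F) ≠ 0 :=
  Ring.two_ne_zero (by rw [ringChar.eq F p]; rintro rfl; norm_num at hp)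

theorem stmtSL : StmtSL.{u} := by
  intro G _ p _ hp hG
  classical
  have hpp : p.Prime := Fact.out
  have h2 := two_ne_zero_of_odd hp (ZMod p)
  have hmodel : NFTwo p ↥(Subgroup.closure ({utX (1 : ZMod p), utT 1 1, utT 1 (-1)} :
      Set (Matrix.SpecialLinearGroup (Fin 4) (ZMod p)))) (-1) :=
    nfTwo_ut h2 (θ := 1) (a₁ := 1) (f₁ := 1) (a₂ := 1) (f₂ := -1) (-1) one_ne_zero (by norm_num) (by ring) (by norm_num)
      (by rw [map_neg, map_one]; ring)
  obtain ⟨e⟩ := nfTwo_iso hG hmodel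
  have hcard : Nat.card ↥(Subgroup.closure ({utX (1 : ZMod p), utT 1 1, utT 1 (-1)} :
      Set (Matrix.SpecialLinearGroup (Fin 4) (ZMod p)))) = p ^ 6 := by
    obtain ⟨_, _, _, _, _, _, _, h, _⟩ := hmodel
    exact h
  have hfac : (Nat.card (Matrix.SpecialLinearGroup (Fin 4) (ZMod p))).factorization p = 6 := by
    rw [CfsgLib.Classical.card_SL_fin', Nat.card_zmod]
    refine factorization_pow_mul hpp 6 fun h => ?_
    obtain ⟨i, -, hi⟩ := (Prime.dvd_finsetProd_iff (Nat.prime_iff.mp hpp) _).mp h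
    exact not_dvd_pow_sub_one hpp (by omega) hi
  exact ⟨Sylow.ofCard _ (by rw [hfac]; exact hcard), ⟨e⟩⟩

end CfsgLib.ExtraIndexP
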