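import Cfsg.Agent.Lib.ExtraIndexP.ModelSL
import Cfsg.Agent.Lib.MultSU.Four
import Mathlib

/-!
# The unitary model

In a basis `e₁, e₂, f₂, f₁` of two orthogonal hyperbolic planes the unitriangular model preserves
the Hermitian form when `σ θ = -θ` and `f = -σ a`.
-/

set_option autoImplicit false

open Subgroup Matrix

namespace CfsgLib.ExtraIndexP

universe u

variable {F : Type*} [Field F] (σ : F →+* F)

/-- The hyperbolic Hermitian form. -/
def hyp (u v : Fin 4 → F) : F := u 0 * σ (v 3) + u 1 * σ (v 2) + u 2 * σ (v 1) + u 3 * σ (v 0)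

/-- The change of basis to the standard form. -/
def baseMat (η : F) : Matrix (Fin 4) (Fin 4) F :=
  !![1, 0, 0, 2⁻¹; η, 0, 0, -(η * 2⁻¹); 0, 1, 2⁻¹, 0; 0, η, -(η * 2⁻¹), 0]

theorem hyp_utX {θ : F} (hθ : σ θ = -θ) (u v : Fin 4 → F) :
    hyp σ (utMat 0 0 θ 0 0 0 *ᵥ u) (utMat 0 0 θ 0 0 0 *ᵥ v) = hyp σ u v := by
  simp [hyp, utMat, Matrix.mulVec, dotProduct, Fin.sum_univ_four, hθ]
  ring

theorem hyp_utT {a : F} (hσ : ∀ x, σ (σ x) = x) (u v : Fin 4 → F) :
    hyp σ (utMat a 0 0 0 (-σ a) 0 *ᵥ u) (utMat a 0 0 0 (-σ a) 0 *ᵥ v) = hyp σ u v := by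
  simp [hyp, utMat, Matrix.mulVec, dotProduct, Fin.sum_univ_four, hσ]
  ring

theorem hermForm_baseMat {p : ℕ} (hσp : ∀ x, σ x = x ^ p) {η : F} (hη : η * σ η = -1)
    (h2 : (2 : F) ≠ 0) (u v : Fin 4 → F) :
    Cfsg.hermForm 4 F p (baseMat η *ᵥ u) (baseMat η *ᵥ v) = hyp σ u v := by
  have h2' : σ (2 : F) = 2 := map_ofNat σ 2
  simp only [Cfsg.hermForm, ← hσp, Fin.sum_univ_four]
  simp [hyp, baseMat, Matrix.mulVec, dotProduct, Fin.sum_univ_four, h2']
  linear_combination (norm := skip) (u 0 * σ (v 0) - u 0 * σ (v 3) * 2⁻¹ - u 3 * σ (v 0) * 2⁻¹ +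
    u 3 * σ (v 3) * 2⁻¹ * 2⁻¹ + u 1 * σ (v 1) - u 1 * σ (v 2) * 2⁻¹ - u 2 * σ (v 1) * 2⁻¹ +
    u 2 * σ (v 2) * 2⁻¹ * 2⁻¹) * hη
  field_simp
  ring

theorem det_baseMat {η : F} (hη : η ≠ 0) (h2 : (2 : F) ≠ 0) : IsUnit (baseMat η).det := by
  rw [isUnit_iff_ne_zero]
  intro h
  obtain ⟨v, hv, hv0⟩ := Matrix.exists_mulVec_eq_zero_iff.mpr h
  refine hv (funext fun i => ?_)
  have e0 := congrFun hv0 0
  have e1 := congrFun hv0 1
  have e2 := congrFun hv0 2
  have e3 := congrFun hv0 3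
  simp [baseMat, Matrix.mulVec, dotProduct, Fin.sum_univ_four] at e0 e1 e2 e3
  have a1 : v 0 - 2⁻¹ * v 3 = 0 := mul_left_cancel₀ hη (by rw [mul_zero]; linear_combination e1)
  have a3 : v 1 - 2⁻¹ * v 2 = 0 := mul_left_cancel₀ hη (by rw [mul_zero]; linear_combination e3)
  have b0 : v 0 = 0 := mul_left_cancel₀ h2 (by rw [mul_zero]; linear_combination e0 + a1)
  have b1 : v 1 = 0 := mul_left_cancel₀ h2 (by rw [mul_zero]; linear_combination e2 + a3)
  have b3 : v 3 = 0 := mul_left_cancel₀ (inv_ne_zero h2) (by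
    rw [mul_zero]; linear_combination e0 - b0)
  have b2 : v 2 = 0 := mul_left_cancel₀ (inv_ne_zero h2) (by
    rw [mul_zero]; linear_combination e2 - b1)
  fin_cases i <;> assumption

theorem slToMat_apply {n : ℕ} (g : Matrix.SpecialLinearGroup (Fin n) F) :
    Cfsg.slToMat n F g = g.1 := rfl

/-- Conjugating an isometry of the hyperbolic form gives a member of `SU`. -/
theorem conj_mem_SU {p : ℕ} (hσp : ∀ x, σ x = x ^ p) {η : F} (hη : η * σ η = -1)
    (h2 : (2 : F) ≠ 0) (hC : IsUnit (baseMat η).det)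
    (conj : Matrix.SpecialLinearGroup (Fin 4) F →* Matrix.SpecialLinearGroup (Fin 4) F)
    (hconj : ∀ g, (conj g).1 = baseMat η * g.1 * (baseMat η)⁻¹)
    {g : Matrix.SpecialLinearGroup (Fin 4) F}
    (hg : ∀ u v, hyp σ (g.1 *ᵥ u) (g.1 *ᵥ v) = hyp σ u v) : conj g ∈ Cfsg.SU 4 F p := by
  intro u v
  rw [slToMat_apply, hconj, ← mulVec_mulVec, ← mulVec_mulVec, ← mulVec_mulVec, ← mulVec_mulVec,
    hermForm_baseMat σ hσp hη h2, hg, ← hermForm_baseMat σ hσp hη h2, mulVec_mulVec, mulVec_mulVec,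
    Matrix.mul_nonsing_inv _ hC, one_mulVec, one_mulVec]

theorem stmtSU : StmtSU.{u} := by
  intro G _ p _ hp d hd hG
  classical
  have hpp : p.Prime := Fact.out
  let K := GaloisField p 2
  haveI : Fintype K := Fintype.ofFinite K
  have hK : Nat.card K = p ^ 2 := GaloisField.card p 2 two_ne_zero
  have h2 : (2 : K) ≠ 0 := two_ne_zero_of_odd hp K
  let σ : K →+* K := frobenius K p
  have hσp : ∀ x, σ x = x ^ p := fun x => frobenius_def p x
  have hσσ : ∀ x, σ (σ x) = x := fun x => by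
    rw [hσp, hσp, ← pow_mul, ← sq, ← hK, Nat.card_eq_fintype_card, FiniteField.pow_card]
  obtain ⟨η, hη⟩ := CfsgLib.Classical.exists_pow_succ_eq hK (c := (-1 : K))
    (by rw [← hσp, map_neg, map_one])
  have hη' : η * σ η = -1 := by rw [hσp, ← pow_succ', hη]
  have hη0 : η ≠ 0 := fun h => by simp [h] at hη'
  -- a square root of `-d`
  have hd0 : -d ≠ 0 := fun h => hd (h ▸ IsSquare.zero)
  set φ : ZMod p →+* K := ZMod.castHom (dvd_refl p) K
  have hsq : IsSquare (φ (-d)) := by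
    have hne : φ (-d) ≠ 0 := (map_ne_zero φ).mpr hd0
    have hp2 : ringChar K ≠ 2 := by rw [ringChar.eq K p]; rintro rfl; norm_num at hp
    rw [FiniteField.isSquare_iff hp2 hne]
    obtain ⟨m, hm⟩ := hp
    have hcard : Fintype.card K = p ^ 2 := by rw [← Nat.card_eq_fintype_card, hK]
    have : Fintype.card K / 2 = (p - 1) * (m + 1) := by
      rw [hcard, hm, show 2 * m + 1 - 1 = 2 * m by omega]
      have : (2 * m + 1) ^ 2 = 2 * (2 * m * (m + 1)) + 1 := by ring
      omega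
    rw [this, pow_mul, ← map_pow, ZMod.pow_card_sub_one_eq_one hd0, map_one, one_pow]
  obtain ⟨δ, hδ⟩ := hsq
  have hδ0 : δ ≠ 0 := fun h => (map_ne_zero φ).mpr hd0 (by rw [hδ, h, mul_zero])
  have hσφ : ∀ i : ZMod p, σ (φ i) = φ i := fun i => by rw [hσp, ← map_pow, ZMod.pow_card]
  have hσδ : σ δ = -δ := by
    have h : σ δ * σ δ = δ * δ := by rw [← map_mul, ← hδ, hσφ]
    rcases mul_self_eq_mul_self_iff.mp h with h1 | h1
    · exfalso
      have h3 : δ ^ (p - 1) = 1 := by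
        refine mul_right_cancel₀ hδ0 ?_
        rw [one_mul, ← pow_succ, Nat.sub_add_cancel hpp.one_le, ← hσp, h1]
      refine hd ?_
      obtain ⟨m, hm⟩ := hp
      have h4 : φ ((-d) ^ (p / 2)) = φ 1 := by
        rw [map_pow, map_one, hδ, ← pow_two, ← pow_mul, ← h3]
        congr 1
        omega
      exact (ZMod.euler_criterion p hd0).mpr (RingHom.injective φ h4)
    · exact h1
  have hmodel := nfTwo_ut (p := p) (F := K) h2 (θ := δ) (a₁ := 1) (f₁ := -σ 1) (a₂ := δ)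
    (f₂ := -σ δ) d hδ0 (by simp) (by rw [hσδ, map_one]; ring) (by rw [hσδ, neg_neg]; exact hδ0)
    (by rw [hσδ, map_one, neg_neg, ← hδ, map_neg]; ring)
  obtain ⟨e⟩ := nfTwo_iso hG hmodel
  set H := Subgroup.closure ({utX δ, utT 1 (-σ 1), utT δ (-σ δ)} :
    Set (Matrix.SpecialLinearGroup (Fin 4) K)) with hH
  have hC := det_baseMat hη0 h2
  let conj : Matrix.SpecialLinearGroup (Fin 4) K →* Matrix.SpecialLinearGroup (Fin 4) K :=
    MonoidHom.mk' (fun g => ⟨baseMat η * g.1 * (baseMat η)⁻¹, by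
      rw [det_mul, det_mul, g.2, mul_one, ← det_mul, Matrix.mul_nonsing_inv _ hC, det_one]⟩)
      (fun a b => Subtype.ext (by
        show baseMat η * (a.1 * b.1) * (baseMat η)⁻¹ =
          baseMat η * a.1 * (baseMat η)⁻¹ * (baseMat η * b.1 * (baseMat η)⁻¹)
        simp only [← mul_assoc]
        rw [Matrix.nonsing_inv_mul_cancel_right _ _ hC]))
  have hinj : Function.Injective conj := fun a b h => Subtype.ext (by
    have h1 : baseMat η * a.1 * (baseMat η)⁻¹ = baseMat η * b.1 * (baseMat η)⁻¹ :=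
      congrArg Subtype.val h
    have h2 := congrArg (fun M => (baseMat η)⁻¹ * M * baseMat η) h1
    simpa [← mul_assoc, Matrix.nonsing_inv_mul _ hC, Matrix.nonsing_inv_mul_cancel_right _ _ hC]
      using h2)
  have hle : H.map conj ≤ Cfsg.SU 4 K p := by
    rw [hH, MonoidHom.map_closure, Subgroup.closure_le]
    rintro _ ⟨g, hg, rfl⟩
    refine conj_mem_SU σ hσp hη' h2 hC conj (fun _ => rfl) ?_
    rcases hg with rfl | rfl | rfl
    · exact hyp_utX σ hσδ
    · exact hyp_utT σ hσσ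
    · exact hyp_utT σ hσσ
  let iso : H ≃* ↥((H.map conj).subgroupOf (Cfsg.SU 4 K p)) :=
    (H.equivMapOfInjective conj hinj).trans (Subgroup.subgroupOfEquivOfLe hle).symm
  have hcard : Nat.card H = p ^ 6 := by
    obtain ⟨_, _, _, _, _, _, _, h, _⟩ := hmodel
    exact h
  have hfac : (Nat.card ↥(Cfsg.SU 4 K p)).factorization p = 6 := by
    rw [CfsgLib.MultSU.card_SU_four hK]
    refine factorization_pow_mul hpp 6 fun h => ?_
    rw [← ZMod.natCast_eq_zero_iff] at h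
    push_cast [Nat.cast_sub hpp.one_le, Nat.cast_sub (Nat.le_mul_self p)] at h
    simp [ZMod.natCast_self] at h
  exact ⟨K, inferInstance, inferInstance, by rw [← Nat.card_eq_fintype_card, hK],
    Sylow.ofCard _ (by rw [hfac]; exact (Nat.card_congr iso.toEquiv).symm.trans hcard), ⟨e.trans iso⟩⟩

end CfsgLib.ExtraIndexP
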