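import Cfsg.Agent.Lib.ExtraIndexP.NFUnique
import Mathlib

/-!
# A unitriangular model of the first normal form

With `X = utE θ`, `T (a, f) = 1 + a E₁₂ + f E₃₄` (indices from one) the subgroup generated by
`X, T₁, T₂` of `SL₄(F)` has the normal form `NFTwo` when `a₁ f₂ + a₂ f₁ = 0` and `a₂ f₂ = d a₁ f₁`.
-/

set_option autoImplicit false

open Subgroup Matrix
open scoped commutatorElement

namespace CfsgLib.ExtraIndexP

universe u

variable {F : Type u} [Field F]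

/-- The general unitriangular matrix. -/
def utMat (a b c e f g : F) : Matrix (Fin 4) (Fin 4) F :=
  !![1, a, b, g; 0, 1, c, e; 0, 0, 1, f; 0, 0, 0, 1]

theorem utMat_mul (a b c e f g a' b' c' e' f' g' : F) :
    utMat a b c e f g * utMat a' b' c' e' f' g' =
      utMat (a + a') (b + b' + a * c') (c + c') (e + e' + c * f') (f + f')
        (g + g' + a * e' + b * f') := by
  ext i j
  fin_cases i <;> fin_cases j <;>
    simp [utMat, Matrix.mul_apply, Fin.sum_univ_four] <;> ring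

theorem det_utMat (a b c e f g : F) : (utMat a b c e f g).det = 1 := by
  rw [Matrix.det_of_upperTriangular (by
    intro i j h
    fin_cases i <;> fin_cases j <;> simp [utMat] at h ⊢), Fin.prod_univ_four]
  simp [utMat]

/-- The general unitriangular matrix in `SL₄`. -/
def ut (a b c e f g : F) : Matrix.SpecialLinearGroup (Fin 4) F :=
  ⟨utMat a b c e f g, det_utMat a b c e f g⟩

theorem ut_mul (a b c e f g a' b' c' e' f' g' : F) :
    ut a b c e f g * ut a' b' c' e' f' g' =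
      ut (a + a') (b + b' + a * c') (c + c') (e + e' + c * f') (f + f')
        (g + g' + a * e' + b * f') :=
  Subtype.ext (utMat_mul a b c e f g a' b' c' e' f' g')

theorem ut_zero : ut (0 : F) 0 0 0 0 0 = 1 := by
  refine Subtype.ext ?_
  ext i j
  fin_cases i <;> fin_cases j <;> simp [ut, utMat]

theorem ut_injective {a b c e f g a' b' c' e' f' g' : F}
    (h : ut a b c e f g = ut a' b' c' e' f' g') :
    a = a' ∧ b = b' ∧ c = c' ∧ e = e' ∧ f = f' ∧ g = g' := by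
  have h1 : ∀ i j, utMat a b c e f g i j = utMat a' b' c' e' f' g' i j := fun i j =>
    congrFun (congrFun (congrArg Subtype.val h) i) j
  exact ⟨by simpa [utMat] using h1 0 1, by simpa [utMat] using h1 0 2,
    by simpa [utMat] using h1 1 2, by simpa [utMat] using h1 1 3,
    by simpa [utMat] using h1 2 3, by simpa [utMat] using h1 0 3⟩

/-- The outer generator. -/
def utX (θ : F) : Matrix.SpecialLinearGroup (Fin 4) F := ut 0 0 θ 0 0 0

/-- The generators of the abelian complement. -/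
def utT (a f : F) : Matrix.SpecialLinearGroup (Fin 4) F := ut a 0 0 0 f 0

/-- Their commutators with `utX`. -/
def utC (θ a f : F) : Matrix.SpecialLinearGroup (Fin 4) F := ut 0 (-(a * θ)) 0 (θ * f) 0 (θ * a * f)

/-- The central elements. -/
def utZ (g : F) : Matrix.SpecialLinearGroup (Fin 4) F := ut 0 0 0 0 0 g

theorem utX_pow (θ : F) (n : ℕ) : utX θ ^ n = ut 0 0 ((n : F) * θ) 0 0 0 := by
  induction n with
  | zero => rw [pow_zero, Nat.cast_zero, zero_mul, ut_zero]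
  | succ n ih =>
    rw [pow_succ, ih, utX, ut_mul]
    congr 1 <;> push_cast <;> ring

theorem utT_pow (a f : F) (n : ℕ) : utT a f ^ n = ut ((n : F) * a) 0 0 0 ((n : F) * f) 0 := by
  induction n with
  | zero => rw [pow_zero, Nat.cast_zero, zero_mul, zero_mul, ut_zero]
  | succ n ih =>
    rw [pow_succ, ih, utT, ut_mul]
    congr 1 <;> push_cast <;> ring

theorem utC_pow (θ a f : F) (n : ℕ) :
    utC θ a f ^ n = ut 0 (-((n : F) * (a * θ))) 0 ((n : F) * (θ * f)) 0 ((n : F) * (θ * a * f)) := by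
  induction n with
  | zero => rw [pow_zero, Nat.cast_zero, zero_mul, zero_mul, zero_mul, neg_zero, ut_zero]
  | succ n ih =>
    rw [pow_succ, ih, utC, ut_mul]
    congr 1 <;> push_cast <;> ring

theorem utZ_pow (g : F) (n : ℕ) : utZ g ^ n = utZ ((n : F) * g) := by
  induction n with
  | zero => rw [pow_zero, Nat.cast_zero, zero_mul, utZ, ut_zero]
  | succ n ih =>
    rw [pow_succ, ih, utZ, utZ, utZ, ut_mul]
    congr 1 <;> push_cast <;> ring

theorem comm_of_eq {G : Type*} [Group G] {a b c : G} (h : a * b = c * (b * a)) : ⁅a, b⁆ = c := by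
  rw [commutatorElement_def, h]; group

theorem comm_one_of_eq {G : Type*} [Group G] {a b : G} (h : a * b = b * a) : ⁅a, b⁆ = 1 :=
  commutatorElement_eq_one_iff_mul_comm.mpr h

/-- Distinct exponents of the six generators give distinct elements. -/
theorem utProd_injective {p : ℕ} [Fact p.Prime] [CharP F p] (h2 : (2 : F) ≠ 0) {θ a₁ f₁ a₂ f₂ : F}
    (hθ : θ ≠ 0) (h1 : a₁ * f₁ ≠ 0) (h12 : a₁ * f₂ + a₂ * f₁ = 0) (hf₂ : f₂ ≠ 0) :
    Function.Injective (fun v : ZMod p × ZMod p × ZMod p × ZMod p × ZMod p × ZMod p =>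
      utX θ ^ v.1.val * utT a₁ f₁ ^ v.2.1.val * utT a₂ f₂ ^ v.2.2.1.val *
        utC θ a₁ f₁ ^ v.2.2.2.1.val * utC θ a₂ f₂ ^ v.2.2.2.2.1.val *
        utZ (-2 * θ * a₁ * f₁) ^ v.2.2.2.2.2.val) := by
  have ha₁ : a₁ ≠ 0 := left_ne_zero_of_mul h1
  have hdet : a₁ * f₂ - a₂ * f₁ ≠ 0 := by
    rw [show a₁ * f₂ - a₂ * f₁ = 2 * (a₁ * f₂) by linear_combination -h12]
    exact mul_ne_zero h2 (mul_ne_zero ha₁ hf₂)
  have solve : ∀ j k j' k' : F, j * a₁ + k * a₂ = j' * a₁ + k' * a₂ →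
      j * f₁ + k * f₂ = j' * f₁ + k' * f₂ → j = j' ∧ k = k' := by
    intro j k j' k' e1 e2
    constructor
    · exact mul_right_cancel₀ hdet (by linear_combination f₂ * e1 - a₂ * e2)
    · exact mul_right_cancel₀ hdet (by linear_combination a₁ * e2 - f₁ * e1)
  have hinj : Function.Injective (ZMod.castHom (dvd_refl p) F) := RingHom.injective _
  have hval : ∀ i : ZMod p, ((i.val : ℕ) : F) = ZMod.castHom (dvd_refl p) F i := fun i => by
    rw [ZMod.natCast_val]; rfl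
  rintro ⟨i, j, k, l, m, n⟩ ⟨i', j', k', l', m', n'⟩ h
  simp only [utX_pow, utT_pow, utC_pow, utZ_pow, hval] at h
  simp only [utZ, ut_mul] at h
  obtain ⟨ea, eb, ec, ee, ef, eg⟩ := ut_injective h
  simp only [zero_add, add_zero, mul_zero, zero_mul] at ea eb ec ee ef eg
  obtain rfl : i = i' := hinj (mul_right_cancel₀ hθ ec)
  obtain ⟨hj, hk⟩ := solve _ _ _ _ ea ef
  obtain rfl := hinj hj
  obtain rfl := hinj hk
  obtain ⟨hl, hm⟩ := solve (ZMod.castHom (dvd_refl p) F l) (ZMod.castHom (dvd_refl p) F m)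
    (ZMod.castHom (dvd_refl p) F l') (ZMod.castHom (dvd_refl p) F m')
    (mul_left_cancel₀ hθ (by linear_combination -eb))
    (mul_left_cancel₀ hθ (by linear_combination ee))
  obtain rfl := hinj hl
  obtain rfl := hinj hm
  have hn : ZMod.castHom (dvd_refl p) F n = ZMod.castHom (dvd_refl p) F n' := by
    refine mul_right_cancel₀ (mul_ne_zero (mul_ne_zero (neg_ne_zero.mpr h2) hθ) h1) ?_
    linear_combination eg
  obtain rfl := hinj hn
  rfl

variable [Finite F]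

/-- The model has the normal form and order `p ^ 6`. -/
theorem nfTwo_ut {p : ℕ} [Fact p.Prime] [CharP F p] (h2 : (2 : F) ≠ 0) {θ a₁ f₁ a₂ f₂ : F}
    (d : ZMod p) (hθ : θ ≠ 0) (h1 : a₁ * f₁ ≠ 0) (h12 : a₁ * f₂ + a₂ * f₁ = 0) (hf₂ : f₂ ≠ 0)
    (h22 : a₂ * f₂ = ZMod.castHom (dvd_refl p) F d * (a₁ * f₁)) :
    NFTwo p ↥(closure ({utX θ, utT a₁ f₁, utT a₂ f₂} : Set (Matrix.SpecialLinearGroup (Fin 4) F)))
      d := by
  classical
  haveI := Fintype.ofFinite F
  set s : Set (Matrix.SpecialLinearGroup (Fin 4) F) := {utX θ, utT a₁ f₁, utT a₂ f₂} with hs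
  have hx : utX θ ∈ closure s := subset_closure (by simp [hs])
  have ht₁ : utT a₁ f₁ ∈ closure s := subset_closure (by simp [hs])
  have ht₂ : utT a₂ f₂ ∈ closure s := subset_closure (by simp [hs])
  have e1 : ⁅utX θ, utT a₁ f₁⁆ = utC θ a₁ f₁ := comm_of_eq (by
    simp only [utX, utT, utC, ut_mul]; congr 1 <;> ring)
  have e2 : ⁅utX θ, utT a₂ f₂⁆ = utC θ a₂ f₂ := comm_of_eq (by
    simp only [utX, utT, utC, ut_mul]; congr 1 <;> ring)
  have e3 : ⁅utX θ, utC θ a₁ f₁⁆ = 1 := comm_one_of_eq (by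
    simp only [utX, utC, ut_mul]; congr 1 <;> ring)
  have e4 : ⁅utX θ, utC θ a₂ f₂⁆ = 1 := comm_one_of_eq (by
    simp only [utX, utC, ut_mul]; congr 1 <;> ring)
  have e5 : ⁅utC θ a₁ f₁, utC θ a₂ f₂⁆ = 1 := comm_one_of_eq (by
    simp only [utC, ut_mul]; congr 1 <;> ring)
  have e6 : ⁅utT a₁ f₁, utT a₂ f₂⁆ = 1 := comm_one_of_eq (by
    simp only [utT, ut_mul]; congr 1 <;> ring)
  have e7 : ⁅utC θ a₁ f₁, utT a₂ f₂⁆ = 1 := comm_one_of_eq (by
    simp only [utT, utC, ut_mul]; congr 1 <;>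
      first | ring1 | linear_combination -θ * h12)
  have e8 : ⁅utC θ a₂ f₂, utT a₁ f₁⁆ = 1 := comm_one_of_eq (by
    simp only [utT, utC, ut_mul]; congr 1 <;>
      first | ring1 | linear_combination -θ * h12)
  have e9 : ⁅utC θ a₁ f₁, utT a₁ f₁⁆ = utZ (-2 * θ * a₁ * f₁) := comm_of_eq (by
    simp only [utT, utC, utZ, ut_mul]; congr 1 <;> ring)
  have e10 : ⁅utC θ a₂ f₂, utT a₂ f₂⁆ = utZ (-2 * θ * a₁ * f₁) ^ d.val := comm_of_eq (by
    rw [utZ_pow, ZMod.natCast_val, show (ZMod.cast d : F) = ZMod.castHom (dvd_refl p) F d from rfl]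
    simp only [utT, utC, utZ, ut_mul]; congr 1 <;>
      first | ring1 | linear_combination (-2) * θ * h22)
  have comm_mem : ∀ {a b : Matrix.SpecialLinearGroup (Fin 4) F}, a ∈ closure s → b ∈ closure s →
      ⁅a, b⁆ ∈ closure s := fun ha hb => by
    rw [commutatorElement_def]
    exact mul_mem (mul_mem (mul_mem ha hb) (inv_mem ha)) (inv_mem hb)
  have hc₁ : utC θ a₁ f₁ ∈ closure s := e1 ▸ comm_mem hx ht₁
  have hc₂ : utC θ a₂ f₂ ∈ closure s := e2 ▸ comm_mem hx ht₂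
  have hz : utZ (-2 * θ * a₁ * f₁) ∈ closure s := e9 ▸ comm_mem hc₁ ht₁
  have zc : ∀ g : F, ∀ y ∈ closure s, y * utZ g = utZ g * y := fun g y hy => by
    refine (closure_le (Subgroup.centralizer {utZ g})).mpr ?_ hy |>
      Subgroup.mem_centralizer_singleton_iff.mp
    rintro w (rfl | rfl | rfl) <;>
      refine Subgroup.mem_centralizer_singleton_iff.mpr ?_ <;>
      simp only [utX, utT, utZ, ut_mul] <;> congr 1 <;> ring
  have hpow : ∀ g : Matrix.SpecialLinearGroup (Fin 4) F, (g = utX θ ∨ (∃ a f, g = utT a f) ∨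
      (∃ a f, g = utC θ a f) ∨ ∃ c, g = utZ c) → g ^ p = 1 := by
    rintro g (rfl | ⟨a, f, rfl⟩ | ⟨a, f, rfl⟩ | ⟨c, rfl⟩)
    · simp [utX_pow, CharP.cast_eq_zero, ut_zero]
    · simp [utT_pow, CharP.cast_eq_zero, ut_zero]
    · simp [utC_pow, CharP.cast_eq_zero, ut_zero]
    · rw [utZ_pow, CharP.cast_eq_zero, zero_mul, utZ, ut_zero]
  let X : ↥(closure s) := ⟨_, hx⟩
  let T₁ : ↥(closure s) := ⟨_, ht₁⟩
  let T₂ : ↥(closure s) := ⟨_, ht₂⟩
  let C₁ : ↥(closure s) := ⟨_, hc₁⟩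
  let C₂ : ↥(closure s) := ⟨_, hc₂⟩
  let Z : ↥(closure s) := ⟨_, hz⟩
  have hle : Nat.card ↥(closure s) ≤ p ^ 6 := by
    refine le_trans (Nat.card_le_card_of_injective
      (Subgroup.inclusion (closure_mono (k := {utX θ, utT a₂ f₂, utT a₁ f₁, utC θ a₂ f₂,
        utC θ a₁ f₁, utZ (-2 * θ * a₁ * f₁)}) (by
          rintro w (rfl | rfl | rfl) <;> simp))) (Subgroup.inclusion_injective _)) ?_
    have one : ∀ {t : Set (Matrix.SpecialLinearGroup (Fin 4) F)} {w}, w = 1 → w ∈ closure t :=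
      fun h => h ▸ one_mem _
    have hzc : ∀ y ∈ closure s, ⁅y, utZ (-2 * θ * a₁ * f₁)⁆ = 1 := fun y hy =>
      comm_one_of_eq (zc _ y hy)
    refine card_six_le (Fact.out : p.Prime).pos (utZ (-2 * θ * a₁ * f₁)) (utC θ a₁ f₁)
      (utC θ a₂ f₂) (utT a₁ f₁) (utT a₂ f₂) (utX θ)
      (hpow _ (Or.inr (Or.inr (Or.inr ⟨_, rfl⟩)))) (hpow _ (Or.inr (Or.inr (Or.inl ⟨_, _, rfl⟩))))
      (hpow _ (Or.inr (Or.inr (Or.inl ⟨_, _, rfl⟩)))) (hpow _ (Or.inr (Or.inl ⟨_, _, rfl⟩)))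
      (hpow _ (Or.inr (Or.inl ⟨_, _, rfl⟩))) (hpow _ (Or.inl rfl))
      (one (hzc _ hc₁)) (one (hzc _ hc₂)) ?_ (one (hzc _ ht₁)) ?_ ?_ (one (hzc _ ht₂)) ?_ ?_ ?_
      (one (hzc _ hx)) ?_ ?_ ?_ ?_
    · exact one ((inv_of_comm e5).trans inv_one)
    · rw [inv_of_comm e9]; exact inv_mem (subset_closure (by simp))
    · exact one ((inv_of_comm e8).trans inv_one)
    · exact one ((inv_of_comm e7).trans inv_one)
    · rw [inv_of_comm e10]; exact inv_mem (pow_mem (subset_closure (by simp)) _)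
    · exact one ((inv_of_comm e6).trans inv_one)
    · exact one e3
    · exact one e4
    · rw [e1]; exact subset_closure (by simp)
    · rw [e2]; exact subset_closure (by simp)
  have hge : p ^ 6 ≤ Nat.card ↥(closure s) := by
    have hinj := utProd_injective (p := p) h2 hθ h1 h12 hf₂
    refine le_trans (le_of_eq ?_) (Nat.card_le_card_of_injective
      (fun v : ZMod p × ZMod p × ZMod p × ZMod p × ZMod p × ZMod p =>
        (X ^ v.1.val * T₁ ^ v.2.1.val * T₂ ^ v.2.2.1.val * C₁ ^ v.2.2.2.1.val *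
          C₂ ^ v.2.2.2.2.1.val * Z ^ v.2.2.2.2.2.val : ↥(closure s)))
      fun v w h => hinj (by simpa [X, T₁, T₂, C₁, C₂, Z] using congrArg Subtype.val h))
    simp only [Nat.card_prod, Nat.card_zmod]
    ring
  have hP : ∀ w : ↥(closure s), ((w : Matrix.SpecialLinearGroup (Fin 4) F)) ^ p = 1 → w ^ p = 1 :=
    fun w h => Subtype.ext (by simpa using h)
  refine ⟨X, T₁, T₂, C₁, C₂, Z, ?_, le_antisymm hle hge, hP _ (hpow _ (Or.inl rfl)),
    hP _ (hpow _ (Or.inr (Or.inl ⟨_, _, rfl⟩))), hP _ (hpow _ (Or.inr (Or.inl ⟨_, _, rfl⟩))),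
    hP _ (hpow _ (Or.inr (Or.inr (Or.inl ⟨_, _, rfl⟩)))),
    hP _ (hpow _ (Or.inr (Or.inr (Or.inl ⟨_, _, rfl⟩)))),
    hP _ (hpow _ (Or.inr (Or.inr (Or.inr ⟨_, rfl⟩)))),
    Subgroup.mem_center_iff.mpr fun w => Subtype.ext (zc _ _ w.2),
    Subtype.ext e1, Subtype.ext e2, Subtype.ext e3, Subtype.ext e4, Subtype.ext e5, Subtype.ext e6,
    Subtype.ext e7, Subtype.ext e8, Subtype.ext e9, Subtype.ext e10⟩
  rw [eq_top_iff, ← Subgroup.closure_closure_coe_preimage (k := s)]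
  refine closure_mono ?_
  rintro ⟨w, hw⟩ (rfl | rfl | rfl)
  · exact Set.mem_insert _ _
  · exact Set.mem_insert_of_mem _ (Set.mem_insert _ _)
  · exact Set.mem_insert_of_mem _ (Set.mem_insert_of_mem _ rfl)

end CfsgLib.ExtraIndexP
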