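import Cfsg.Agent.Lib.ExtraIndexP.Defs

/-!
# The normal forms determine the group

The subgroup of a product generated by the pairs of generators has order at most `p ^ 6`, hence is
the graph of an isomorphism.
-/

set_option autoImplicit false

open Subgroup
open scoped commutatorElement

namespace CfsgLib.ExtraIndexP

variable {G : Type*} [Group G]

theorem mem_normalizer_of_gens [Finite G] {s : Set G} {g : G}
    (h : ∀ a ∈ s, g * a * g⁻¹ ∈ closure s) : g ∈ normalizer (closure s : Set G) := by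
  rw [mem_normalizer_iff_map_conj_eq]
  refine Subgroup.eq_of_le_of_card_ge ?_ ?_
  · rw [MonoidHom.map_closure, closure_le]
    rintro _ ⟨a, ha, rfl⟩
    exact h a ha
  · exact (Nat.card_congr ((closure s).equivMapOfInjective _ (MulAut.conj g).injective).toEquiv).le

/-- Adjoining an element of order dividing `p` that normalises multiplies the order by at most `p`. -/
theorem card_sup_le [Finite G] {p : ℕ} (hp : 0 < p) {H : Subgroup G} {g : G}
    (hn : g ∈ normalizer (H : Set G)) (hg : g ^ p = 1) :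
    Nat.card (H ⊔ zpowers g : Subgroup G) ≤ Nat.card H * p := by
  have hle : zpowers g ≤ normalizer (H : Set G) := zpowers_le.mpr hn
  let f : ↥H × ↥(zpowers g) → ↥(H ⊔ zpowers g : Subgroup G) := fun x =>
    ⟨x.1 * x.2, mul_mem (mem_sup_left x.1.2) (mem_sup_right x.2.2)⟩
  have hf : Function.Surjective f := by
    rintro ⟨x, hx⟩
    have hx' : x ∈ ((H ⊔ zpowers g : Subgroup G) : Set G) := hx
    rw [Subgroup.coe_mul_of_right_le_normalizer_left H (zpowers g) hle] at hx'
    obtain ⟨a, ha, b, hb, rfl⟩ := hx'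
    exact ⟨⟨⟨a, ha⟩, ⟨b, hb⟩⟩, rfl⟩
  refine (Nat.card_le_card_of_surjective f hf).trans ?_
  rw [Nat.card_prod, Nat.card_zpowers]
  exact Nat.mul_le_mul_left _ (Nat.le_of_dvd hp (orderOf_dvd_of_pow_eq_one hg))

theorem closure_insert' (g : G) (s : Set G) : closure (insert g s) = closure s ⊔ zpowers g := by
  rw [Set.insert_eq, Subgroup.closure_union, sup_comm, zpowers_eq_closure]

/-- Conjugation expressed by a commutator. -/
theorem conj_eq_comm (g a : G) : g * a * g⁻¹ = ⁅g, a⁆ * a := by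
  rw [commutatorElement_def]; group

/-- Six elements normalising in turn generate at most `p ^ 6` elements. -/
theorem card_six_le [Finite G] {p : ℕ} (hp : 0 < p) (a b c d e f : G)
    (ha : a ^ p = 1) (hb : b ^ p = 1) (hc : c ^ p = 1) (hd : d ^ p = 1) (he : e ^ p = 1)
    (hf : f ^ p = 1) (hba : ⁅b, a⁆ ∈ closure {a})
    (hca : ⁅c, a⁆ ∈ closure {b, a}) (hcb : ⁅c, b⁆ ∈ closure {b, a})
    (hda : ⁅d, a⁆ ∈ closure {c, b, a}) (hdb : ⁅d, b⁆ ∈ closure {c, b, a})
    (hdc : ⁅d, c⁆ ∈ closure {c, b, a})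
    (hea : ⁅e, a⁆ ∈ closure {d, c, b, a}) (heb : ⁅e, b⁆ ∈ closure {d, c, b, a})
    (hec : ⁅e, c⁆ ∈ closure {d, c, b, a}) (hed : ⁅e, d⁆ ∈ closure {d, c, b, a})
    (hfa : ⁅f, a⁆ ∈ closure {e, d, c, b, a}) (hfb : ⁅f, b⁆ ∈ closure {e, d, c, b, a})
    (hfc : ⁅f, c⁆ ∈ closure {e, d, c, b, a}) (hfd : ⁅f, d⁆ ∈ closure {e, d, c, b, a})
    (hfe : ⁅f, e⁆ ∈ closure {e, d, c, b, a}) :
    Nat.card (closure {f, e, d, c, b, a}) ≤ p ^ 6 := by
  have step : ∀ (g : G) (s : Set G) (k : ℕ), g ^ p = 1 → (∀ x ∈ s, ⁅g, x⁆ ∈ closure s) →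
      Nat.card (closure s) ≤ p ^ k → Nat.card (closure (insert g s)) ≤ p ^ (k + 1) := by
    intro g s k hg hcomm hk
    rw [closure_insert', pow_succ]
    refine (card_sup_le hp (mem_normalizer_of_gens fun x hx => ?_) hg).trans
      (Nat.mul_le_mul_right _ hk)
    rw [conj_eq_comm]
    exact mul_mem (hcomm x hx) (subset_closure hx)
  have h1 : Nat.card (closure ({a} : Set G)) ≤ p ^ 1 := by
    rw [← zpowers_eq_closure, Nat.card_zpowers, pow_one]
    exact Nat.le_of_dvd hp (orderOf_dvd_of_pow_eq_one ha)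
  have h2 := step b {a} 1 hb (by rintro x rfl; exact hba) h1
  have h3 := step c {b, a} 2 hc (by rintro x (rfl | rfl) <;> assumption) h2
  have h4 := step d {c, b, a} 3 hd (by rintro x (rfl | rfl | rfl) <;> assumption) h3
  have h5 := step e {d, c, b, a} 4 he (by rintro x (rfl | rfl | rfl | rfl) <;> assumption) h4
  exact step f {e, d, c, b, a} 5 hf (by rintro x (rfl | rfl | rfl | rfl | rfl) <;> assumption) h5

theorem bijective_of_gens {K L : Type*} [Group K] [Group L] [Finite L] {N : ℕ}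
    (hL : Nat.card L = N) {s : Set K} [Finite (closure s)] (f : K →* L)
    (hf : closure (f '' s) = ⊤) (hle : Nat.card (closure s) ≤ N) :
    Function.Bijective (f.comp (closure s).subtype) := by
  have hsur : Function.Surjective (f.comp (closure s).subtype) := fun l => by
    have hl : l ∈ (closure s).map f := by rw [MonoidHom.map_closure, hf]; trivial
    obtain ⟨a, ha, rfl⟩ := hl
    exact ⟨⟨a, ha⟩, rfl⟩
  exact (Nat.bijective_iff_surjective_and_card _).mpr
    ⟨hsur, le_antisymm (hL ▸ hle) (Nat.card_le_card_of_surjective _ hsur)⟩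

/-- A small generated subgroup of a product with both projections onto gives an isomorphism. -/
theorem iso_of_pairs {H : Type*} [Group H] [Finite G] [Finite H] {N : ℕ} (hG : Nat.card G = N)
    (hH : Nat.card H = N) {s : Set (G × H)} (hs₁ : closure (Prod.fst '' s) = ⊤)
    (hs₂ : closure (Prod.snd '' s) = ⊤) (hle : Nat.card (closure s) ≤ N) : Nonempty (G ≃* H) :=
  ⟨(MulEquiv.ofBijective _ (bijective_of_gens hG (MonoidHom.fst G H) hs₁ hle)).symm.trans
    (MulEquiv.ofBijective _ (bijective_of_gens hH (MonoidHom.snd G H) hs₂ hle))⟩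

omit [Group G] in
theorem finite_of_card {p k : ℕ} (hp : p ≠ 0) (h : Nat.card G = p ^ k) : Finite G :=
  Nat.finite_of_card_ne_zero (by rw [h]; exact pow_ne_zero k hp)

theorem closure_eq_top_of_subset {s t : Set G} (h : closure s = ⊤) (hst : s ⊆ t) :
    closure t = ⊤ := top_le_iff.mp (h ▸ closure_mono hst)

theorem inv_of_comm {a b c : G} (h : ⁅a, b⁆ = c) : ⁅b, a⁆ = c⁻¹ := by
  rw [← h, commutatorElement_inv]

theorem comm_center {a z : G} (hz : z ∈ center G) : ⁅a, z⁆ = 1 :=
  commutatorElement_eq_one_iff_mul_comm.mpr (mem_center_iff.mp hz a)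

/-- Groups with the same normal form of the first kind are isomorphic. -/
theorem nfTwo_iso {p : ℕ} [hp : Fact p.Prime] {H : Type*} [Group H] {d : ZMod p}
    (h₁ : NFTwo p G d) (h₂ : NFTwo p H d) : Nonempty (G ≃* H) := by
  obtain ⟨x, t, u, c, e, z, hgen, hcard, hx, ht, hu, hc, he, hz, hzc, r1, r2, r3, r4, r5, r6, r7,
    r8, r9, r10⟩ := h₁
  obtain ⟨x', t', u', c', e', z', hgen', hcard', hx', ht', hu', hc', he', hz', hzc', s1, s2, s3,
    s4, s5, s6, s7, s8, s9, s10⟩ := h₂
  haveI := finite_of_card hp.out.ne_zero hcard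
  haveI := finite_of_card hp.out.ne_zero hcard'
  refine iso_of_pairs hcard hcard'
    (s := {(x, x'), (u, u'), (t, t'), (e, e'), (c, c'), (z, z')}) ?_ ?_ ?_
  · refine closure_eq_top_of_subset hgen ?_
    rintro a (rfl | rfl | rfl)
    exacts [⟨(a, x'), by simp, rfl⟩, ⟨(a, t'), by simp, rfl⟩, ⟨(a, u'), by simp, rfl⟩]
  · refine closure_eq_top_of_subset hgen' ?_
    rintro a (rfl | rfl | rfl)
    exacts [⟨(x, a), by simp, rfl⟩, ⟨(t, a), by simp, rfl⟩, ⟨(u, a), by simp, rfl⟩]
  have one : ∀ {s : Set (G × H)} {a : G × H}, a = 1 → a ∈ closure s := fun h => h ▸ one_mem _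
  have zc : ∀ (a : G × H), ⁅a, (z, z')⁆ = 1 := fun a =>
    Prod.ext (comm_center hzc) (comm_center hzc')
  refine card_six_le hp.out.pos (z, z') (c, c') (e, e') (t, t') (u, u') (x, x') (Prod.ext hz hz')
    (Prod.ext hc hc') (Prod.ext he he') (Prod.ext ht ht') (Prod.ext hu hu') (Prod.ext hx hx')
    (one (zc _)) (one (zc _)) ?_ (one (zc _)) ?_ ?_ (one (zc _)) ?_ ?_ ?_ (one (zc _)) ?_ ?_ ?_ ?_
  · exact one (Prod.ext ((inv_of_comm r5).trans inv_one) ((inv_of_comm s5).trans inv_one))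
  · rw [show ⁅(t, t'), (c, c')⁆ = (z, z')⁻¹ from Prod.ext (inv_of_comm r9) (inv_of_comm s9)]
    exact inv_mem (subset_closure (by simp))
  · exact one (Prod.ext ((inv_of_comm r8).trans inv_one) ((inv_of_comm s8).trans inv_one))
  · exact one (Prod.ext ((inv_of_comm r7).trans inv_one) ((inv_of_comm s7).trans inv_one))
  · rw [show ⁅(u, u'), (e, e')⁆ = ((z, z') ^ d.val)⁻¹ from
      Prod.ext (inv_of_comm r10) (inv_of_comm s10)]
    exact inv_mem (pow_mem (subset_closure (by simp)) _)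
  · exact one (Prod.ext ((inv_of_comm r6).trans inv_one) ((inv_of_comm s6).trans inv_one))
  · exact one (Prod.ext r3 s3)
  · exact one (Prod.ext r4 s4)
  · rw [show ⁅(x, x'), (t, t')⁆ = (c, c') from Prod.ext r1 s1]
    exact subset_closure (by simp)
  · rw [show ⁅(x, x'), (u, u')⁆ = (e, e') from Prod.ext r2 s2]
    exact subset_closure (by simp)

/-- Groups with the normal form of the second kind are isomorphic. -/
theorem nfFour_iso {p : ℕ} [hp : Fact p.Prime] {H : Type*} [Group H]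
    (h₁ : NFFour p G) (h₂ : NFFour p H) : Nonempty (G ≃* H) := by
  obtain ⟨x, t, a, b, c, z, hgen, hcard, hx, ht, ha, hb, hc, hz, hzc, r1, r2, r3, r4, r5, r6, r7,
    r8, r9, r10⟩ := h₁
  obtain ⟨x', t', a', b', c', z', hgen', hcard', hx', ht', ha', hb', hc', hz', hzc', s1, s2, s3,
    s4, s5, s6, s7, s8, s9, s10⟩ := h₂
  haveI := finite_of_card hp.out.ne_zero hcard
  haveI := finite_of_card hp.out.ne_zero hcard'
  refine iso_of_pairs hcard hcard'
    (s := {(x, x'), (t, t'), (a, a'), (b, b'), (c, c'), (z, z')}) ?_ ?_ ?_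
  · refine closure_eq_top_of_subset hgen ?_
    rintro q (rfl | rfl)
    exacts [⟨(q, x'), by simp, rfl⟩, ⟨(q, t'), by simp, rfl⟩]
  · refine closure_eq_top_of_subset hgen' ?_
    rintro q (rfl | rfl)
    exacts [⟨(x, q), by simp, rfl⟩, ⟨(t, q), by simp, rfl⟩]
  have one : ∀ {s : Set (G × H)} {q : G × H}, q = 1 → q ∈ closure s := fun h => h ▸ one_mem _
  have zc : ∀ (q : G × H), ⁅q, (z, z')⁆ = 1 := fun q =>
    Prod.ext (comm_center hzc) (comm_center hzc')
  refine card_six_le hp.out.pos (z, z') (c, c') (b, b') (a, a') (t, t') (x, x') (Prod.ext hz hz')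
    (Prod.ext hc hc') (Prod.ext hb hb') (Prod.ext ha ha') (Prod.ext ht ht') (Prod.ext hx hx')
    (one (zc _)) (one (zc _)) ?_ (one (zc _)) ?_ ?_ (one (zc _)) ?_ ?_ ?_ (one (zc _)) ?_ ?_ ?_ ?_
  · exact one (Prod.ext ((inv_of_comm r5).trans inv_one) ((inv_of_comm s5).trans inv_one))
  · exact one (Prod.ext ((inv_of_comm r6).trans inv_one) ((inv_of_comm s6).trans inv_one))
  · rw [show ⁅(a, a'), (b, b')⁆ = (z, z') from Prod.ext r9 s9]
    exact subset_closure (by simp)
  · rw [show ⁅(t, t'), (c, c')⁆ = (z, z')⁻¹ from Prod.ext (inv_of_comm r7) (inv_of_comm s7)]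
    exact inv_mem (subset_closure (by simp))
  · rw [show ⁅(t, t'), (b, b')⁆ = (z, z')⁻¹ from Prod.ext (inv_of_comm r8) (inv_of_comm s8)]
    exact inv_mem (subset_closure (by simp))
  · exact one (Prod.ext ((inv_of_comm r10).trans inv_one) ((inv_of_comm s10).trans inv_one))
  · exact one (Prod.ext r4 s4)
  · rw [show ⁅(x, x'), (b, b')⁆ = (c, c') from Prod.ext r3 s3]
    exact subset_closure (by simp)
  · rw [show ⁅(x, x'), (a, a')⁆ = (b, b') from Prod.ext r2 s2]
    exact subset_closure (by simp)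
  · rw [show ⁅(x, x'), (t, t')⁆ = (a, a') from Prod.ext r1 s1]
    exact subset_closure (by simp)

end CfsgLib.ExtraIndexP
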