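import Cfsg.Agent.Lib.ExtraIndexP.CaseOneBasic

/-!
# Normal forms of the split groups
-/

set_option autoImplicit false
set_option linter.style.haveILetI false
set_option linter.unusedSectionVars false

open Cfsg Cfsg.FusionSystem CfsgLib.Fusion Module
open scoped commutatorElement

namespace CfsgLib.ExtraIndexP

universe u

variable {Ω : Type u} [Group Ω] {p n : ℕ} [hp : Fact p.Prime] {S Q : Subgroup Ω}
  {F : FusionSystem S} {z : Ω}

theorem finrank_le_map_add {k V : Type*} [Field k] [AddCommGroup V] [Module k V]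
    [FiniteDimensional k V] (f : V →ₗ[k] V) (W : Submodule k V) :
    finrank k W ≤ finrank k (W.map f) + finrank k (LinearMap.ker f) := by
  have h1 := LinearMap.finrank_range_add_finrank_ker (f.domRestrict W)
  have e : LinearMap.range (f.domRestrict W) = W.map f := LinearMap.range_domRestrict W f
  have h2 : finrank k (LinearMap.ker (f.domRestrict W)) ≤ finrank k (LinearMap.ker f) := by
    refine LinearMap.finrank_le_finrank_of_injective
      (f := (W.subtype.comp (LinearMap.ker (f.domRestrict W)).subtype).codRestrict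
        (LinearMap.ker f) fun v => v.2) fun a b hab => ?_
    exact Subtype.ext (Subtype.ext (congrArg Subtype.val hab :))
  rw [e] at h1
  omega

theorem two_ne_zero' (h : Ctx p n S Q F z) : (2 : ZMod p) ≠ 0 := fun e => by
  have h3 : ((2 : ℕ) : ZMod p) = 0 := by exact_mod_cast e
  have h4 := (Nat.prime_dvd_prime_iff_eq hp.out Nat.prime_two).mp
    ((ZMod.natCast_eq_zero_iff 2 p).mp h3)
  exact absurd h.odd (by rw [h4]; decide)

/-- A vector generating a chain of length four gives a basis. -/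
theorem chain_indep {k V : Type*} [Field k] [AddCommGroup V] [Module k V] (N : Module.End k V)
    (h4 : ∀ v, N (N (N (N v))) = 0) {t : V} (ht : N (N (N t)) ≠ 0) :
    LinearIndependent k ![N (N (N t)), N (N t), N t, t] := by
  rw [Fintype.linearIndependent_iff]
  intro c hc
  simp only [Fin.sum_univ_four, Matrix.cons_val_zero, Matrix.cons_val_one, Matrix.cons_val] at hc
  have c3 : c 3 = 0 := by
    have := congrArg (fun v => N (N (N v))) hc
    simp only [map_add, map_smul, h4, smul_zero, zero_add, map_zero] at this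
    exact (smul_eq_zero.mp this).resolve_right ht
  rw [c3, zero_smul, add_zero] at hc
  have c2 : c 2 = 0 := by
    have := congrArg (fun v => N (N v)) hc
    simp only [map_add, map_smul, h4, smul_zero, zero_add, map_zero] at this
    exact (smul_eq_zero.mp this).resolve_right ht
  rw [c2, zero_smul, add_zero] at hc
  have c1 : c 1 = 0 := by
    have := congrArg (fun v => N v) hc
    simp only [map_add, map_smul, h4, smul_zero, zero_add, map_zero] at this
    exact (smul_eq_zero.mp this).resolve_right ht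
  rw [c1, zero_smul, add_zero] at hc
  intro i
  fin_cases i
  exacts [(smul_eq_zero.mp hc).resolve_right ht, c1, c2, c3]

/-- The data of the split case. -/
structure SplitData (p n : ℕ) (S Q : Subgroup Ω) (z : Ω) (K : Coords p n S Q z) (x : Ω) :
    Prop where
  hn : n = 2
  exp : ∀ a ∈ Q, a ^ p = 1
  hx : x ∈ S
  hxQ : x ∉ Q
  hxp : x ^ p = 1
  cent : ∀ a ∈ Q, K.act x (K.π a) = K.π a → x * a = a * x
  rank : 2 ≤ finrank (ZMod p) (LinearMap.range (K.act x - 1))

namespace SplitData

variable {K : Coords p n S Q z} {x : Ω} (D : SplitData p n S Q z K x) (h : Ctx p n S Q F z)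

include D h

theorem commutator_eq_one {a : Ω} (ha : a ∈ Q) (h0 : (K.act x - 1) (K.π a) = 0) :
    ⁅x, a⁆ = 1 := by
  refine commutatorElement_eq_one_iff_mul_comm.mpr (D.cent a ha ?_)
  rwa [LinearMap.sub_apply, Module.End.one_apply, sub_eq_zero] at h0

theorem eq_S {T : Subgroup Ω} (hT : T ≤ S) (hxT : x ∈ T) (hzT : z ∈ T)
    {b : Fin 4 → Fin (2 * n) → ZMod p} (hb : LinearIndependent (ZMod p) b)
    (hmem : ∀ i, b i ∈ K.proj T) : T = S := by
  refine h.eq_S_of_gt hT (fun a ha => (K.π_mem_proj h hzT ha).mp ?_) hxT D.hxQ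
  have htop : Submodule.span (ZMod p) (Set.range b) = ⊤ :=
    hb.span_eq_top_of_card_eq_finrank (by rw [Fintype.card_fin, finrank_fin_fun, D.hn])
  exact Submodule.span_le.mpr (Set.range_subset_iff.mpr hmem) (htop.ge Submodule.mem_top)

theorem closure_eq {s : Set ↥S} (hs : (Subgroup.closure s).map S.subtype = S) :
    Subgroup.closure s = ⊤ := by
  refine top_le_iff.mp fun a _ => ?_
  obtain ⟨b, hb, e⟩ := hs.ge a.2
  exact Subtype.ext e ▸ hb

theorem comm_coe {a b : Ω} (ha : a ∈ Q) (hb : b ∈ Q) {i : ZMod p}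
    (e : K.B (K.π a) (K.π b) = i) :
    ⁅(⟨a, h.le ha⟩ : S), (⟨b, h.le hb⟩ : S)⁆ =
      (⟨zp z i, h.le (h.zpowers_le (zp_mem z i))⟩ : S) :=
  Subtype.ext (e ▸ K.comm a ha b hb)

theorem comm_one {a b : Ω} (ha : a ∈ Q) (hb : b ∈ Q) (e : K.B (K.π a) (K.π b) = 0) :
    ⁅(⟨a, h.le ha⟩ : S), (⟨b, h.le hb⟩ : S)⁆ = 1 :=
  (D.comm_coe h ha hb e).trans (Subtype.ext (zp_zero z))

theorem card_eq : Nat.card ↥S = p ^ 6 := by rw [h.card_S, D.hn]

/-- Two blocks. -/
theorem nfTwo {u₁ u₂ : Fin (2 * n) → ZMod p}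
    (hN : LinearMap.range (K.act x - 1) = LinearMap.ker (K.act x - 1))
    {a d : ZMod p} (ha : a ≠ 0) (hd : d ≠ 0) (h11 : K.B ((K.act x - 1) u₁) u₁ = a)
    (h12 : K.B ((K.act x - 1) u₁) u₂ = 0) (h21 : K.B ((K.act x - 1) u₂) u₁ = 0)
    (h22 : K.B ((K.act x - 1) u₂) u₂ = d * a) (hB : K.B u₁ u₂ = 0) : NFTwo p ↥S d := by
  obtain ⟨t₁, ht₁, rfl⟩ := K.π_surj u₁
  obtain ⟨t₂, ht₂, rfl⟩ := K.π_surj u₂
  have hc₁ := Coords.commutator_mem_Q' h D.hx ht₁
  have hc₂ := Coords.commutator_mem_Q' h D.hx ht₂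
  have hπ₁ := K.π_commutator h D.hx ht₁
  have hπ₂ := K.π_commutator h D.hx ht₂
  have hiso : ∀ v w, K.B ((K.act x - 1) v) ((K.act x - 1) w) = 0 := fun v w =>
    (K.mem_ker_iff D.hx _).mp (hN.le (LinearMap.mem_range_self _ v)) w
  have hNN : ∀ v, (K.act x - 1) ((K.act x - 1) v) = 0 := fun v =>
    LinearMap.mem_ker.mp (hN.le (LinearMap.mem_range_self _ v))
  have hz' := h.le (h.zpowers_le (zp_mem z a))
  have hzS := h.le h.z_mem
  have hzp : z ^ p = 1 := h.z_order ▸ pow_orderOf_eq_one z
  refine ⟨⟨x, D.hx⟩, ⟨t₁, h.le ht₁⟩, ⟨t₂, h.le ht₂⟩, ⟨⁅x, t₁⁆, h.le hc₁⟩, ⟨⁅x, t₂⁆, h.le hc₂⟩,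
    ⟨zp z a, hz'⟩, ?_, D.card_eq h, Subtype.ext D.hxp, Subtype.ext (D.exp _ ht₁),
    Subtype.ext (D.exp _ ht₂), Subtype.ext (D.exp _ hc₁), Subtype.ext (D.exp _ hc₂),
    Subtype.ext (D.exp _ (h.zpowers_le (zp_mem z a))),
    Subgroup.mem_center_iff.mpr fun s => Subtype.ext (h.comm_of_mem (zp_mem z a) s.2),
    rfl, rfl, Subtype.ext (D.commutator_eq_one h hc₁ ?_),
    Subtype.ext (D.commutator_eq_one h hc₂ ?_), D.comm_one h hc₁ hc₂ ?_,
    D.comm_one h ht₁ ht₂ hB, D.comm_one h hc₁ ht₂ ?_, D.comm_one h hc₂ ht₁ ?_,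
    D.comm_coe h hc₁ ht₁ ?_, ?_⟩
  · refine D.closure_eq h ?_
    rw [MonoidHom.map_closure]
    simp only [Set.image_insert_eq, Set.image_singleton, Subgroup.coe_subtype]
    obtain ⟨T, hT⟩ : ∃ T, T = Subgroup.closure ({x, t₁, t₂} : Set Ω) := ⟨_, rfl⟩
    rw [← hT]
    have hx : x ∈ T := hT ▸ Subgroup.subset_closure (by simp)
    have h1 : t₁ ∈ T := hT ▸ Subgroup.subset_closure (by simp)
    have h2 : t₂ ∈ T := hT ▸ Subgroup.subset_closure (by simp)
    have h3 : ∀ {u v : Ω}, u ∈ T → v ∈ T → ⁅u, v⁆ ∈ T := fun hu hv =>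
      T.mul_mem (T.mul_mem (T.mul_mem hu hv) (T.inv_mem hu)) (T.inv_mem hv)
    have hzT : z ∈ T := by
      refine mem_of_zp_mem hzp ha ?_
      rw [← h11, ← hπ₁, ← K.comm _ hc₁ t₁ ht₁]
      exact h3 (h3 hx h1) h1
    refine D.eq_S h (hT ▸ (Subgroup.closure_le _).mpr ?_) hx hzT
      (b := ![(K.act x - 1) (K.π t₁), (K.act x - 1) (K.π t₂), K.π t₁, K.π t₂]) ?_ ?_
    · rintro w (rfl | rfl | rfl)
      exacts [D.hx, h.le ht₁, h.le ht₂]
    · rw [Fintype.linearIndependent_iff]
      intro c hc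
      simp only [Fin.sum_univ_four, Matrix.cons_val_zero, Matrix.cons_val_one,
        Matrix.cons_val] at hc
      have hNc := congrArg (fun v => (K.act x - 1) v) hc
      simp only [map_add, map_smul, hNN, smul_zero, zero_add, map_zero] at hNc
      have e1 := congrArg (fun v => K.B v (K.π t₁)) hNc
      have e2 := congrArg (fun v => K.B v (K.π t₂)) hNc
      simp only [map_add, map_smul, LinearMap.add_apply, LinearMap.smul_apply, h11, h12, h21, h22,
        smul_eq_mul, mul_zero, add_zero, zero_add, map_zero, LinearMap.zero_apply] at e1 e2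
      have c2 := (mul_eq_zero.mp e1).resolve_right ha
      have c3 := (mul_eq_zero.mp e2).resolve_right (mul_ne_zero hd ha)
      rw [c2, c3, zero_smul, zero_smul, add_zero, add_zero] at hc
      have e3 := congrArg (fun v => K.B v (K.π t₁)) hc
      have e4 := congrArg (fun v => K.B v (K.π t₂)) hc
      simp only [map_add, map_smul, LinearMap.add_apply, LinearMap.smul_apply, h11, h12, h21, h22,
        smul_eq_mul, mul_zero, add_zero, zero_add, map_zero, LinearMap.zero_apply] at e3 e4
      intro i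
      fin_cases i
      exacts [(mul_eq_zero.mp e3).resolve_right ha,
        (mul_eq_zero.mp e4).resolve_right (mul_ne_zero hd ha), c2, c3]
    · intro i
      fin_cases i
      exacts [⟨_, hc₁, h3 hx h1, hπ₁⟩, ⟨_, hc₂, h3 hx h2, hπ₂⟩, ⟨_, ht₁, h1, rfl⟩,
        ⟨_, ht₂, h2, rfl⟩]
  · rw [hπ₁, hNN]
  · rw [hπ₂, hNN]
  · rw [hπ₁, hπ₂, hiso]
  · rw [hπ₁, h12]
  · rw [hπ₂, h21]
  · rw [hπ₁, h11]
  · refine (D.comm_coe h hc₂ ht₂ (i := d * a) (by rw [hπ₂, h22])).trans (Subtype.ext ?_)
    show zp z (d * a) = zp z a ^ d.val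
    rw [zp_pow h.z_order, ZMod.natCast_zmod_val]

/-- One block. -/
theorem nfFour {u : Fin (2 * n) → ZMod p} {a : ZMod p} (ha : a ≠ 0)
    (h4 : ∀ v, (K.act x - 1) ((K.act x - 1) ((K.act x - 1) ((K.act x - 1) v))) = 0)
    (h14 : K.B ((K.act x - 1) ((K.act x - 1) ((K.act x - 1) u))) u = a)
    (h34 : K.B ((K.act x - 1) u) u = 0) : NFFour p ↥S := by
  obtain ⟨t, ht, rfl⟩ := K.π_surj u
  have h3Q := Coords.commutator_mem_Q' h D.hx ht
  have h2Q := Coords.commutator_mem_Q' h D.hx h3Q
  have h1Q := Coords.commutator_mem_Q' h D.hx h2Q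
  have p3 := K.π_commutator h D.hx ht
  have p2 := K.π_commutator h D.hx h3Q
  have p1 := K.π_commutator h D.hx h2Q
  rw [p3] at p2
  rw [p2] at p1
  obtain ⟨N, hN⟩ : ∃ N, N = K.act x - 1 := ⟨_, rfl⟩
  rw [← hN] at h4 h14 h34 p1 p2 p3
  obtain ⟨e4, he4⟩ : ∃ e4, e4 = K.π t := ⟨_, rfl⟩
  rw [← he4] at h14 h34 p1 p2 p3
  have adj : ∀ v w, K.B (N v) w + K.B v (N w) + K.B (N v) (N w) = 0 := fun v w =>
    hN ▸ K.adjoint D.hx v w
  have hker : ∀ w, K.B (N (N (N e4))) (N w) = 0 := fun w => by
    have := adj (N (N (N e4))) w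
    rw [h4, map_zero, LinearMap.zero_apply, LinearMap.zero_apply, zero_add, add_zero] at this
    exact this
  have h32 : K.B (N e4) (N (N e4)) = a := by
    have := adj (N (N e4)) e4
    rw [h14, hker, add_zero, K.flip] at this
    linear_combination -this
  have h24 : K.B (N (N e4)) e4 = a := by
    have := adj (N e4) e4
    rw [K.alt, add_zero, K.flip (v := N e4) (w := N (N e4)), h32] at this
    linear_combination this
  have hz' := h.le (h.zpowers_le (zp_mem z a))
  have hzp : z ^ p = 1 := h.z_order ▸ pow_orderOf_eq_one z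
  refine ⟨⟨x, D.hx⟩, ⟨t, h.le ht⟩, ⟨⁅x, t⁆, h.le h3Q⟩, ⟨⁅x, ⁅x, t⁆⁆, h.le h2Q⟩,
    ⟨⁅x, ⁅x, ⁅x, t⁆⁆⁆, h.le h1Q⟩, ⟨zp z a, hz'⟩, ?_, D.card_eq h, Subtype.ext D.hxp,
    Subtype.ext (D.exp _ ht), Subtype.ext (D.exp _ h3Q), Subtype.ext (D.exp _ h2Q),
    Subtype.ext (D.exp _ h1Q), Subtype.ext (D.exp _ (h.zpowers_le (zp_mem z a))),
    Subgroup.mem_center_iff.mpr fun s => Subtype.ext (h.comm_of_mem (zp_mem z a) s.2),
    rfl, rfl, rfl, Subtype.ext (D.commutator_eq_one h h1Q ?_), D.comm_one h h1Q h2Q ?_,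
    D.comm_one h h1Q h3Q ?_, D.comm_coe h h1Q ht ?_, D.comm_coe h h2Q ht ?_,
    D.comm_coe h h3Q h2Q ?_, D.comm_one h h3Q ht ?_⟩
  · refine D.closure_eq h ?_
    rw [MonoidHom.map_closure]
    simp only [Set.image_insert_eq, Set.image_singleton, Subgroup.coe_subtype]
    obtain ⟨T, hT⟩ : ∃ T, T = Subgroup.closure ({x, t} : Set Ω) := ⟨_, rfl⟩
    rw [← hT]
    have hx : x ∈ T := hT ▸ Subgroup.subset_closure (by simp)
    have h0 : t ∈ T := hT ▸ Subgroup.subset_closure (by simp)
    have hc : ∀ {v w : Ω}, v ∈ T → w ∈ T → ⁅v, w⁆ ∈ T := fun hv hw =>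
      T.mul_mem (T.mul_mem (T.mul_mem hv hw) (T.inv_mem hv)) (T.inv_mem hw)
    have h1T := hc hx (hc hx (hc hx h0))
    have hzT : z ∈ T := by
      refine mem_of_zp_mem hzp ha ?_
      rw [← h14, ← p1, he4, ← K.comm _ h1Q t ht]
      exact hc h1T h0
    refine D.eq_S h (hT ▸ (Subgroup.closure_le _).mpr ?_) hx hzT
      (b := ![N (N (N e4)), N (N e4), N e4, e4]) ?_ ?_
    · rintro w (rfl | rfl)
      exacts [D.hx, h.le ht]
    · exact chain_indep N h4 fun e => ha (by rw [← h14, e, map_zero, LinearMap.zero_apply])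
    · intro i
      fin_cases i
      exacts [⟨_, h1Q, h1T, p1⟩, ⟨_, h2Q, hc hx (hc hx h0), p2⟩, ⟨_, h3Q, hc hx h0, p3⟩,
        ⟨_, ht, h0, he4.symm⟩]
  · rw [p1, ← hN, h4]
  · rw [p1, p2, hker]
  · rw [p1, p3, hker]
  · rw [p1, ← he4, h14]
  · rw [p2, ← he4, h24]
  · rw [p3, p2, h32]
  · rw [p3, ← he4, h34]

/-- The ranks. -/
theorem shape : LinearMap.range (K.act x - 1) = LinearMap.ker (K.act x - 1) ∨
    (5 ≤ p ∧ (K.act x - 1) ^ 4 = 0 ∧ (K.act x - 1) ^ 3 ≠ 0) := by
  obtain ⟨N, hN⟩ : ∃ N, N = K.act x - 1 := ⟨_, rfl⟩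
  have hNp : N ^ p = 0 := hN ▸ K.sub_one_pow D.hx
  have hr := D.rank
  have hk := K.finrank_ker_add (s := x)
  rw [← hN] at hr hk ⊢
  have hn := D.hn
  subst hn
  by_cases hr2 : finrank (ZMod p) (LinearMap.range N) = 2
  · left
    -- some non-zero vector is moved to a fixed one
    obtain ⟨v, hv, hv0⟩ : ∃ v ∈ LinearMap.range N ⊓ LinearMap.ker N, v ≠ 0 := by
      by_contra hcon
      push Not at hcon
      have hN0 : ∀ w, N (N w) = 0 → N w = 0 := fun w hw =>
        hcon _ ⟨LinearMap.mem_range_self _ w, hw⟩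
      have hall : ∀ k w, (N ^ (k + 1)) w = 0 → N w = 0 := by
        intro k
        induction k with
        | zero => intro w hw; rwa [pow_one] at hw
        | succ k ih =>
          intro w hw
          rw [pow_succ, Module.End.mul_apply] at hw
          exact hN0 w (ih _ hw)
      have : LinearMap.range N = ⊥ := LinearMap.range_eq_bot.mpr (LinearMap.ext fun w =>
        hall (p - 1) w (by rw [Nat.sub_add_cancel hp.out.one_le, hNp]; rfl))
      rw [this, finrank_bot] at hr2
      omega
    have hiso : ∀ u ∈ LinearMap.range N, ∀ w ∈ LinearMap.range N, K.B u w = 0 := by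
      have hvu : ∀ u ∈ LinearMap.range N, K.B v u = 0 := by
        rintro _ ⟨w, rfl⟩
        exact hN ▸ (K.mem_ker_iff D.hx v).mp (hN ▸ hv.2) w
      intro u hu w hw
      by_cases huv : u ∈ Submodule.span (ZMod p) {v}
      · obtain ⟨c, rfl⟩ := Submodule.mem_span_singleton.mp huv
        rw [map_smul, LinearMap.smul_apply, hvu w hw, smul_zero]
      have heq : Submodule.span (ZMod p) {v, u} = LinearMap.range N := by
        refine Submodule.eq_of_le_of_finrank_le (Submodule.span_le.mpr ?_) ?_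
        · rintro a (rfl | rfl)
          exacts [hv.1, hu]
        · have hlt : Submodule.span (ZMod p) {v} < Submodule.span (ZMod p) {v, u} :=
            lt_of_le_of_ne (Submodule.span_mono (by simp)) fun e' =>
              huv (e'.ge (Submodule.subset_span (by simp)))
          have h9 := Submodule.finrank_lt_finrank_of_lt hlt
          rw [finrank_span_singleton hv0] at h9
          omega
      obtain ⟨c, d, rfl⟩ := Submodule.mem_span_pair.mp (heq.ge hw)
      rw [map_add, map_smul, map_smul, K.flip, hvu u hu, K.alt, neg_zero, smul_zero, smul_zero,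
        add_zero]
    refine Submodule.eq_of_le_of_finrank_le (fun u hu => ?_) (by omega)
    exact hN ▸ (K.mem_ker_iff D.hx u).mpr fun w =>
      hiso u hu _ (hN ▸ LinearMap.mem_range_self _ w)
  · right
    have h4 : N ^ 4 = 0 := by
      refine LinearMap.ker_eq_top.mp (top_le_iff.mp ?_)
      have := Module.End.ker_pow_le_ker_pow_finrank N p
      rwa [hNp, LinearMap.ker_zero, finrank_fin_fun] at this
    have h3 : N ^ 3 ≠ 0 := by
      intro h3
      have hN4 : finrank (ZMod p) (LinearMap.range N) ≤ 3 := by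
        by_contra hlt
        have htop : LinearMap.range N = ⊤ := Submodule.eq_top_of_finrank_eq (by
          have := Submodule.finrank_le (LinearMap.range N)
          rw [finrank_fin_fun] at this ⊢
          omega)
        have hsur := LinearMap.range_eq_top.mp htop
        have hsur3 : Function.Surjective ⇑(N ^ 3) := by
          rw [Module.End.coe_pow]
          exact hsur.iterate 3
        rw [h3] at hsur3
        obtain ⟨w, hw⟩ := hsur3 (fun _ => 1)
        have := congrFun hw ⟨0, by omega⟩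
        exact zero_ne_one this
      have h5 := finrank_le_map_add N (LinearMap.range N)
      have h6 := finrank_le_map_add N ((LinearMap.range N).map N)
      have e : ((LinearMap.range N).map N).map N = ⊥ := by
        rw [← Submodule.map_comp, ← LinearMap.range_comp, ← Module.End.mul_eq_comp,
          ← Module.End.mul_eq_comp, show N * N * N = N ^ 3 by noncomm_ring, h3,
          LinearMap.range_zero]
      rw [e, finrank_bot] at h6
      omega
    refine ⟨?_, h4, h3⟩
    by_contra hlt
    have hp4 : p ≠ 4 := fun e => by have := hp.out; rw [e] at this; norm_num at this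
    exact h3 (pow_eq_zero_of_le (by omega) hNp)

end SplitData

theorem stmtNormalForm : StmtNormalForm.{u} := by
  intro Ω _ p n _ S Q F z h K ⟨hn, hexp, x, hx, hxQ, hxp, hcent, hrank⟩
  have D : SplitData p n S Q z K x := ⟨hn, hexp, hx, hxQ, hxp, hcent, hrank⟩
  have h2 := two_ne_zero' h
  obtain ⟨N, hN⟩ : ∃ N, N = K.act x - 1 := ⟨_, rfl⟩
  have adj : ∀ v w, K.B (N v) w + K.B v (N w) + K.B (N v) (N w) = 0 := fun v w =>
    hN ▸ K.adjoint hx v w
  rcases D.shape h with hs | ⟨h5, h4, h3⟩
  · have hiso : ∀ v w, K.B (N v) (N w) = 0 := fun v w =>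
      hN ▸ (K.mem_ker_iff hx _).mp (hs.le (LinearMap.mem_range_self _ v)) w
    have hsym : ∀ v w, K.B (N v) w = K.B (N w) v := fun v w => by
      have := adj v w
      rw [hiso, add_zero, K.flip (v := N w) (w := v)] at this
      linear_combination this
    have hrad : ∀ v, (∀ w, K.B (N v) w = 0) → N v = 0 := fun v => K.nondeg _
    obtain ⟨t₁, h11⟩ : ∃ t₁, K.B (N t₁) t₁ ≠ 0 := by
      by_contra hcon
      push Not at hcon
      have hN0 : N = 0 := LinearMap.ext fun v => hrad v fun w => by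
        have e := hcon (v + w)
        simp only [map_add, LinearMap.add_apply, hcon, zero_add, add_zero, hsym w v] at e
        exact (mul_eq_zero.mp (show (2 : ZMod p) * K.B (N v) w = 0 by
          linear_combination e)).resolve_left h2
      rw [← hN, hN0, LinearMap.range_zero, finrank_bot] at hrank
      omega
    obtain ⟨t₂, h12, ht₂⟩ : ∃ t₂, K.B (N t₁) t₂ = 0 ∧ N t₂ ≠ 0 := by
      by_contra hcon
      push Not at hcon
      have hle : LinearMap.ker (K.B (N t₁)) ≤ LinearMap.ker N := fun v hv => hcon v hv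
      have h6 := Submodule.finrank_mono hle
      have h7 := K.finrank_ker_B (w := N t₁) fun e => h11 (by
        rw [e, map_zero, LinearMap.zero_apply])
      have h8 := K.finrank_ker_add (s := x)
      rw [← hs, ← hN] at h8
      rw [← hN] at hs
      rw [← hs] at h6
      omega
    obtain ⟨m, hm⟩ : ∃ m, K.B t₁ t₂ + m * K.B t₁ (N t₁) = 0 := by
      refine ⟨-K.B t₁ t₂ * (K.B t₁ (N t₁))⁻¹, ?_⟩
      rw [mul_assoc, inv_mul_cancel₀ (by rw [K.flip]; exact neg_ne_zero.mpr h11), mul_one,
        add_neg_cancel]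
    obtain ⟨t, ht⟩ : ∃ t, t = t₂ + m • N t₁ := ⟨_, rfl⟩
    have hNN : N (N t₁) = 0 := by
      rw [← hN] at hs
      exact LinearMap.mem_ker.mp (hs.le (LinearMap.mem_range_self _ t₁))
    have hNt : N t = N t₂ := by rw [ht, map_add, map_smul, hNN, smul_zero, add_zero]
    have hb12 : K.B (N t₁) t = 0 := by
      rw [ht, map_add, map_smul, h12, hiso, smul_zero, add_zero]
    have hB : K.B t₁ t = 0 := by rw [ht, map_add, map_smul, smul_eq_mul, hm]
    have h22 : K.B (N t) t ≠ 0 := by
      intro e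
      -- `N t` would be orthogonal to everything
      refine ht₂ (hNt ▸ hrad t fun w => ?_)
      have hker : LinearMap.ker (K.B (N t₁)) ⊓ LinearMap.ker (K.B (N t)) = LinearMap.ker
          (K.B (N t₁)) := by
        refine inf_eq_left.mpr ?_
        have hsub : Submodule.span (ZMod p) {t} ⊔ LinearMap.range N =
            LinearMap.ker (K.B (N t₁)) := by
          refine Submodule.eq_of_le_of_finrank_le (sup_le
            ((Submodule.span_singleton_le_iff_mem _ _).mpr hb12) ?_) ?_
          · rintro _ ⟨v, rfl⟩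
            exact hiso t₁ v
          · have hlt : LinearMap.range N < Submodule.span (ZMod p) {t} ⊔ LinearMap.range N :=
              right_lt_sup.mpr fun hle => ht₂ (by
                rw [← hN] at hs
                rw [← hNt]
                exact LinearMap.mem_ker.mp (hs.le (hle (Submodule.mem_span_singleton_self t))))
            have h9 := Submodule.finrank_lt_finrank_of_lt hlt
            have h7 := K.finrank_ker_B (w := N t₁) fun e' => h11 (by
              rw [e', map_zero, LinearMap.zero_apply])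
            have h8 := K.finrank_ker_add (s := x)
            rw [← hs, ← hN] at h8
            omega
        rw [← hsub]
        refine sup_le ((Submodule.span_singleton_le_iff_mem _ _).mpr e) ?_
        rintro _ ⟨v, rfl⟩
        exact hiso t v
      have hw : K.B (N t₁) (w - (K.B (N t₁) w * (K.B (N t₁) t₁)⁻¹) • t₁) = 0 := by
        rw [map_sub, map_smul, smul_eq_mul, mul_assoc, inv_mul_cancel₀ h11, mul_one, sub_self]
      have h10 := (hker.ge hw).2
      rw [SetLike.mem_coe, LinearMap.mem_ker, map_sub, map_smul, hsym t t₁, hb12, smul_zero, sub_zero] at h10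
      exact h10
    obtain ⟨d, hd⟩ : ∃ d, d = K.B (N t) t * (K.B (N t₁) t₁)⁻¹ := ⟨_, rfl⟩
    have hd0 : d ≠ 0 := hd ▸ mul_ne_zero h22 (inv_ne_zero h11)
    have hda : K.B (N t) t = d * K.B (N t₁) t₁ := by
      rw [hd, mul_assoc, inv_mul_cancel₀ h11, mul_one]
    by_cases hsq : IsSquare (-d)
    · obtain ⟨r, hr⟩ := hsq
      have hr0 : r ≠ 0 := fun e => hd0 (by rw [e, mul_zero, neg_eq_zero] at hr; exact hr)
      left
      refine D.nfTwo h (u₁ := t₁) (u₂ := r⁻¹ • t) hs h11 (neg_ne_zero.mpr one_ne_zero) ?_ ?_ ?_ ?_ ?_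
      · rw [← hN]
      · rw [← hN, map_smul, hb12, smul_zero]
      · rw [← hN, map_smul, map_smul, LinearMap.smul_apply, hsym, hb12, smul_zero]
      · rw [← hN, map_smul, map_smul, map_smul, LinearMap.smul_apply, smul_eq_mul, smul_eq_mul,
          hda, show d = -(r * r) by rw [← hr, neg_neg]]
        field_simp
      · rw [map_smul, hB, smul_zero]
    · right; left
      refine ⟨d, hsq, D.nfTwo h (u₁ := t₁) (u₂ := t) hs h11 hd0 ?_ ?_ ?_ ?_ hB⟩
      · rw [← hN]
      · rw [← hN, hb12]
      · rw [← hN, hsym, hb12]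
      · rw [← hN, hda]
  · right; right
    refine ⟨h5, ?_⟩
    rw [← hN] at h4 h3
    have h4' : ∀ v, N (N (N (N v))) = 0 := fun v => LinearMap.congr_fun h4 v
    obtain ⟨t, ht⟩ : ∃ t, N (N (N t)) ≠ 0 := by
      by_contra hcon
      push Not at hcon
      exact h3 (LinearMap.ext fun v => hcon v)
    have hker : ∀ v w, K.B (N (N (N v))) (N w) = 0 := fun v w => by
      have := adj (N (N (N v))) w
      rw [h4', map_zero, LinearMap.zero_apply, LinearMap.zero_apply, zero_add, add_zero] at this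
      exact this
    obtain ⟨a, ha⟩ : ∃ a, a = K.B (N (N (N t))) t := ⟨_, rfl⟩
    have ha0 : a ≠ 0 := by
      intro e
      refine ht (K.nondeg _ fun w => ?_)
      -- the hyperplane `range N` together with `t` is everything
      have htop : Submodule.span (ZMod p) {t} ⊔ LinearMap.range N = ⊤ := by
        rw [eq_top_iff, ← (chain_indep N h4' ht).span_eq_top_of_card_eq_finrank
          (by rw [Fintype.card_fin, finrank_fin_fun, hn]), Submodule.span_le]
        rintro _ ⟨i, rfl⟩
        fin_cases i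
        exacts [Submodule.mem_sup_right (LinearMap.mem_range_self _ _),
          Submodule.mem_sup_right (LinearMap.mem_range_self _ _),
          Submodule.mem_sup_right (LinearMap.mem_range_self _ _),
          Submodule.mem_sup_left (Submodule.mem_span_singleton_self _)]
      have hle : Submodule.span (ZMod p) {t} ⊔ LinearMap.range N ≤
          LinearMap.ker (K.B (N (N (N t)))) := by
        refine sup_le ((Submodule.span_singleton_le_iff_mem _ _).mpr (ha.symm.trans e)) ?_
        rintro _ ⟨v, rfl⟩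
        exact hker t v
      exact hle (htop.ge Submodule.mem_top)
    have hBN : K.B (N t) (N (N t)) = a := by
      have := adj (N (N t)) t
      rw [← ha, hker, add_zero, K.flip] at this
      linear_combination -this
    obtain ⟨l, hl⟩ : ∃ l, K.B (N t) t + 2 * l * a = 0 :=
      ⟨-K.B (N t) t * (2 * a)⁻¹, by field_simp; ring⟩
    refine D.nfFour h (u := t + l • N (N t)) ha0 ?_ ?_ ?_
    · intro v
      rw [← hN, h4']
    · rw [← hN]
      simp only [map_add, map_smul, h4', LinearMap.add_apply,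
        smul_zero, add_zero, hker, ← ha]
    · rw [← hN]
      simp only [map_add, map_smul, LinearMap.add_apply, LinearMap.smul_apply, ← ha, hBN,
        smul_eq_mul, hker, mul_zero, add_zero]
      linear_combination hl

end CfsgLib.ExtraIndexP
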