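import Mathlib
import Cfsg.Agent.Lib.ExtraIndexP.Defs
import Cfsg.Agent.Lib.Fusion.OrderFiveBase
import Cfsg.Agent.Lib.Fusion.MaxClassSmallEssential

/-!
# The pearl case of S5177: the module `Q / Z` and the chain `R k`
-/

set_option autoImplicit false
set_option linter.unusedSectionVars false

open Cfsg Cfsg.FusionSystem CfsgLib.Fusion Module
open scoped commutatorElement

namespace CfsgLib.ExtraIndexP.PearlCase

universe u

variable {Ω : Type u} [Group Ω] {p n : ℕ} {S Q : Subgroup Ω} {F : FusionSystem S} {z : Ω}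

/-- `x` outside `Q` of order `p` centralises nothing in `Q` outside the centre. -/
structure Hyp (p n : ℕ) (S Q : Subgroup Ω) (F : FusionSystem S) (z x : Ω) : Prop where
  ctx : Ctx p n S Q F z
  x_mem : x ∈ S
  x_not : x ∉ Q
  x_pow : x ^ p = 1
  cent : ∀ a ∈ Q, a * x = x * a → a ∈ Subgroup.zpowers z
  ess : F.IsEssential p (Subgroup.zpowers x ⊔ Subgroup.zpowers z)

section Ctx

variable [hp : Fact p.Prime] (hC : Ctx p n S Q F z)

include hC in
theorem finS : Finite S := hC.finite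

include hC in
theorem z_pow : z ^ p = 1 := hC.z_order ▸ pow_orderOf_eq_one z

include hC in
theorem z_memS : z ∈ S := hC.le hC.z_mem

include hC in
theorem zp_nat (k : ℕ) : z ^ k = zp z (k : ZMod p) := by
  unfold zp
  rw [ZMod.val_natCast, ← hC.z_order]
  exact (pow_mod_orderOf z k).symm

include hC in
theorem zp_inj {i j : ZMod p} (h : zp z i = zp z j) : i = j := by
  unfold zp at h
  have hz : orderOf z = p := hC.z_order
  exact ZMod.val_injective p
    (pow_injOn_Iio_orderOf (x := z) (by simp [hz, ZMod.val_lt]) (by simp [hz, ZMod.val_lt]) h)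

include hC in
theorem zp_add (i j : ZMod p) : zp z (i + j) = zp z i * zp z j := by
  unfold zp
  rw [← pow_add, zp_nat hC (i.val + j.val)]
  simp [zp]

theorem zp_zero : zp z (0 : ZMod p) = 1 := by simp [zp]

theorem zp_mem (i : ZMod p) : zp z i ∈ Subgroup.zpowers z :=
  Subgroup.npow_mem_zpowers z _

include hC in
theorem exists_zp {a : Ω} (ha : a ∈ Subgroup.zpowers z) : ∃ i : ZMod p, a = zp z i := by
  have := hC.finite
  have hfin : IsOfFinOrder z :=
    orderOf_pos_iff.1 (by rw [hC.z_order]; exact hp.1.pos)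
  obtain ⟨k, rfl⟩ := hfin.mem_powers_iff_mem_zpowers.2 ha
  exact ⟨k, zp_nat hC k⟩

include hC in
theorem z_central {s a : Ω} (hs : s ∈ S) (ha : a ∈ Subgroup.zpowers z) : s * a = a * s := by
  obtain ⟨k, rfl⟩ := Subgroup.mem_zpowers_iff.1 ha
  exact (Commute.zpow_right (show Commute s z from hC.z_comm s hs) k).eq

include hC in
theorem cj_central {s a : Ω} (hs : s ∈ S) (ha : a ∈ Subgroup.zpowers z) : cj s a = a := by
  rw [cj_apply, z_central hC hs ha, mul_inv_cancel_right]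

include hC in
/-- A subgroup of `S` containing `Q` and something outside it contains `S`. -/
theorem le_of_gen {H : Subgroup Ω} (hH : H ≤ S) (hQ : Q ≤ H) {y : Ω} (hy : y ∈ H) (hyQ : y ∉ Q) :
    S ≤ H := by
  have := hC.finite
  have h1 : p ^ (2 * n + 1) < Nat.card H :=
    hC.card_Q ▸ card_lt_of_lt hH (lt_of_le_of_ne hQ fun e => hyQ (e ▸ hy))
  have h2 := MaxClassSmall.pow_succ_le hH hC.group h1
  exact (eq_of_le_of_card le_rfl hH (hC.card_S ▸ h2)).ge

include hC in
theorem card_le_inf {A : Subgroup Ω} (hA : A ≤ S) : Nat.card A ≤ p * Nat.card ↥(A ⊓ Q) := by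
  have := hC.finite
  have h1 := Subgroup.relIndex_le_of_le_right (H := Q) hA
    (by rw [Subgroup.relIndex, hC.index]; exact hp.1.ne_zero)
  rw [Subgroup.relIndex, Subgroup.relIndex, hC.index] at h1
  have h2 := (Q.subgroupOf A).card_mul_index
  have h3 : Nat.card (Q.subgroupOf A) = Nat.card ↥(A ⊓ Q) := by
    rw [inf_comm, ← Subgroup.inf_subgroupOf_right,
      Nat.card_congr (Subgroup.subgroupOfEquivOfLe inf_le_right).toEquiv]
  rw [← h2, h3, mul_comm]
  exact Nat.mul_le_mul_right _ h1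

variable (K : Coords p n S Q z)

theorem pi_one : K.π 1 = 0 := by
  have h := K.π_mul 1 Q.one_mem 1 Q.one_mem
  rw [mul_one] at h
  exact left_eq_add.1 h

theorem pi_inv {a : Ω} (ha : a ∈ Q) : K.π a⁻¹ = - K.π a := by
  refine eq_neg_of_add_eq_zero_left ?_
  rw [← K.π_mul _ (Q.inv_mem ha) _ ha, inv_mul_cancel, pi_one K]

theorem pi_pow {a : Ω} (ha : a ∈ Q) : ∀ k : ℕ, K.π (a ^ k) = (k : ZMod p) • K.π a
  | 0 => by simp [pi_one K]
  | k + 1 => by
    rw [pow_succ, K.π_mul _ (Q.pow_mem ha k) _ ha, pi_pow ha k, Nat.cast_add, Nat.cast_one,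
      add_smul, one_smul]

include hC in
theorem pi_z {a : Ω} (ha : a ∈ Subgroup.zpowers z) : K.π a = 0 :=
  (K.π_eq_zero a (Subgroup.zpowers_le.2 hC.z_mem ha)).2 ha

include hC in
theorem comm_mem {s a : Ω} (hs : s ∈ S) (ha : a ∈ Q) : ⁅s, a⁆ ∈ Q := by
  rw [commutatorElement_def]
  exact Q.mul_mem (hC.normal s hs a ha) (Q.inv_mem ha)

include hC in
theorem pi_comm {s a : Ω} (hs : s ∈ S) (ha : a ∈ Q) :
    K.π ⁅s, a⁆ = K.act s (K.π a) - K.π a := by
  rw [show ⁅s, a⁆ = cj s a * a⁻¹ from rfl, K.π_mul _ (hC.normal s hs a ha) _ (Q.inv_mem ha),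
    K.act_spec s hs a ha, pi_inv K ha, sub_eq_add_neg]

theorem act_one' : K.act 1 = 1 := K.act_Q 1 Q.one_mem

theorem act_inv_mul {s : Ω} (hs : s ∈ S) : K.act s⁻¹ * K.act s = 1 := by
  rw [← K.act_mul _ (S.inv_mem hs) _ hs, inv_mul_cancel, act_one' K]

theorem act_mul_inv {s : Ω} (hs : s ∈ S) : K.act s * K.act s⁻¹ = 1 := by
  rw [← K.act_mul _ hs _ (S.inv_mem hs), mul_inv_cancel, act_one' K]

theorem act_pow' {s : Ω} (hs : s ∈ S) : ∀ i : ℕ, K.act (s ^ i) = K.act s ^ i
  | 0 => by rw [pow_zero, pow_zero, act_one' K]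
  | i + 1 => by rw [pow_succ, K.act_mul _ (S.pow_mem hs i) _ hs, act_pow' hs i, pow_succ]

include hC in
/-- Every element outside `Q` moves as much as any element of `S`. -/
theorem range_le {y s : Ω} (hy : y ∈ S) (hyQ : y ∉ Q) (hs : s ∈ S) :
    LinearMap.range (K.act s - 1) ≤ LinearMap.range (K.act y - 1) := by
  let H : Subgroup Ω :=
    { carrier := {g | g ∈ S ∧ ∀ v, K.act g v - v ∈ LinearMap.range (K.act y - 1)}
      one_mem' := ⟨S.one_mem, fun v => by simp [act_one' K]⟩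
      mul_mem' := by
        rintro a b ⟨ha, ha'⟩ ⟨hb, hb'⟩
        refine ⟨S.mul_mem ha hb, fun v => ?_⟩
        have := Submodule.add_mem _ (ha' (K.act b v)) (hb' v)
        rwa [sub_add_sub_cancel, ← Module.End.mul_apply, ← K.act_mul a ha b hb] at this
      inv_mem' := by
        rintro a ⟨ha, ha'⟩
        refine ⟨S.inv_mem ha, fun v => ?_⟩
        have := Submodule.neg_mem _ (ha' (K.act a⁻¹ v))
        rwa [← Module.End.mul_apply, act_mul_inv K ha, Module.End.one_apply, neg_sub] at this }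
  have h := le_of_gen hC (H := H) (fun g hg => hg.1)
    (fun q hq => ⟨hC.le hq, fun v => by simp [K.act_Q q hq]⟩)
    (show y ∈ H from ⟨hy, fun v => ⟨v, rfl⟩⟩) hyQ hs
  rintro _ ⟨v, rfl⟩
  exact h.2 v

include hC in
theorem act_comm {x s : Ω} (hx : x ∈ S) (hs : s ∈ S) : Commute (K.act s) (K.act x) := by
  let H : Subgroup Ω :=
    { carrier := {g | g ∈ S ∧ Commute (K.act g) (K.act x)}
      one_mem' := ⟨S.one_mem, by rw [act_one' K]; exact Commute.one_left _⟩
      mul_mem' := fun {a b} ha hb =>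
        ⟨S.mul_mem ha.1 hb.1, by rw [K.act_mul a ha.1 b hb.1]; exact ha.2.mul_left hb.2⟩
      inv_mem' := by
        rintro a ⟨ha, ha'⟩
        refine ⟨S.inv_mem ha, ?_⟩
        let U : (Module.End (ZMod p) (Fin (2 * n) → ZMod p))ˣ :=
          ⟨K.act a, K.act a⁻¹, act_mul_inv K ha, act_inv_mul K ha⟩
        exact (show Commute (U : Module.End (ZMod p) _) (K.act x) from ha').units_inv_left }
  by_cases hxQ : x ∈ Q
  · rw [K.act_Q x hxQ]; exact Commute.one_right _
  · exact (le_of_gen hC (H := H) (fun g hg => hg.1)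
      (fun q hq => ⟨hC.le hq, by rw [K.act_Q q hq]; exact Commute.one_left _⟩)
      (show x ∈ H from ⟨hx, Commute.refl _⟩) hxQ hs).2

include hC in
/-- A subspace invariant under one element outside `Q` is invariant under `S`. -/
theorem invariant_of_one {U : Submodule (ZMod p) (Fin (2 * n) → ZMod p)} {y : Ω} (hy : y ∈ S)
    (hyQ : y ∉ Q) (hU : ∀ u ∈ U, K.act y u ∈ U) {s : Ω} (hs : s ∈ S) : ∀ u ∈ U, K.act s u ∈ U := by
  let H : Subgroup Ω :=
    { carrier := {g | g ∈ S ∧ (∀ u ∈ U, K.act g u ∈ U) ∧ ∀ u ∈ U, K.act g⁻¹ u ∈ U}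
      one_mem' := ⟨S.one_mem, fun u hu => by simpa [act_one' K] using hu,
        fun u hu => by simpa [act_one' K] using hu⟩
      mul_mem' := by
        rintro a b ⟨ha, ha1, ha2⟩ ⟨hb, hb1, hb2⟩
        refine ⟨S.mul_mem ha hb, fun u hu => ?_, fun u hu => ?_⟩
        · rw [K.act_mul a ha b hb]; exact ha1 _ (hb1 u hu)
        · rw [mul_inv_rev, K.act_mul _ (S.inv_mem hb) _ (S.inv_mem ha)]
          exact hb2 _ (ha2 u hu)
      inv_mem' := fun {a} ⟨ha, ha1, ha2⟩ => ⟨S.inv_mem ha, ha2, by rwa [inv_inv]⟩ }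
  refine (le_of_gen hC (H := H) (fun g hg => hg.1) (fun q hq => ?_) (show y ∈ H from ?_) hyQ hs).2.1
  · exact ⟨hC.le hq, fun u hu => by simpa [K.act_Q q hq] using hu,
      fun u hu => by simpa [K.act_Q _ (Q.inv_mem hq)] using hu⟩
  · refine ⟨hy, hU, fun u hu => ?_⟩
    have e : K.act y⁻¹ = K.act y ^ (p - 1) := by
      have h1 : K.act y * K.act y ^ (p - 1) = 1 := by
        rw [← pow_succ', Nat.sub_add_cancel hp.1.one_le, K.act_pow y hy]
      calc K.act y⁻¹ = K.act y⁻¹ * (K.act y * K.act y ^ (p - 1)) := by rw [h1, mul_one]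
        _ = K.act y ^ (p - 1) := by rw [← mul_assoc, act_inv_mul K hy, one_mul]
    have hpow : ∀ i : ℕ, (K.act y ^ i) u ∈ U := by
      intro i
      induction i with
      | zero => simpa using hu
      | succ i ih => rw [pow_succ', Module.End.mul_apply]; exact hU _ ih
    exact e ▸ hpow _

end Ctx

variable [hp : Fact p.Prime] {x : Ω}

/-- The nilpotent operator of `x`. -/
def N (K : Coords p n S Q z) (x : Ω) : Module.End (ZMod p) (Fin (2 * n) → ZMod p) := K.act x - 1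

variable (K : Coords p n S Q z)

/-- The preimage in `Q` of the kernel of `N ^ k`. -/
def L (x : Ω) (k : ℕ) : Subgroup Ω where
  carrier := {a | a ∈ Q ∧ (N K x ^ k) (K.π a) = 0}
  one_mem' := ⟨Q.one_mem, by rw [pi_one K, map_zero]⟩
  mul_mem' := fun {a b} ha hb => ⟨Q.mul_mem ha.1 hb.1, by
    rw [K.π_mul a ha.1 b hb.1, map_add, ha.2, hb.2, add_zero]⟩
  inv_mem' := fun {a} ha => ⟨Q.inv_mem ha.1, by rw [pi_inv K ha.1, map_neg, ha.2, neg_zero]⟩

/-- The chain from the pearl to `S`. -/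
def R (x : Ω) (k : ℕ) : Subgroup Ω := Subgroup.zpowers x ⊔ L K x k

theorem N_apply (v : Fin (2 * n) → ZMod p) : N K x v = K.act x v - v := rfl

variable (hX : Hyp p n S Q F z x)
include hX

theorem N_pow_p : N K x ^ p = 0 := by
  have : CharP (Module.End (ZMod p) (Fin (2 * n) → ZMod p)) p := by
    have : Nonempty (Fin (2 * n)) := ⟨⟨0, by have := hX.ctx.two_le; omega⟩⟩
    exact charP_of_injective_algebraMap
      (FaithfulSMul.algebraMap_injective (ZMod p) _) p
  rw [N, sub_pow_char_of_commute _ (Commute.one_right _), one_pow, K.act_pow x hX.x_mem, sub_self]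

theorem N_commute {s : Ω} (hs : s ∈ S) : Commute (K.act s) (N K x) :=
  (act_comm hX.ctx K hX.x_mem hs).sub_right (Commute.one_right _)

theorem act_ker {s : Ω} (hs : s ∈ S) (k : ℕ) {v : Fin (2 * n) → ZMod p}
    (hv : (N K x ^ k) v = 0) : (N K x ^ k) (K.act s v) = 0 := by
  rw [← Module.End.mul_apply, ← ((N_commute K hX hs).pow_right k).eq, Module.End.mul_apply, hv,
    map_zero]

theorem finrank_ker : finrank (ZMod p) (LinearMap.ker (N K x)) ≤ 1 := by
  classical
  have hC := hX.ctx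
  rcases eq_or_ne (LinearMap.ker (N K x)) ⊥ with h | h
  · rw [h, finrank_bot]; exact zero_le_one
  obtain ⟨v, hv, hv0⟩ := Submodule.exists_mem_ne_zero_of_ne_bot h
  have hz : ∀ a ∈ Q, N K x (K.π a) = 0 → ∃ i : ZMod p, ⁅x, a⁆ = zp z i := by
    intro a ha h
    refine exists_zp hC ((K.π_eq_zero _ (comm_mem hC hX.x_mem ha)).1 ?_)
    rw [pi_comm hC K hX.x_mem ha, ← N_apply, h]
  obtain ⟨a, ha, rfl⟩ := K.π_surj v
  rw [LinearMap.mem_ker] at hv
  obtain ⟨i, hi⟩ := hz a ha hv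
  have hi0 : i ≠ 0 := by
    rintro rfl
    rw [zp_zero, commutatorElement_eq_one_iff_mul_comm] at hi
    exact hv0 ((K.π_eq_zero a ha).2 (hX.cent a ha hi.symm))
  refine finrank_le_one (⟨K.π a, LinearMap.mem_ker.2 hv⟩ : LinearMap.ker (N K x)) fun w => ?_
  obtain ⟨b, hb, hbw⟩ := K.π_surj w.1
  obtain ⟨j, hj⟩ := hz b hb (by rw [hbw]; exact LinearMap.mem_ker.1 w.2)
  refine ⟨j / i, Subtype.ext ?_⟩
  set k : ℕ := (-(j / i)).val with hk
  have hmul : ∀ c d : Ω, c ∈ Q → d ∈ Q → ⁅x, d⁆ ∈ Subgroup.zpowers z →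
      ⁅x, c * d⁆ = ⁅x, c⁆ * ⁅x, d⁆ := by
    intro c d hc _ hd'
    have e : ⁅x, c * d⁆ = ⁅x, c⁆ * (c * ⁅x, d⁆ * c⁻¹) := by
      simp only [commutatorElement_def]; group
    rw [e, show c * ⁅x, d⁆ * c⁻¹ = ⁅x, d⁆ from cj_central hC (hC.le hc) hd']
  have hpow : ∀ m : ℕ, ⁅x, a ^ m⁆ = zp z ((m : ZMod p) * i) := by
    intro m
    induction m with
    | zero => simp [zp_zero]
    | succ m ih =>
      rw [pow_succ, hmul _ _ (Q.pow_mem ha m) ha (hi ▸ zp_mem i), ih, hi, ← zp_add hC]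
      congr 1
      push_cast; ring
  have hbk : ⁅x, b * a ^ k⁆ = 1 := by
    rw [hmul _ _ hb (Q.pow_mem ha k) (hpow k ▸ zp_mem _), hj, hpow, ← zp_add hC, hk,
      ZMod.natCast_zmod_val, neg_mul, div_mul_cancel₀ _ hi0, add_neg_cancel, zp_zero]
  have h0 : K.π (b * a ^ k) = 0 := pi_z hC K
    (hX.cent _ (Q.mul_mem hb (Q.pow_mem ha k)) (commutatorElement_eq_one_iff_mul_comm.1 hbk).symm)
  rw [K.π_mul _ hb _ (Q.pow_mem ha k), pi_pow K ha, hk, ZMod.natCast_zmod_val, hbw] at h0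
  show (j / i) • K.π a = w.1
  rw [neg_smul, ← sub_eq_add_neg, sub_eq_zero] at h0
  exact h0.symm

theorem finrank_ker_pow_add (k : ℕ) : ∀ j : ℕ,
    finrank (ZMod p) (LinearMap.ker (N K x ^ (k + j))) ≤
      finrank (ZMod p) (LinearMap.ker (N K x ^ k)) + j
  | 0 => le_rfl
  | j + 1 => by
    set W := LinearMap.ker (N K x ^ (k + (j + 1)))
    set f := (N K x).domRestrict W
    have h1 := f.finrank_range_add_finrank_ker
    have h2 : LinearMap.range f ≤ LinearMap.ker (N K x ^ (k + j)) := by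
      rintro _ ⟨v, rfl⟩
      rw [LinearMap.mem_ker, LinearMap.domRestrict_apply, ← Module.End.mul_apply, ← pow_succ]
      exact LinearMap.mem_ker.1 v.2
    have h3 : finrank (ZMod p) (LinearMap.ker f) ≤ 1 := by
      refine le_trans (le_of_eq (Submodule.finrank_map_subtype_eq W (LinearMap.ker f)).symm)
        (le_trans (Submodule.finrank_mono ?_) (finrank_ker K hX))
      rintro _ ⟨v, hv, rfl⟩
      exact hv
    have h4 := Submodule.finrank_mono h2
    have h5 := finrank_ker_pow_add k j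
    omega

include K in
theorem two_n_le : 2 * n ≤ p - 1 := by
  have h1 := finrank_ker_pow_add K hX 0 p
  rw [Nat.zero_add, N_pow_p K hX, LinearMap.ker_zero, finrank_top, Module.finrank_fin_fun,
    pow_zero, Module.End.one_eq_id, LinearMap.ker_id, finrank_bot, Nat.zero_add] at h1
  obtain ⟨m, hm⟩ := hX.ctx.odd
  omega

theorem N_pow_top : N K x ^ (2 * n) = 0 := by
  have hf : finrank (ZMod p) (Fin (2 * n) → ZMod p) ≤ 2 * n := (Module.finrank_fin_fun _).le
  have h := Module.End.ker_pow_eq_ker_pow_finrank_of_le (f := N K x) (m := p)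
    (by rw [Module.finrank_fin_fun]; have := two_n_le K hX; omega)
  rw [N_pow_p K hX, LinearMap.ker_zero, Module.finrank_fin_fun] at h
  exact LinearMap.ker_eq_top.1 h.symm

theorem ker_pow_rank {k : ℕ} (hk : k ≤ 2 * n) :
    finrank (ZMod p) (LinearMap.ker (N K x ^ k)) = k := by
  refine le_antisymm ?_ ?_
  · have := finrank_ker_pow_add K hX 0 k
    rwa [Nat.zero_add, pow_zero, Module.End.one_eq_id, LinearMap.ker_id, finrank_bot,
      Nat.zero_add] at this
  · have := finrank_ker_pow_add K hX k (2 * n - k)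
    rw [show k + (2 * n - k) = 2 * n by omega, N_pow_top K hX, LinearMap.ker_zero, finrank_top,
      Module.finrank_fin_fun] at this
    omega

theorem ker_eq_range :
    LinearMap.ker (N K x ^ (2 * n - 1)) = LinearMap.range (N K x) := by
  have h2 := hX.ctx.two_le
  refine (Submodule.eq_of_le_of_finrank_eq ?_ ?_).symm
  · rintro _ ⟨v, rfl⟩
    rw [LinearMap.mem_ker, ← Module.End.mul_apply, ← pow_succ,
      show 2 * n - 1 + 1 = 2 * n by omega, N_pow_top K hX, LinearMap.zero_apply]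
  · have h1 := (N K x).finrank_range_add_finrank_ker
    have h3 := ker_pow_rank K hX (k := 1) (by omega)
    rw [pow_one] at h3
    rw [Module.finrank_fin_fun] at h1
    rw [ker_pow_rank K hX (k := 2 * n - 1) (by omega)]
    omega

theorem mem_L {k : ℕ} {a : Ω} : a ∈ L K x k ↔ a ∈ Q ∧ (N K x ^ k) (K.π a) = 0 := Iff.rfl

theorem L_le_Q (k : ℕ) : L K x k ≤ Q := fun _ h => h.1

theorem L_le (k : ℕ) : L K x k ≤ S := fun _ h => hX.ctx.le h.1

theorem L_mono {j k : ℕ} (h : j ≤ k) : L K x j ≤ L K x k := fun a ha => ⟨ha.1, by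
  rw [← Nat.sub_add_cancel h, pow_add, Module.End.mul_apply, ha.2, map_zero]⟩

theorem L_zero : L K x 0 = Subgroup.zpowers z := by
  ext a
  rw [mem_L K hX, pow_zero, Module.End.one_apply]
  exact ⟨fun h => (K.π_eq_zero a h.1).1 h.2,
    fun h => ⟨Subgroup.zpowers_le.2 hX.ctx.z_mem h, pi_z hX.ctx K h⟩⟩

theorem z_le_L (k : ℕ) : Subgroup.zpowers z ≤ L K x k :=
  L_zero K hX ▸ L_mono K hX (Nat.zero_le k)

theorem L_top : L K x (2 * n) = Q :=
  le_antisymm (L_le_Q K hX _) fun a ha => ⟨ha, by rw [N_pow_top K hX, LinearMap.zero_apply]⟩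

theorem L_conj (k : ℕ) {s a : Ω} (hs : s ∈ S) (ha : a ∈ L K x k) : cj s a ∈ L K x k :=
  ⟨hX.ctx.normal s hs a ha.1, by
    rw [K.act_spec s hs a ha.1]; exact act_ker K hX hs k ha.2⟩

theorem card_L {k : ℕ} (hk : k ≤ 2 * n) : Nat.card (L K x k) = p ^ (k + 1) := by
  classical
  have := hX.ctx.finite
  have := finite_of_le (L_le K hX k)
  let f : L K x k →* Multiplicative (LinearMap.ker (N K x ^ k)) :=
    MonoidHom.mk' (fun a => Multiplicative.ofAdd ⟨K.π a, LinearMap.mem_ker.2 a.2.2⟩) fun a b =>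
      congrArg Multiplicative.ofAdd (Subtype.ext (K.π_mul _ a.2.1 _ b.2.1))
  have hf : Function.Surjective f := fun v => by
    obtain ⟨a, ha, hav⟩ := K.π_surj v.toAdd.1
    exact ⟨⟨a, ha, by rw [hav]; exact LinearMap.mem_ker.1 v.toAdd.2⟩,
      congrArg Multiplicative.ofAdd (Subtype.ext hav)⟩
  have hker : f.ker = (Subgroup.zpowers z).subgroupOf (L K x k) := by
    ext a
    rw [MonoidHom.mem_ker, Subgroup.mem_subgroupOf, ← K.π_eq_zero _ a.2.1]
    exact ⟨fun h => congrArg Subtype.val (congrArg Multiplicative.toAdd h),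
      fun h => congrArg Multiplicative.ofAdd (Subtype.ext h)⟩
  have h1 := f.ker.card_mul_index
  rw [Subgroup.index_ker, MonoidHom.range_eq_top.2 hf, Subgroup.card_top, hker,
    Nat.card_congr (Subgroup.subgroupOfEquivOfLe (z_le_L K hX k)).toEquiv, Nat.card_zpowers,
    hX.ctx.z_order, show Nat.card (Multiplicative ↥(LinearMap.ker (N K x ^ k))) =
      Nat.card ↥(LinearMap.ker (N K x ^ k)) from rfl,
    Module.natCard_eq_pow_finrank (K := ZMod p), ker_pow_rank K hX hk, Nat.card_zmod] at h1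
  rw [← h1, pow_succ']

theorem R_le (k : ℕ) : R K x k ≤ S :=
  sup_le (Subgroup.zpowers_le.2 hX.x_mem) (L_le K hX k)

theorem L_le_R (k : ℕ) : L K x k ≤ R K x k := le_sup_right

theorem x_mem_R (k : ℕ) : x ∈ R K x k := Subgroup.mem_sup_left (Subgroup.mem_zpowers x)

theorem R_zero : R K x 0 = Subgroup.zpowers x ⊔ Subgroup.zpowers z := by rw [R, L_zero K hX]

theorem R_mono {j k : ℕ} (h : j ≤ k) : R K x j ≤ R K x k := sup_le_sup le_rfl (L_mono K hX h)

theorem mem_R {k : ℕ} {a : Ω} (ha : a ∈ R K x k) : ∃ i : ℕ, (x ^ i)⁻¹ * a ∈ L K x k := by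
  have := hX.ctx.finite
  have hle : Subgroup.zpowers x ≤ Subgroup.normalizer (L K x k : Set Ω) :=
    Subgroup.zpowers_le.2 (mem_normalizerIn.1
      ((OrderFive.normalizerIn_eq_of_conj fun g hg y hy => L_conj K hX k hg hy).ge hX.x_mem)).2
  rw [R, ← SetLike.mem_coe, Subgroup.coe_mul_of_left_le_normalizer_right _ _ hle] at ha
  obtain ⟨u, hu, l, hl, rfl⟩ := ha
  have hfin : IsOfFinOrder x :=
    isOfFinOrder_iff_pow_eq_one.2 ⟨p, hp.1.pos, hX.x_pow⟩
  obtain ⟨i, rfl⟩ := hfin.mem_powers_iff_mem_zpowers.2 hu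
  exact ⟨i, by rwa [inv_mul_cancel_left]⟩

theorem R_inf (k : ℕ) {a : Ω} (ha : a ∈ R K x k) (haQ : a ∈ Q) : a ∈ L K x k := by
  obtain ⟨i, hi⟩ := mem_R K hX ha
  have hxi : x ^ i ∈ Q := by
    have := Q.mul_mem haQ (Q.inv_mem (L_le_Q K hX k hi))
    rwa [mul_inv_rev, inv_inv, mul_inv_cancel_left] at this
  have hpi : p ∣ i := by
    by_contra hpi
    obtain ⟨j, -, hj⟩ := Nat.exists_mul_mod_eq_one_of_coprime
      (hp.1.coprime_iff_not_dvd.2 hpi).symm hp.1.one_lt
    apply hX.x_not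
    have := Q.pow_mem hxi j
    rwa [← pow_mul, pow_eq_pow_mod _ hX.x_pow, hj, pow_one] at this
  obtain ⟨d, rfl⟩ := hpi
  rwa [pow_mul, hX.x_pow, one_pow, inv_one, one_mul] at hi

theorem card_R {k : ℕ} (hk : k ≤ 2 * n) : Nat.card (R K x k) = p ^ (k + 2) := by
  have := hX.ctx.finite
  refine le_antisymm ?_ ?_
  · refine (card_le_inf hX.ctx (R_le K hX k)).trans ?_
    rw [pow_succ' p (k + 1), ← card_L K hX hk]
    have := finite_of_le (L_le K hX k)
    exact Nat.mul_le_mul_left _ (Subgroup.card_le_of_le fun a ha => R_inf K hX k ha.1 ha.2)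
  · refine MaxClassSmall.pow_succ_le (R_le K hX k) hX.ctx.group (card_L K hX hk ▸ ?_)
    exact card_lt_of_lt (R_le K hX k) (lt_of_le_of_ne (L_le_R K hX k) fun e =>
      hX.x_not (L_le_Q K hX k (e.symm ▸ x_mem_R K hX k)))

theorem R_top : R K x (2 * n) = S := by
  have := hX.ctx.finite
  exact eq_of_le_of_card le_rfl (R_le K hX _) (by rw [card_R K hX le_rfl, hX.ctx.card_S])

end CfsgLib.ExtraIndexP.PearlCase
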