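import Mathlib
import Cfsg.Agent.Lib.ExtraIndexP.PearlSpace

/-!
# The pearl case of S5177: extending a torus along the chain
-/

set_option autoImplicit false
set_option linter.unusedSectionVars false

open Cfsg Cfsg.FusionSystem CfsgLib.Fusion Module
open scoped commutatorElement

namespace CfsgLib.ExtraIndexP.PearlCase

universe u

variable {Ω : Type u} [Group Ω] {p n : ℕ} {S Q : Subgroup Ω} {F : FusionSystem S} {z x : Ω}
  [hp : Fact p.Prime] (K : Coords p n S Q z) (hX : Hyp p n S Q F z x)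
include hX

theorem N_preimage {y : Ω} (hy : y ∈ S) (hyQ : y ∉ Q) {v : Fin (2 * n) → ZMod p}
    {U : Submodule (ZMod p) (Fin (2 * n) → ZMod p)} (hU : ∀ u ∈ U, K.act y u ∈ U)
    (hv : K.act y v - v ∈ U) : N K x v ∈ U := by
  have hinv := fun s (hs : s ∈ S) => invariant_of_one hX.ctx K hy hyQ hU hs
  let H : Subgroup Ω :=
    { carrier := {g | g ∈ S ∧ K.act g v - v ∈ U}
      one_mem' := ⟨S.one_mem, by simp [act_one' K]⟩
      mul_mem' := by
        rintro a b ⟨ha, ha'⟩ ⟨hb, hb'⟩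
        refine ⟨S.mul_mem ha hb, ?_⟩
        have := U.add_mem (hinv a ha _ hb') ha'
        rwa [map_sub, ← Module.End.mul_apply, ← K.act_mul a ha b hb, sub_add_sub_cancel] at this
      inv_mem' := by
        rintro a ⟨ha, ha'⟩
        refine ⟨S.inv_mem ha, ?_⟩
        have := U.neg_mem (hinv _ (S.inv_mem ha) _ ha')
        rwa [map_sub, ← Module.End.mul_apply, act_inv_mul K ha, Module.End.one_apply, neg_sub]
          at this }
  exact (le_of_gen hX.ctx (H := H) (fun g hg => hg.1)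
    (fun q hq => ⟨hX.ctx.le hq, by simp [K.act_Q q hq]⟩) (show y ∈ H from ⟨hy, hv⟩) hyQ
    hX.x_mem).2

theorem card_norm_le {k : ℕ} (hk : k + 1 ≤ 2 * n) {A : Subgroup Ω} (hA : A ≤ S) {y : Ω}
    (hy : y ∈ A) (hyQ : y ∉ Q) (hinf : ∀ a ∈ A, a ∈ Q → a ∈ L K x k) :
    Nat.card (normalizerIn S A) ≤ p ^ (k + 3) := by
  have := hX.ctx.finite
  refine (card_le_inf hX.ctx normalizerIn_le).trans ?_
  rw [pow_succ' p (k + 2), ← card_L K hX hk]
  have := finite_of_le (L_le K hX (k + 1))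
  refine Nat.mul_le_mul_left _ (Subgroup.card_le_of_le ?_)
  rintro q ⟨hq, hqQ⟩
  refine ⟨hqQ, ?_⟩
  have h1 : ⁅y, q⁆ ∈ A := by
    rw [show ⁅y, q⁆ = y * cj q y⁻¹ by simp [commutatorElement_def, cj_apply, mul_assoc]]
    exact A.mul_mem hy (OrderFive.cj_mem_normalizerIn hq (A.inv_mem hy))
  have h2 := hinf _ h1 (comm_mem hX.ctx (hA hy) hqQ)
  have h3 := N_preimage K hX (hA hy) hyQ (U := LinearMap.ker (N K x ^ k))
    (fun u hu => LinearMap.mem_ker.2 (act_ker K hX (hA hy) k (LinearMap.mem_ker.1 hu)))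
    (v := K.π q) (by rw [← pi_comm hX.ctx K (hA hy) hqQ]; exact LinearMap.mem_ker.2 h2.2)
  rw [pow_succ, Module.End.mul_apply]
  exact LinearMap.mem_ker.1 h3

theorem normalizer_R {k : ℕ} (hk : k + 1 ≤ 2 * n) :
    normalizerIn S (R K x k) = R K x (k + 1) := by
  have := hX.ctx.finite
  refine (eq_of_le_of_card normalizerIn_le ?_ ?_).symm
  · refine sup_le (Subgroup.zpowers_le.2 (le_normalizerIn (R_le K hX k) (x_mem_R K hX k)))
      fun q hq => MaxClassSmall.mem_norm (R_le K hX k) (L_le K hX _ hq) ?_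
    have hxq : ⁅q, x⁆ ∈ R K x k := by
      refine L_le_R K hX k ?_
      rw [← commutatorElement_inv]
      refine Subgroup.inv_mem _ ⟨comm_mem hX.ctx hX.x_mem hq.1, ?_⟩
      rw [pi_comm hX.ctx K hX.x_mem hq.1, ← N_apply, ← Module.End.mul_apply, ← pow_succ]
      exact hq.2
    have hqS := L_le K hX _ hq
    let H : Subgroup Ω :=
      { carrier := {y | y ∈ R K x k ∧ cj q y ∈ R K x k}
        one_mem' := ⟨Subgroup.one_mem _, by rw [cj_apply, mul_one, mul_inv_cancel]
                                            exact Subgroup.one_mem _⟩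
        mul_mem' := fun {a b} ha hb => ⟨Subgroup.mul_mem _ ha.1 hb.1, by
          rw [cj_map_mul]; exact Subgroup.mul_mem _ ha.2 hb.2⟩
        inv_mem' := fun {a} ha => ⟨Subgroup.inv_mem _ ha.1, by
          rw [show cj q a⁻¹ = (cj q a)⁻¹ from map_inv (MulAut.conj q) a]
          exact Subgroup.inv_mem _ ha.2⟩ }
    have hle : R K x k ≤ H := sup_le (Subgroup.zpowers_le.2 (show x ∈ H from ⟨x_mem_R K hX k, by
        rw [show cj q x = ⁅q, x⁆ * x by rw [commutatorElement_def, cj_apply]; group]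
        exact Subgroup.mul_mem _ hxq (x_mem_R K hX k)⟩))
      fun a ha => ⟨L_le_R K hX k ha, L_le_R K hX k (L_conj K hX k hqS ha)⟩
    intro y hy
    rw [show ⁅q, y⁆ = cj q y * y⁻¹ from rfl]
    exact Subgroup.mul_mem _ (hle hy).2 (Subgroup.inv_mem _ hy)
  · rw [card_R K hX hk]
    exact card_norm_le K hX hk (R_le K hX k) (x_mem_R K hX k) hX.x_not
      fun a ha haQ => R_inf K hX k ha haQ

include K in
theorem no_in_Q {f : Ω → Ω} (hf : IsMor F (Subgroup.zpowers x ⊔ Subgroup.zpowers z) f)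
    (h : img (Subgroup.zpowers x ⊔ Subgroup.zpowers z) f ≤ Q) : False := by
  have hC := hX.ctx
  have := hC.finite
  set E' := img (Subgroup.zpowers x ⊔ Subgroup.zpowers z) f
  have hzE : z ∈ E' := hX.ess.1.2 _ (isConj_img hf) ⟨z_memS hC,
    Subgroup.mem_centralizer_iff.2 fun a ha => hC.z_comm a (hf.img_le ha)⟩
  have hQN : Q ≤ normalizerIn S E' := fun q hq =>
    MaxClassSmall.mem_norm hf.img_le (hC.le hq) fun y hy => by
      rw [K.comm q hq y (h hy)]
      exact Subgroup.zpowers_le.2 hzE (zp_mem _)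
  have h1 := hX.ess.2.1.2 E' (isConj_img hf)
  have hk : 0 + 1 ≤ 2 * n := by have := hC.two_le; omega
  rw [← R_zero K hX, normalizer_R K hX hk, card_R K hX hk] at h1
  have := finite_of_le (normalizerIn_le (S := S) (P := E'))
  have h2 := (Subgroup.card_le_of_le hQN).trans h1
  rw [hC.card_Q, Nat.pow_le_pow_iff_right hp.1.one_lt] at h2
  have := hC.two_le
  omega

theorem fullyNormalized_R {k : ℕ} (hk : k + 1 ≤ 2 * n) : F.IsFullyNormalized (R K x k) := by
  have hC := hX.ctx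
  have := hC.finite
  refine ⟨R_le K hX k, fun A hA => ?_⟩
  rw [normalizer_R K hX hk, card_R K hX hk]
  obtain ⟨f, hf, rfl⟩ := isConj_iff.1 hA
  set A := img (R K x k) f
  have hAS : A ≤ S := hf.img_le
  have hER : Subgroup.zpowers x ⊔ Subgroup.zpowers z ≤ R K x k :=
    R_zero K hX ▸ R_mono K hX (Nat.zero_le k)
  have hfE := hf.restrict hER
  obtain ⟨y, hy, hyQ⟩ : ∃ y ∈ A, y ∉ Q := by
    by_contra! h
    exact no_in_Q K hX hfE ((img_mono f hER).trans h)
  have hzA : z ∈ A := img_mono f hER (hX.ess.1.2 _ (isConj_img hfE) ⟨z_memS hC,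
    Subgroup.mem_centralizer_iff.2 fun a ha => hC.z_comm a (hfE.img_le ha)⟩)
  refine card_norm_le K hX hk hAS hy hyQ ?_
  -- the image of `A ⊓ Q` is invariant, hence killed by `N ^ k`
  let U₀ : AddSubgroup (Fin (2 * n) → ZMod p) :=
    { carrier := {v | ∃ a ∈ A, a ∈ Q ∧ K.π a = v}
      zero_mem' := ⟨1, A.one_mem, Q.one_mem, pi_one K⟩
      add_mem' := by
        rintro _ _ ⟨a, ha, haQ, rfl⟩ ⟨b, hb, hbQ, rfl⟩
        exact ⟨a * b, A.mul_mem ha hb, Q.mul_mem haQ hbQ, K.π_mul a haQ b hbQ⟩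
      neg_mem' := by
        rintro _ ⟨a, ha, haQ, rfl⟩
        exact ⟨a⁻¹, A.inv_mem ha, Q.inv_mem haQ, pi_inv K haQ⟩ }
  set U : Submodule (ZMod p) (Fin (2 * n) → ZMod p) := AddSubgroup.toZModSubmodule p U₀
  have hUmem : ∀ {v}, v ∈ U ↔ ∃ a ∈ A, a ∈ Q ∧ K.π a = v := Iff.rfl
  have hUy : ∀ u ∈ U, K.act y u ∈ U := by
    rintro _ ⟨a, ha, haQ, rfl⟩
    exact ⟨cj y a, A.mul_mem (A.mul_mem hy ha) (A.inv_mem hy), hC.normal y (hAS hy) a haQ,
      K.act_spec y (hAS hy) a haQ⟩
  have hUN : ∀ u ∈ U, N K x u ∈ U := fun u hu =>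
    U.sub_mem (invariant_of_one hC K (hAS hy) hyQ hUy hX.x_mem u hu) hu
  have hUk : finrank (ZMod p) U ≤ k := by
    have hlt : A ⊓ Q < A := lt_of_le_of_ne inf_le_left fun e => hyQ (e.ge hy).2
    have hcA : Nat.card A = p ^ (k + 2) := hf.card_img.trans (card_R K hX (by omega))
    have h1 : Nat.card ↥(A ⊓ Q) ≤ p ^ (k + 1) := by
      by_contra! h
      have := MaxClassSmall.pow_succ_le (inf_le_left.trans hAS) hC.group h
      have := card_lt_of_lt hAS hlt
      rw [hcA] at this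
      exact absurd this (not_lt.2 ‹p ^ (k + 1 + 1) ≤ _›)
    have := finite_of_le (inf_le_left.trans hAS : A ⊓ Q ≤ S)
    let g : ↥(A ⊓ Q) →* Multiplicative U :=
      MonoidHom.mk' (fun a => Multiplicative.ofAdd ⟨K.π a, a, a.2.1, a.2.2, rfl⟩) fun a b =>
        congrArg Multiplicative.ofAdd (Subtype.ext (K.π_mul _ a.2.2 _ b.2.2))
    have hg : Function.Surjective g := fun v => by
      obtain ⟨a, ha, haQ, hav⟩ := hUmem.1 v.toAdd.2
      exact ⟨⟨a, ha, haQ⟩, congrArg Multiplicative.ofAdd (Subtype.ext hav)⟩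
    have hker : Subgroup.zpowers (⟨z, hzA, hC.z_mem⟩ : ↥(A ⊓ Q)) ≤ g.ker :=
      Subgroup.zpowers_le.2 (congrArg Multiplicative.ofAdd
        (Subtype.ext (pi_z hC K (Subgroup.mem_zpowers z))))
    have h2 := Subgroup.card_le_of_le hker
    rw [Nat.card_zpowers, ← Subgroup.orderOf_coe, hC.z_order] at h2
    have h3 := g.ker.card_mul_index
    rw [Subgroup.index_ker, MonoidHom.range_eq_top.2 hg, Subgroup.card_top,
      show Nat.card (Multiplicative ↥U) = Nat.card ↥U from rfl,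
      Module.natCard_eq_pow_finrank (K := ZMod p) (V := ↥U), Nat.card_zmod] at h3
    have h4 : p * p ^ finrank (ZMod p) U ≤ p ^ (k + 1) :=
      (Nat.mul_le_mul_right _ h2).trans (h3.le.trans h1)
    rw [← pow_succ'] at h4
    have := (Nat.pow_le_pow_iff_right hp.1.one_lt).1 h4
    omega
  intro a ha haQ
  refine ⟨haQ, ?_⟩
  set g := (N K x).restrict hUN with hg
  have hgp : ∀ (i : ℕ) (u : U), ((g ^ i) u : Fin (2 * n) → ZMod p) = (N K x ^ i) u := by
    intro i
    induction i with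
    | zero => intro u; rfl
    | succ i ih =>
      intro u
      rw [pow_succ', pow_succ', Module.End.mul_apply, Module.End.mul_apply, ← ih u]
      rfl
  have h5 : ∀ m, finrank (ZMod p) U ≤ m → LinearMap.ker (g ^ m) =
      LinearMap.ker (g ^ finrank (ZMod p) U) := fun m hm =>
    Module.End.ker_pow_eq_ker_pow_finrank_of_le hm
  have hk2 : k ≤ p := by have := two_n_le K hX; omega
  have h6 : g ^ p = 0 := LinearMap.ext fun u => Subtype.ext (by
    rw [hgp, N_pow_p K hX, LinearMap.zero_apply, LinearMap.zero_apply]; rfl)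
  have h7 : LinearMap.ker (g ^ k) = ⊤ := by
    rw [h5 k hUk, ← h5 p (hUk.trans hk2), h6, LinearMap.ker_zero]
  have h8 := hgp k ⟨K.π a, hUmem.2 ⟨a, ha, haQ, rfl⟩⟩
  rw [LinearMap.ker_eq_top.1 h7, LinearMap.zero_apply] at h8
  exact h8.symm

theorem range_N_ge {y : Ω} (hy : y ∈ S) (hyQ : y ∉ Q) :
    LinearMap.range (N K x) ≤ LinearMap.range (K.act y - 1) :=
  range_le hX.ctx K hy hyQ hX.x_mem

/-- One step: a map of `R k` preserving the chain extends to `R (k + 1)` preserving it. -/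
theorem step {k : ℕ} (hk : k + 1 ≤ 2 * n) {f : Ω → Ω} (hf : IsMor F (R K x k) f)
    (hfR : ∀ y ∈ R K x k, f y ∈ R K x k) (hfL : ∀ j ≤ k, ∀ y ∈ L K x j, f y ∈ L K x j) :
    ∃ ψ : Ω → Ω, IsMor F (R K x (k + 1)) ψ ∧ (∀ y ∈ R K x (k + 1), ψ y ∈ R K x (k + 1)) ∧
      (∀ y ∈ R K x k, ψ y = f y) ∧ ∀ j ≤ k + 1, ∀ y ∈ L K x j, ψ y ∈ L K x j := by
  classical
  have hC := hX.ctx
  have := hC.finite
  let W : ℕ → Subgroup Ω := fun i =>
    if i = 0 then ⊥ else if i ≤ k + 1 then L K x (i - 1) else R K x k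
  obtain ⟨ψ, hψ, hψe, hψN⟩ := OrderFive.extend_series hC.group hC.sat (fullyNormalized_R K hX hk)
    (n := k + 2) W (by simp [W]) (by simp [W])
    (fun i hi => by
      rcases (show i = 0 ∨ (1 ≤ i ∧ i ≤ k) ∨ i = k + 1 by omega) with rfl | ⟨h1, h2⟩ | rfl
      · simp [W, card_L K hX (show 0 ≤ 2 * n by omega)]
      · have e1 : i + 1 ≤ k + 1 := by omega
        simp only [W, show i ≠ 0 by omega, if_false, show i + 1 ≠ 0 by omega, e1,
          show i ≤ k + 1 by omega, if_true, Nat.add_sub_cancel]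
        refine ⟨L_mono K hX (by omega), ?_⟩
        rw [card_L K hX (by omega), card_L K hX (by omega), ← pow_succ']
        exact Nat.pow_le_pow_right hp.1.pos (by omega)
      · simp only [W, show k + 1 ≠ 0 by omega, if_false, le_refl, if_true,
          show k + 1 + 1 ≠ 0 by omega, show ¬ k + 1 + 1 ≤ k + 1 by omega, Nat.add_sub_cancel]
        refine ⟨L_le_R K hX k, ?_⟩
        rw [card_L K hX (by omega), card_R K hX (by omega), ← pow_succ'])
    (fun g hg i hi y hy => by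
      by_cases h0 : i = 0
      · simp only [W, h0, if_true, Subgroup.mem_bot] at hy ⊢
        rw [hy, cj_apply, mul_one, mul_inv_cancel]
      · simp only [W, h0, if_false, show i ≤ k + 1 by omega, if_true] at hy ⊢
        exact L_conj K hX _ (normalizerIn_le hg) hy)
    hf hfR
    (fun i hi y hy => by
      by_cases h0 : i = 0
      · simp only [W, h0, if_true, Subgroup.mem_bot] at hy ⊢
        rw [hy, hf.map_one]
      · simp only [W, h0, if_false, show i ≤ k + 1 by omega, if_true] at hy ⊢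
        exact hfL _ (by omega) y hy)
  rw [normalizer_R K hX hk] at hψ hψN
  have hψL : ∀ j ≤ k, ∀ y ∈ L K x j, ψ y ∈ L K x j := fun j hj y hy => by
    rw [hψe y (L_le_R K hX k (L_mono K hX hj hy))]
    exact hfL j hj y hy
  refine ⟨ψ, hψ, hψN, hψe, fun j hj => ?_⟩
  rcases Nat.lt_or_ge j (k + 1) with h | h
  · exact hψL j (by omega)
  obtain rfl : j = k + 1 := le_antisymm hj h
  intro a ha
  refine R_inf K hX _ (hψN a (L_le_R K hX _ ha)) ?_
  by_contra hyQ
  set y := ψ a with hy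
  have hyR : y ∈ R K x (k + 1) := hψN a (L_le_R K hX _ ha)
  have hyS : y ∈ S := R_le K hX _ hyR
  have hLr : IsMor F (L K x k) ψ := hψ.restrict ((L_le_R K hX k).trans (R_mono K hX (by omega)))
  have hLi : img (L K x k) ψ = L K x k := hLr.img_eq_self (hψL k le_rfl)
  have haL : a ∉ L K x k := fun h => hyQ (L_le_Q K hX k (hψL k le_rfl a h))
  rcases Nat.lt_or_ge (k + 1) (2 * n) with hlt | hge
  · -- `ψ (L (k + 1))` is conjugate to `R k`
    obtain ⟨i, hi⟩ := mem_R K hX hyR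
    set b := y * (x ^ i)⁻¹ with hb
    have hbL : b ∈ L K x (k + 1) := by
      have := L_conj K hX (k + 1) (S.pow_mem hX.x_mem i) hi
      rwa [cj_apply, mul_inv_cancel_left] at this
    have hbr : K.π b ∈ LinearMap.range (N K x) := by
      rw [← ker_eq_range K hX, LinearMap.mem_ker]
      exact (L_mono K hX (show k + 1 ≤ 2 * n - 1 by omega) hbL).2
    obtain ⟨v, hv⟩ := range_N_ge K hX hyS hyQ hbr
    obtain ⟨q, hq, rfl⟩ := K.π_surj v
    have hqS := hC.le hq
    have hqy : ⁅q, y⁆ * b ∈ L K x 0 := by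
      have h1 : ⁅q, y⁆ ∈ Q := by
        rw [← commutatorElement_inv]; exact Q.inv_mem (comm_mem hC hyS hq)
      refine ⟨Q.mul_mem h1 hbL.1, ?_⟩
      rw [pow_zero, Module.End.one_apply, K.π_mul _ h1 _ hbL.1, ← commutatorElement_inv,
        pi_inv K (comm_mem hC hyS hq), pi_comm hC K hyS hq, ← hv]
      simp
    have hcy : cj q y ∈ R K x k := by
      rw [show cj q y = ⁅q, y⁆ * b * x ^ i by
        simp [hb, cj_apply, commutatorElement_def, mul_assoc]]
      exact Subgroup.mul_mem _ (L_le_R K hX k (L_mono K hX (Nat.zero_le k) hqy))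
        (Subgroup.pow_mem _ (x_mem_R K hX k) i)
    have hg : IsMor F (L K x (k + 1)) (cj q ∘ ψ) :=
      (hψ.restrict (L_le_R K hX _)).comp (isMor_cj F le_rfl hqS)
        fun u hu => R_le K hX _ (hψN u (L_le_R K hX _ hu))
    have hgR : ∀ u ∈ L K x (k + 1), (cj q ∘ ψ) u ∈ R K x k := by
      intro u hu
      obtain ⟨j', hj'⟩ := OrderFive.mem_step hC.group (L_le K hX _) (L_mono K hX (by omega))
        (le_of_eq (by rw [card_L K hX (by omega), card_L K hX (by omega), ← pow_succ'])) ha haL hu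
      rw [← mul_inv_cancel_left (a ^ j') u, Function.comp_apply,
        hψ.map_mul (Subgroup.pow_mem _ (L_le_R K hX _ ha) j')
          (R_mono K hX (by omega) (L_le_R K hX k hj')),
        hψ.map_pow (L_le_R K hX _ ha), cj_map_mul,
        show cj q (ψ a ^ j') = cj q (ψ a) ^ j' from map_pow (MulAut.conj q) _ j']
      exact Subgroup.mul_mem _ (Subgroup.pow_mem _ hcy j')
        (L_le_R K hX k (L_conj K hX k hqS (hψL k le_rfl _ hj')))
    have himg : img (L K x (k + 1)) (cj q ∘ ψ) = R K x k :=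
      eq_of_le_of_card (R_le K hX k) (img_le hgR)
        (by rw [hg.card_img, card_L K hX hk, card_R K hX (by omega)])
    obtain ⟨h', hh', -, -, himg'⟩ := hg.inverse
    rw [himg] at hh' himg'
    have hER : Subgroup.zpowers x ⊔ Subgroup.zpowers z ≤ R K x k :=
      R_zero K hX ▸ R_mono K hX (Nat.zero_le k)
    exact no_in_Q K hX (hh'.restrict hER)
      ((img_mono h' hER).trans (himg'.le.trans (L_le_Q K hX _)))
  · -- the last step: commutators of `ψ Q` lie in the centre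
    have hk' : k = 2 * n - 1 := by omega
    have h2 := hC.two_le
    obtain ⟨v, hvk, hv1⟩ : ∃ v, (N K x ^ k) v = 0 ∧ N K x v ≠ 0 := by
      by_contra! h
      have := Submodule.finrank_mono (s := LinearMap.ker (N K x ^ k))
        (t := LinearMap.ker (N K x)) fun v hv => LinearMap.mem_ker.2 (h v (LinearMap.mem_ker.1 hv))
      rw [ker_pow_rank K hX (by omega)] at this
      have := finrank_ker K hX
      omega
    obtain ⟨l, hl, rfl⟩ := K.π_surj v
    have hlL : l ∈ L K x k := ⟨hl, hvk⟩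
    obtain ⟨l', hl', hll⟩ := hLr.mem_img.1 (hLi.ge hlL)
    have haR := L_le_R K hX (k + 1) ha
    have hlR : l' ∈ R K x (k + 1) := R_mono K hX (by omega) (L_le_R K hX k hl')
    have hcomm : ⁅y, l⁆ ∈ L K x 0 := by
      have e : ψ ⁅a, l'⁆ = ⁅ψ a, ψ l'⁆ := by
        rw [commutatorElement_def, commutatorElement_def,
          hψ.map_mul (mul_mem (mul_mem haR hlR) (inv_mem haR)) (inv_mem hlR),
          hψ.map_mul (mul_mem haR hlR) (inv_mem haR), hψ.map_mul haR hlR, hψ.map_inv haR,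
          hψ.map_inv hlR]
      rw [← hy, hll] at e
      rw [← e]
      refine hψL 0 (Nat.zero_le k) _ ?_
      rw [L_zero K hX, K.comm a ha.1 l' hl'.1]
      exact zp_mem _
    have h0 : K.act y (K.π l) - K.π l = 0 := by
      rw [← pi_comm hC K hyS hl]
      simpa using hcomm.2
    exact hv1 (Submodule.mem_bot _ |>.1 (N_preimage K hX hyS hyQ (U := ⊥)
      (fun u hu => by simp [(Submodule.mem_bot _).1 hu]) (by simpa using h0)))

/-- A map of the pearl preserving the centre extends to `S`. -/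
theorem extend {f : Ω → Ω} (hf : IsMor F (R K x 0) f) (hfR : ∀ y ∈ R K x 0, f y ∈ R K x 0)
    (hfZ : ∀ y ∈ L K x 0, f y ∈ L K x 0) :
    ∃ ψ : Ω → Ω, IsMor F S ψ ∧ (∀ y ∈ R K x 0, ψ y = f y) ∧ (∀ a ∈ Q, ψ a ∈ Q) ∧
      ∀ j ≤ 2 * n, ∀ y ∈ L K x j, ψ y ∈ L K x j := by
  suffices h : ∀ k ≤ 2 * n, ∃ ψ : Ω → Ω, IsMor F (R K x k) ψ ∧
      (∀ y ∈ R K x k, ψ y ∈ R K x k) ∧ (∀ y ∈ R K x 0, ψ y = f y) ∧
      ∀ j ≤ k, ∀ y ∈ L K x j, ψ y ∈ L K x j by
    obtain ⟨ψ, h1, -, h3, h4⟩ := h _ le_rfl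
    rw [R_top K hX] at h1
    exact ⟨ψ, h1, h3, fun a ha =>
      L_le_Q K hX _ (h4 _ le_rfl a ((L_top K hX).ge ha)), h4⟩
  intro k
  induction k with
  | zero => exact fun _ => ⟨f, hf, hfR, fun _ _ => rfl, fun j hj => by
      obtain rfl : j = 0 := by omega
      exact hfZ⟩
  | succ k ih =>
    intro hk
    obtain ⟨ψ, h1, h2, h3, h4⟩ := ih (by omega)
    obtain ⟨φ, g1, g2, g3, g4⟩ := step K hX hk h1 h2 h4
    exact ⟨φ, g1, g2, fun y hy => (g3 y (R_mono K hX (Nat.zero_le k) hy)).trans (h3 y hy), g4⟩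

end CfsgLib.ExtraIndexP.PearlCase
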