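import Mathlib
import Cfsg.Agent.S5238
import Cfsg.Agent.Lib.ExtraIndexP.PearlExtend
import Cfsg.Agent.Lib.PLocal.RegularTheory
import Cfsg.Agent.Lib.Fusion.OrderFiveFrame

/-!
# The pearl case of S5177
-/

set_option autoImplicit false
set_option linter.unusedSectionVars false

open Cfsg Cfsg.FusionSystem CfsgLib.Fusion Module
open scoped commutatorElement

namespace CfsgLib.ExtraIndexP.PearlCase

universe u

variable {Ω : Type u} [Group Ω] {p n : ℕ} {S Q : Subgroup Ω} {F : FusionSystem S} {z x : Ω}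
  [hp : Fact p.Prime] (K : Coords p n S Q z) (hX : Hyp p n S Q F z x)
include K hX

theorem N_top_ne : ∃ w, (N K x ^ (2 * n - 1)) w ≠ 0 := by
  by_contra! h
  have hC := hX.ctx
  have := ker_pow_rank K hX (k := 2 * n - 1) (by omega)
  rw [LinearMap.ker_eq_top.2 (LinearMap.ext h), finrank_top, Module.finrank_fin_fun] at this
  have := hC.two_le
  omega

theorem span_top {w : Fin (2 * n) → ZMod p} (hw : (N K x ^ (2 * n - 1)) w ≠ 0)
    (v : Fin (2 * n) → ZMod p) : ∃ (c : ZMod p) (u : Fin (2 * n) → ZMod p),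
      v = c • w + N K x u := by
  have h2 := hX.ctx.two_le
  have hlt : LinearMap.range (N K x) <
      LinearMap.range (N K x) ⊔ Submodule.span (ZMod p) {w} := by
    refine lt_of_le_of_ne le_sup_left fun e => hw (LinearMap.mem_ker.1 ?_)
    rw [ker_eq_range K hX, e]
    exact Submodule.mem_sup_right (Submodule.mem_span_singleton_self w)
  have h3 := Submodule.finrank_lt_finrank_of_lt hlt
  rw [← ker_eq_range K hX, ker_pow_rank K hX (by omega)] at h3
  have htop : LinearMap.range (N K x) ⊔ Submodule.span (ZMod p) {w} = ⊤ := by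
    refine Submodule.eq_top_of_finrank_eq ?_
    have h4 := Submodule.finrank_le (LinearMap.range (N K x) ⊔ Submodule.span (ZMod p) {w})
    rw [← ker_eq_range K hX] at h4 ⊢
    rw [Module.finrank_fin_fun] at h4 ⊢
    omega
  obtain ⟨r, hr, s, hs, rfl⟩ := Submodule.mem_sup.1 (htop.ge (Submodule.mem_top (x := v)))
  obtain ⟨c, rfl⟩ := Submodule.mem_span_singleton.1 hs
  obtain ⟨u, rfl⟩ := hr
  exact ⟨c, u, add_comm _ _⟩

theorem θ_N (v : Fin (2 * n) → ZMod p) : K.θ (N K x v) = 0 := by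
  rw [N_apply, map_sub, K.θ_act x hX.x_mem, sub_self]

theorem B_ker_range {e : Fin (2 * n) → ZMod p} (he : N K x e = 0) (u : Fin (2 * n) → ZMod p) :
    K.B e (N K x u) = 0 := by
  rw [N_apply, sub_eq_zero] at he
  rw [N_apply, map_sub, sub_eq_zero]
  conv_lhs => rw [← he]
  rw [K.isometry x hX.x_mem]

theorem x_comm_ker {a : Ω} (ha : a ∈ Q) (hN : N K x (K.π a) = 0) (hne : K.π a ≠ 0) :
    ∃ ε : ZMod p, ε ≠ 0 ∧ ⁅x, a⁆ = zp z ε := by
  have hC := hX.ctx
  obtain ⟨ε, hε⟩ := exists_zp hC ((K.π_eq_zero _ (comm_mem hC hX.x_mem ha)).1 (by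
    rw [pi_comm hC K hX.x_mem ha, ← N_apply, hN]))
  refine ⟨ε, fun h => hne ((K.π_eq_zero a ha).2 (hX.cent a ha ?_)), hε⟩
  rw [h, zp_zero, commutatorElement_eq_one_iff_mul_comm] at hε
  exact hε.symm

/-- The weights of a torus element on `S`. -/
theorem weights {t : ZMod p} (ht : t ≠ 0) {ψ : Ω → Ω} (hψ : IsMor F S ψ)
    (hQ : ∀ a ∈ Q, ψ a ∈ Q) (hz : ψ z = z ^ t.val) (hx : ψ x = x ^ t⁻¹.val) :
    t ^ (2 * n + 2) = 1 ∧ ((∀ a ∈ Q, a ^ p = 1) ∨ t ^ (2 * n) = 1) := by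
  classical
  have hC := hX.ctx
  have h2 := hC.two_le
  have hQS := hC.le
  set m := t⁻¹.val with hm
  have hmt : (m : ZMod p) = t⁻¹ := ZMod.natCast_zmod_val _
  -- the action on the centre
  have hzp : ∀ i : ZMod p, ψ (zp z i) = zp z (t * i) := fun i => by
    show ψ (z ^ i.val) = _
    rw [hψ.map_pow (z_memS hC), hz, ← pow_mul, zp_nat hC, Nat.cast_mul, ZMod.natCast_zmod_val,
      ZMod.natCast_zmod_val]
  -- the induced linear map
  choose rep hrep hrepπ using K.π_surj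
  have hH : ∀ a ∈ Q, K.π (ψ a) = K.π (ψ (rep (K.π a))) := by
    intro a ha
    have h0 : K.π ((rep (K.π a))⁻¹ * a) = 0 := by
      rw [K.π_mul _ (Q.inv_mem (hrep _)) _ ha, pi_inv K (hrep _), hrepπ, neg_add_cancel]
    obtain ⟨i, hi⟩ := exists_zp hC
      ((K.π_eq_zero _ (Q.mul_mem (Q.inv_mem (hrep _)) ha)).1 h0)
    rw [inv_mul_eq_iff_eq_mul] at hi
    conv_lhs => rw [hi]
    rw [hψ.map_mul (hQS (hrep _)) (Subgroup.zpowers_le.2 (z_memS hC) (zp_mem i)), hzp,
      K.π_mul _ (hQ _ (hrep _)) _ (Subgroup.zpowers_le.2 hC.z_mem (zp_mem _)), pi_z hC K (zp_mem _), add_zero]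
  let H₀ : (Fin (2 * n) → ZMod p) →+ (Fin (2 * n) → ZMod p) :=
    AddMonoidHom.mk' (fun v => K.π (ψ (rep v))) fun v w => by
      have := hH (rep v * rep w) (Q.mul_mem (hrep v) (hrep w))
      rw [K.π_mul _ (hrep v) _ (hrep w), hrepπ, hrepπ] at this
      rw [← this, hψ.map_mul (hQS (hrep v)) (hQS (hrep w)),
        K.π_mul _ (hQ _ (hrep v)) _ (hQ _ (hrep w))]
  set H : Module.End (ZMod p) (Fin (2 * n) → ZMod p) := H₀.toZModLinearMap p with hHdef
  have hHπ : ∀ a ∈ Q, K.π (ψ a) = H (K.π a) := hH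
  -- the form, the power map and the action
  have hB : ∀ v w, K.B (H v) (H w) = t * K.B v w := by
    intro v w
    obtain ⟨a, ha, rfl⟩ := K.π_surj v
    obtain ⟨b, hb, rfl⟩ := K.π_surj w
    refine zp_inj hC ?_
    rw [← hHπ a ha, ← hHπ b hb, ← K.comm _ (hQ a ha) _ (hQ b hb), ← hzp, ← K.comm a ha b hb]
    have haS := hQS ha
    have hbS := hQS hb
    rw [commutatorElement_def, commutatorElement_def,
      hψ.map_mul (S.mul_mem (S.mul_mem haS hbS) (S.inv_mem haS)) (S.inv_mem hbS),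
      hψ.map_mul (S.mul_mem haS hbS) (S.inv_mem haS), hψ.map_mul haS hbS, hψ.map_inv haS,
      hψ.map_inv hbS]
  have hθ : ∀ v, K.θ (H v) = t * K.θ v := by
    intro v
    obtain ⟨a, ha, rfl⟩ := K.π_surj v
    refine zp_inj hC ?_
    rw [← hHπ a ha, ← K.pow _ (hQ a ha), ← hzp, ← K.pow a ha, hψ.map_pow (hQS ha)]
  have hact : H * K.act x = K.act x ^ m * H := by
    refine LinearMap.ext fun v => ?_
    obtain ⟨a, ha, rfl⟩ := K.π_surj v
    rw [Module.End.mul_apply, Module.End.mul_apply, ← K.act_spec x hX.x_mem a ha,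
      ← hHπ _ (hC.normal x hX.x_mem a ha), ← hHπ a ha, ← act_pow' K hX.x_mem,
      ← K.act_spec _ (S.pow_mem hX.x_mem m) _ (hQ a ha),
      show ψ (cj x a) = cj (ψ x) (ψ a) from hψ.map_conj hX.x_mem (hQS ha), hx]
  set A := K.act x with hA
  set N' := N K x with hN'
  set P := ∑ i ∈ Finset.range m, A ^ i with hP
  have hPN : Commute P N' := by
    refine Commute.sum_left _ _ _ fun i _ => ?_
    exact ((Commute.refl A).pow_left i).sub_right (Commute.one_right _)
  have hHN : H * N' = P * N' * H := by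
    have e : N' = A - 1 := rfl
    rw [e, mul_sub, mul_one, hact, hP, geom_sum_mul, sub_mul, one_mul]
  have hHNi : ∀ i : ℕ, H * N' ^ i = (P * N') ^ i * H := by
    intro i
    induction i with
    | zero => simp
    | succ i ih => rw [pow_succ, ← mul_assoc, ih, mul_assoc, hHN, ← mul_assoc, ← pow_succ]
  have hNA : ∀ i : ℕ, N' ^ (2 * n - 1) * A ^ i = N' ^ (2 * n - 1) := by
    intro i
    induction i with
    | zero => simp
    | succ i ih =>
      have e : A = N' + 1 := by rw [hN', N, hA, sub_add_cancel]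
      rw [pow_succ A i, ← mul_assoc, ih]
      conv_lhs => rw [e]
      rw [mul_add, mul_one, ← pow_succ, show 2 * n - 1 + 1 = 2 * n by omega, hN',
        N_pow_top K hX, zero_add]
  have hNP : ∀ i : ℕ, N' ^ (2 * n - 1) * P ^ i = (m : ZMod p) ^ i • N' ^ (2 * n - 1) := by
    have h1 : N' ^ (2 * n - 1) * P = (m : ZMod p) • N' ^ (2 * n - 1) := by
      rw [hP, Finset.mul_sum, Finset.sum_congr rfl fun i _ => hNA i, Finset.sum_const,
        Finset.card_range, Nat.cast_smul_eq_nsmul]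
    intro i
    induction i with
    | zero => simp
    | succ i ih =>
      rw [pow_succ P i, ← mul_assoc, ih, smul_mul_assoc, h1, smul_smul, ← pow_succ]
  -- the two ends
  obtain ⟨w, hw⟩ := N_top_ne K hX
  obtain ⟨c, u, hcu⟩ := span_top K hX hw (H w)
  set e₁ := (N' ^ (2 * n - 1)) w with he₁
  have hNe : N' e₁ = 0 := by
    rw [he₁, ← Module.End.mul_apply, ← pow_succ', show 2 * n - 1 + 1 = 2 * n by omega, hN',
      N_pow_top K hX, LinearMap.zero_apply]
  set μ := (m : ZMod p) ^ (2 * n - 1) * c with hμ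
  have hHe : H e₁ = μ • e₁ := by
    rw [he₁, ← Module.End.mul_apply, hHNi, hPN.mul_pow, (hPN.pow_pow _ _).eq, mul_assoc,
      ← mul_assoc, hNP, Module.End.mul_apply, hcu, LinearMap.smul_apply, map_add, map_smul,
      ← Module.End.mul_apply (N' ^ (2 * n - 1)) (N K x), ← pow_succ,
      show 2 * n - 1 + 1 = 2 * n by omega, hN', N_pow_top K hX, LinearMap.zero_apply, add_zero,
      smul_smul]
  have hB1 : K.B e₁ w ≠ 0 := by
    intro h0
    refine hw (K.nondeg _ fun v => ?_)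
    obtain ⟨c', u', rfl⟩ := span_top K hX hw v
    rw [map_add, map_smul, h0, B_ker_range K hX hNe, smul_zero, add_zero]
  have heq : μ * c = t := by
    have h := hB e₁ w
    rw [hHe, hcu] at h
    simp only [map_smul, map_add, LinearMap.smul_apply, B_ker_range K hX hNe, mul_zero,
      add_zero, smul_eq_mul] at h
    rw [← mul_assoc, mul_comm c μ] at h
    exact mul_right_cancel₀ hB1 h
  -- the centre from the bottom
  obtain ⟨a₁, ha₁, ha₁π⟩ := K.π_surj e₁
  obtain ⟨ε, hε0, hε⟩ := x_comm_ker K hX ha₁ (by rw [ha₁π]; exact hNe) (ha₁π ▸ hw)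
  have hcjx : cj x a₁ = zp z ε * a₁ := by
    rw [← hε, commutatorElement_def, cj_apply, inv_mul_cancel_right]
  have hcjm : ∀ i : ℕ, cj (x ^ i) a₁ = zp z ((i : ZMod p) * ε) * a₁ := by
    intro i
    induction i with
    | zero => simp [zp_zero, cj_one]
    | succ i ih =>
      rw [pow_succ', cj_mul, ih, cj_map_mul, cj_central hC hX.x_mem (zp_mem _), hcjx, ← mul_assoc,
        ← zp_add hC]
      congr 2
      push_cast; ring
  obtain ⟨j, hj⟩ : ∃ j, ψ a₁ = a₁ ^ μ.val * zp z j := by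
    have h0 : K.π ((a₁ ^ μ.val)⁻¹ * ψ a₁) = 0 := by
      rw [K.π_mul _ (Q.inv_mem (Q.pow_mem ha₁ _)) _ (hQ a₁ ha₁), pi_inv K (Q.pow_mem ha₁ _),
        pi_pow K ha₁, ZMod.natCast_zmod_val, hHπ a₁ ha₁, ha₁π, hHe, neg_add_cancel]
    obtain ⟨j, hj⟩ := exists_zp hC
      ((K.π_eq_zero _ (Q.mul_mem (Q.inv_mem (Q.pow_mem ha₁ _)) (hQ a₁ ha₁))).1 h0)
    exact ⟨j, inv_mul_eq_iff_eq_mul.1 hj⟩
  have hμeq : t = (m : ZMod p) * μ := by
    refine mul_right_cancel₀ hε0 (zp_inj hC ?_)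
    have e1 : ψ (cj x a₁) = cj (x ^ m) (ψ a₁) := by
      rw [← hx]; exact hψ.map_conj hX.x_mem (hQS ha₁)
    have hpow : ∀ (r : ZMod p) (k : ℕ), (zp z r * a₁) ^ k = zp z ((k : ZMod p) * r) * a₁ ^ k := by
      intro r k
      rw [(show Commute (zp z r) a₁ from (z_central hC (hQS ha₁) (zp_mem r)).symm).mul_pow]
      congr 1
      show (z ^ r.val) ^ k = _
      rw [← pow_mul, zp_nat hC, Nat.cast_mul, ZMod.natCast_zmod_val, mul_comm]
    rw [hcjx, hψ.map_mul (Subgroup.zpowers_le.2 (z_memS hC) (zp_mem ε)) (hQS ha₁), hzp, hj, cj_map_mul,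
      cj_central hC (S.pow_mem hX.x_mem m) (zp_mem j),
      show cj (x ^ m) (a₁ ^ μ.val) = cj (x ^ m) a₁ ^ μ.val from map_pow (MulAut.conj (x ^ m)) a₁ _,
      hcjm, hpow, ← mul_assoc] at e1
    have e2 := mul_right_cancel e1
    have e3 := mul_right_cancel e2
    rw [e3, ZMod.natCast_zmod_val]
    congr 1
    ring
  -- the equations
  have hμ2 : μ = t ^ 2 := by
    rw [hmt, eq_inv_mul_iff_mul_eq₀ ht] at hμeq
    rw [← hμeq, sq]
  have hc : c = t ^ (2 * n + 1) := by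
    rw [hμ, hmt, inv_pow, inv_mul_eq_iff_eq_mul₀ (pow_ne_zero _ ht)] at hμ2
    rw [hμ2, ← pow_add]
    congr 1
    omega
  have h1 : t ^ (2 * n + 2) = 1 := by
    rw [hμ2, hc, ← pow_add] at heq
    refine mul_right_cancel₀ ht ?_
    rw [one_mul, ← pow_succ]
    exact (congrArg (t ^ ·) (by omega : 2 * n + 2 + 1 = 2 + (2 * n + 1))).trans heq
  refine ⟨h1, ?_⟩
  rcases eq_or_ne (K.θ w) 0 with h0 | h0
  · left
    intro a ha
    obtain ⟨c', u', hv⟩ := span_top K hX hw (K.π a)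
    rw [K.pow a ha, hv, map_add, map_smul, h0, θ_N K hX, smul_zero, add_zero, zp_zero]
  · right
    have h := hθ w
    rw [hcu, map_add, map_smul, θ_N K hX, add_zero, smul_eq_mul, hc] at h
    have h' := mul_right_cancel₀ h0 h
    rw [pow_succ] at h'
    exact mul_right_cancel₀ ht (h'.trans (one_mul t).symm)

omit K hX in
/-- From the hypotheses of the second case. -/
theorem hyp_of {E : Subgroup Ω} {α : MulAut E} (hC : Ctx p n S Q F z)
    (h : CaseTwo p S Q F z E α x) (hc : ∀ a ∈ Q, a * x = x * a → a ∈ Subgroup.zpowers z) :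
    Hyp p n S Q F z x := by
  refine ⟨hC, h.x_mem, h.x_not, h.x_pow, hc, ?_⟩
  have e : Q ⊓ Subgroup.centralizer {x} = Subgroup.zpowers z := by
    refine le_antisymm (fun a ha => hc a ha.1 (Subgroup.mem_centralizer_singleton_iff.1 ha.2))
      (Subgroup.zpowers_le.2 ⟨hC.z_mem, Subgroup.mem_centralizer_singleton_iff.2
        (hC.z_comm x h.x_mem).symm⟩)
  rw [← e, ← h.E_eq]
  exact h.ess

/-- A torus on the pearl. -/
theorem exists_torus : ∃ y, Hyp p n S Q F z y ∧ ∀ t : ZMod p, t ≠ 0 → ∃ f : Ω → Ω,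
    IsMor F (R K y 0) f ∧ (∀ a ∈ R K y 0, f a ∈ R K y 0) ∧ (∀ a ∈ L K y 0, f a ∈ L K y 0) ∧
    f z = z ^ t.val ∧ f y = y ^ t⁻¹.val := by
  have hC := hX.ctx
  have := hC.finite
  have h2 := hC.two_le
  set E := Subgroup.zpowers x ⊔ Subgroup.zpowers z with hEdef
  have hR0 : R K x 0 = E := R_zero K hX
  have hcE : Nat.card E = p ^ 2 := by rw [← hR0, card_R K hX (Nat.zero_le _)]
  have hES : E ≤ S := hR0 ▸ R_le K hX 0
  have := finite_of_le hES
  obtain ⟨hel, -⟩ := SmallEss.order_p2_essential hC.group hC.sat hX.ess hcE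
  obtain ⟨g, hg, hgE⟩ := SetLike.exists_of_lt
    (normalizerIn_gt hC.group (essential_lt hC.group hC.sat hX.ess))
  have hcZ : Nat.card (Subgroup.zpowers z) = p := by rw [Nat.card_zpowers, hC.z_order]
  have hzE : Subgroup.zpowers z ≤ E := le_sup_right
  obtain ⟨e, he, he1, f, hf, hfJ, -, Y, hY, -, hδ, -⟩ :=
    OrderFive.exists_frame (K := ⊥) (J := Subgroup.zpowers z) hC.group hC.sat hX.ess (n := 0)
      (fun _ => ⊥) rfl rfl (by omega)
      (fun α hα i _ y hy => by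
        rw [Subgroup.mem_bot] at hy ⊢
        rw [hy, (isMor_autFun hES hα).map_one])
      bot_le hzE (by rw [hcZ, Subgroup.card_bot, mul_one]) (by rw [hcE, hcZ, sq])
      (fun y hy => Subgroup.mem_bot.2 (hel.2 y hy))
      (fun a ha b hb => Subgroup.mem_bot.2 (commutatorElement_eq_one_iff_mul_comm.2
        (congrArg Subtype.val (hel.1.is_comm.comm ⟨a, ha⟩ ⟨b, hb⟩))))
      hg hgE (fun y hy => by rwa [cj_central hC (normalizerIn_le hg) hy])
  have hfQ : f ∉ Q := fun h => hfJ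
    ((L_zero K hX).le (R_inf K hX 0 (hR0.symm ▸ hf) h))
  have hgen : Subgroup.zpowers f ⊔ Subgroup.zpowers z = E := by
    rw [sup_comm]
    exact OrderFive.eq_sup_of_step hC.group hES hzE (by rw [hcE, hcZ, sq]) hf hfJ
  have hY' : Hyp p n S Q F z f := by
    refine ⟨hC, hES hf, hfQ, hel.2 f hf, fun a ha hc => hX.cent a ha ?_, by rw [hgen]; exact hX.ess⟩
    obtain ⟨i, hi⟩ := mem_R K hX (hR0.symm ▸ hf : f ∈ R K x 0)
    rw [L_zero K hX] at hi
    have h1 : Commute a f := hc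
    have h2 : Commute a ((x ^ i)⁻¹ * f) := z_central hC (hC.le ha) hi
    have h3 : Commute a (x ^ i) := by
      have := h1.mul_right h2.inv_right
      rwa [mul_inv_rev, inv_inv, mul_inv_cancel_left] at this
    have hpi : ¬ p ∣ i := by
      rintro ⟨d, rfl⟩
      rw [pow_mul, hX.x_pow, one_pow, inv_one, one_mul] at hi
      exact hfJ hi
    obtain ⟨j, -, hj⟩ := Nat.exists_mul_mod_eq_one_of_coprime
      (hp.1.coprime_iff_not_dvd.2 hpi).symm hp.1.one_lt
    have h4 := h3.pow_right j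
    rwa [← pow_mul, pow_eq_pow_mod _ hX.x_pow, hj, pow_one] at h4
  refine ⟨f, hY', fun t ht => ?_⟩
  obtain ⟨δ, hδY, hδe, hδf, hδJ⟩ := hδ t ht
  rw [Subgroup.mem_bot, inv_mul_eq_one] at hδe hδf
  have hm := isMor_autFun hES (hY hδY)
  rw [R_zero K hY', hgen, L_zero K hY']
  refine ⟨autFun δ, hm, fun a ha => autFun_mem δ ha, hδJ, ?_, hδf.symm⟩
  obtain ⟨k, hk⟩ := Subgroup.mem_zpowers_iff.1
    ((OrderFive.zpowers_eq_of_card hcZ he fun h => he1 (Subgroup.mem_bot.2 h)).ge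
      (Subgroup.mem_zpowers z))
  have h3 : autFun δ (e ^ k) = (e ^ k) ^ t.val := by
    rw [hm.map_zpow (hzE he), ← hδe, ← zpow_natCast, ← zpow_natCast, ← zpow_mul, ← zpow_mul,
      mul_comm]
  simpa only [hk] using h3

/-- The arithmetic and the exponent. -/
theorem prime_eq : 2 * n + 3 = p ∧ ∀ a ∈ Q, a ^ p = 1 := by
  have hC := hX.ctx
  have h2 := hC.two_le
  have hle := two_n_le K hX
  obtain ⟨y, hY, hty⟩ := exists_torus K hX
  have key : ∀ t : ZMod p, t ≠ 0 →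
      t ^ (2 * n + 2) = 1 ∧ ((∀ a ∈ Q, a ^ p = 1) ∨ t ^ (2 * n) = 1) := by
    intro t ht
    obtain ⟨f, hf, hfR, hfZ, hfz, hfy⟩ := hty t ht
    obtain ⟨ψ, hψ, hψf, hψQ, -⟩ := extend K hY hf hfR hfZ
    refine weights K hY ht hψ hψQ ?_ ?_
    · rw [hψf z (L_le_R K hY 0 ((L_zero K hY).ge (Subgroup.mem_zpowers z))), hfz]
    · rw [hψf y (x_mem_R K hY 0), hfy]
  have hd : (p - 1) ∣ 2 * n + 2 := by
    by_contra h
    obtain ⟨t, ht, ht'⟩ := OrderFive.exists_pow_ne h
    exact ht' (key t ht).1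
  refine ⟨?_, ?_⟩
  · obtain ⟨c, hc⟩ := hd
    rcases c with _ | _ | c
    · omega
    · omega
    · have : (p - 1) * 2 ≤ (p - 1) * (c + 1 + 1) := Nat.mul_le_mul_left _ (by omega)
      omega
  · by_contra hne
    obtain ⟨t, ht, ht'⟩ := OrderFive.exists_pow_ne (p := p) (k := 2) fun h => by
      have := Nat.le_of_dvd (by omega) h
      omega
    obtain ⟨h1, h3 | h3⟩ := key t ht
    · exact hne h3
    · rw [pow_add, h3, one_mul] at h1
      exact ht' h1

theorem class_eq [Group.IsNilpotent ↥S] : Group.nilpotencyClass ↥S = 2 * n + 1 := by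
  have hC := hX.ctx
  have := hC.finite
  have h2 := hC.two_le
  obtain ⟨K'⟩ : Nonempty (Coords p n S Q z) := ⟨K⟩
  set E := Subgroup.zpowers x ⊔ Subgroup.zpowers z with hEdef
  have hR0 : R K x 0 = E := R_zero K hX
  have hcE : Nat.card E = p ^ 2 := by rw [← hR0, card_R K hX (Nat.zero_le _)]
  obtain ⟨hel, -⟩ := SmallEss.order_p2_essential hC.group hC.sat hX.ess hcE
  have hp2 : p ≠ 2 := fun h => by
    obtain ⟨m, hm⟩ := hC.odd
    omega
  have hmax := (Cfsg.Agent.S5238.result p hC.group F hC.sat hp2 E hX.ess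
    (Or.inl ⟨hcE, fun y hy => ⟨hel.2 y hy, hel.1⟩⟩)).1 (2 * n + 2) hC.card_S (by omega)
  refine le_antisymm ?_ ?_
  · exact (CfsgLib.PGroups.nilpotencyClass_le_sub_one (by omega) hC.card_S).trans (by omega)
  · by_contra hc
    apply hmax
    rw [← Subgroup.top_subtype_lowerCentralSeries,
      Subgroup.map_eq_bot_iff_of_injective _ S.subtype_injective]
    exact Subgroup.lowerCentralSeries_eq_bot_iff_nilpotencyClass_le.2 (by omega)

theorem exponent_S [Group.IsNilpotent ↥S] (s : ↥S) : s ^ p = 1 := by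
  have hC := hX.ctx
  have := hC.finite
  obtain ⟨hp3, hQe⟩ := prime_eq K hX
  have hR : CfsgLib.PLocal.PRegular p ↥S := CfsgLib.PLocal.pRegular_of_lowerCentralSeries_eq_bot
    (Subgroup.lowerCentralSeries_eq_bot_iff_nilpotencyClass_le.2 (by
      rw [class_eq K hX]; omega))
  obtain ⟨i, hi⟩ := mem_R K hX ((R_top K hX).ge s.2)
  have hxs : (⟨x ^ i, S.pow_mem hX.x_mem i⟩ : ↥S) ^ p ^ 1 = 1 := Subtype.ext (by
    rw [pow_one]
    simp only [SubmonoidClass.coe_pow, OneMemClass.coe_one]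
    rw [← pow_mul, mul_comm, pow_mul, hX.x_pow, one_pow])
  have hls : (⟨(x ^ i)⁻¹ * s, S.mul_mem (S.inv_mem (S.pow_mem hX.x_mem i)) s.2⟩ : ↥S) ^ p ^ 1 = 1 :=
    Subtype.ext (by
      rw [pow_one]
      simp only [SubmonoidClass.coe_pow, OneMemClass.coe_one]
      exact hQe _ hi.1)
  have h := CfsgLib.PLocal.pow_mul_eq_one hC.group hR 1 _ _ hxs hls
  rw [pow_one] at h
  rwa [show (⟨x ^ i, S.pow_mem hX.x_mem i⟩ : ↥S) *
    ⟨(x ^ i)⁻¹ * s, S.mul_mem (S.inv_mem (S.pow_mem hX.x_mem i)) s.2⟩ = s from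
      Subtype.ext (mul_inv_cancel_left _ _)] at h

theorem split_of_two [Group.IsNilpotent ↥S] (hn : n = 2) : Split p n S Q z K := by
  classical
  have hC := hX.ctx
  have h2 := hC.two_le
  have hQS := hC.le
  refine ⟨hn, (prime_eq K hX).2, ?_⟩
  obtain ⟨w, hw⟩ := N_top_ne K hX
  set e₁ := (N K x ^ (2 * n - 1)) w with he₁
  have hNe : N K x e₁ = 0 := by
    rw [he₁, ← Module.End.mul_apply, ← pow_succ', show 2 * n - 1 + 1 = 2 * n by omega,
      N_pow_top K hX, LinearMap.zero_apply]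
  obtain ⟨a₁, ha₁, ha₁π⟩ := K.π_surj e₁
  obtain ⟨ε, hε0, hε⟩ := x_comm_ker K hX ha₁ (by rw [ha₁π]; exact hNe) (ha₁π ▸ hw)
  obtain ⟨v, hv⟩ : ∃ v, K.B v e₁ ≠ 0 := by
    by_contra! h
    refine hw (K.nondeg _ fun v => ?_)
    have h1 := K.alt (e₁ + v)
    simp only [map_add, LinearMap.add_apply, K.alt, h v, zero_add, add_zero] at h1
    exact h1
  obtain ⟨b, hb, hbπ⟩ := K.π_surj ((-ε / K.B v e₁) • v)
  have hbB : K.B (K.π b) (K.π a₁) = -ε := by
    rw [hbπ, ha₁π, map_smul, LinearMap.smul_apply, smul_eq_mul, div_mul_cancel₀ _ hv]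
  have hx' : x * b ∈ S := S.mul_mem hX.x_mem (hQS hb)
  have hcomm : Commute (x * b) a₁ := by
    refine commutatorElement_eq_one_iff_commute.1 ?_
    rw [show ⁅x * b, a₁⁆ = x * ⁅b, a₁⁆ * x⁻¹ * ⁅x, a₁⁆ by
      simp only [commutatorElement_def]; group, K.comm b hb a₁ ha₁, hbB, hε,
      show x * zp z (-ε) * x⁻¹ = zp z (-ε) from cj_central hC hX.x_mem (zp_mem _), ← zp_add hC,
      neg_add_cancel, zp_zero]
  have hact : K.act (x * b) = K.act x := by
    rw [K.act_mul x hX.x_mem b (hQS hb), K.act_Q b hb, mul_one]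
  refine ⟨x * b, hx', fun h => hX.x_not ?_, ?_, fun a ha hfix => ?_, ?_⟩
  · have := Q.mul_mem h (Q.inv_mem hb)
    rwa [mul_inv_cancel_right] at this
  · exact congrArg Subtype.val (exponent_S K hX ⟨x * b, hx'⟩)
  · have hk : K.π a ∈ LinearMap.ker (N K x) := by
      rw [LinearMap.mem_ker, N_apply, sub_eq_zero, ← hact]
      exact hfix
    have hk₁ : e₁ ∈ LinearMap.ker (N K x) := LinearMap.mem_ker.2 hNe
    have hr := ker_pow_rank K hX (k := 1) (by omega)
    rw [pow_one] at hr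
    obtain ⟨c, hc⟩ := (finrank_eq_one_iff_of_nonzero' (⟨e₁, hk₁⟩ : LinearMap.ker (N K x))
      (fun h => hw (congrArg Subtype.val h))).1 hr ⟨K.π a, hk⟩
    have hc' : c • e₁ = K.π a := congrArg Subtype.val hc
    have h0 : K.π ((a₁ ^ c.val)⁻¹ * a) = 0 := by
      rw [K.π_mul _ (Q.inv_mem (Q.pow_mem ha₁ _)) _ ha, pi_inv K (Q.pow_mem ha₁ _),
        pi_pow K ha₁, ZMod.natCast_zmod_val, ha₁π, hc', neg_add_cancel]
    have h1 : Commute (x * b) ((a₁ ^ c.val)⁻¹ * a) :=
      z_central hC hx' ((K.π_eq_zero _ (Q.mul_mem (Q.inv_mem (Q.pow_mem ha₁ _)) ha)).1 h0)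
    have h2 := (hcomm.pow_right c.val).mul_right h1
    rw [mul_inv_cancel_left] at h2
    exact h2.eq
  · rw [hact, show K.act x - 1 = N K x from rfl, ← ker_eq_range K hX,
      ker_pow_rank K hX (by omega)]
    omega

end CfsgLib.ExtraIndexP.PearlCase

namespace CfsgLib.ExtraIndexP

universe u

/-- The pearl case. -/
theorem stmtPearl : StmtPearl.{u} := by
  intro Ω _ p n _ S Q _ F z hC K E α x hT hc
  have hX := PearlCase.hyp_of hC hT hc
  have h2 := hC.two_le
  have hp3 := (PearlCase.prime_eq K hX).1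
  rcases eq_or_ne n 2 with hn | hn
  · exact Or.inl (PearlCase.split_of_two K hX hn)
  · refine Or.inr ⟨?_, ?_, PearlCase.exponent_S K hX, ?_⟩
    · by_contra h
      have hp := hC.prime
      obtain rfl : p = 9 := by omega
      norm_num at hp
    · rw [hC.card_S]; congr 1; omega
    · rw [PearlCase.class_eq K hX]; omega

end CfsgLib.ExtraIndexP
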