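import Cfsg.Agent.Lib.ExtraIndexP.Basic
import Cfsg.Agent.Lib.PGroups.Extraspecial
import Cfsg.Agent.Lib.TurullFit.SmallCommForm
import Cfsg.Agent.S5178

/-!
# The context and the coordinates
-/

set_option autoImplicit false
set_option linter.style.haveILetI false

open Cfsg Cfsg.FusionSystem CfsgLib.Fusion Module
open scoped commutatorElement

namespace CfsgLib.ExtraIndexP

universe u

variable {Ω : Type u} [Group Ω] {p n : ℕ} [hp : Fact p.Prime] {S Q : Subgroup Ω}
  {F : FusionSystem S} {z : Ω}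

/-- A biadditive function is bilinear over `ZMod p`. -/
theorem exists_bilin {M : Type*} [AddCommGroup M] [Module (ZMod p) M]
    (f : M → M → ZMod p) (hl : ∀ a b m, f (a + b) m = f a m + f b m)
    (hr : ∀ m a b, f m (a + b) = f m a + f m b) :
    ∃ B : M →ₗ[ZMod p] M →ₗ[ZMod p] ZMod p, ∀ m m', B m m' = f m m' :=
  ⟨LinearMap.mk₂ (ZMod p) f hl
    (fun c a m => ZMod.map_smul (AddMonoidHom.mk' (fun a => f a m) (hl · · m)) c a) hr
    (fun c m a => ZMod.map_smul (AddMonoidHom.mk' (f m) (hr m)) c a), fun _ _ => rfl⟩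

/-- An additive function is linear over `ZMod p`. -/
theorem exists_lin {M N : Type*} [AddCommGroup M] [Module (ZMod p) M] [AddCommGroup N]
    [Module (ZMod p) N] (f : M → N) (hf : ∀ a b, f (a + b) = f a + f b) :
    ∃ g : M →ₗ[ZMod p] N, ∀ m, g m = f m :=
  ⟨{ toFun := f, map_add' := hf,
     map_smul' := fun c m => ZMod.map_smul (AddMonoidHom.mk' f hf) c m }, fun _ => rfl⟩

/-- `Q` modulo its centre as a coordinate space. -/
theorem exists_proj (hQ : IsExtraspecial p ↥Q) [Finite Q] (hn : Nat.card Q = p ^ (2 * n + 1)) :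
    ∃ π : ↥Q → (Fin (2 * n) → ZMod p), Function.Surjective π ∧
      (∀ a b, π (a * b) = π a + π b) ∧ ∀ a, π a = 0 ↔ a ∈ Subgroup.center ↥Q := by
  obtain ⟨M, iA, iM, iF, π₀, hs₀, hm₀, hz₀, hc₀⟩ :=
    CfsgLib.TurullFit.SmallCommForm.exists_quot (Subgroup.center ↥Q) p
      (fun x y => by
        have e : (x * y)⁻¹ * (y * x) = ⁅y⁻¹, x⁻¹⁆ := by rw [commutatorElement_def]; group
        rw [e]
        exact CfsgLib.PGroups.Extraspecial.commutator_mem_center hQ _ _)
      (fun x => CfsgLib.PGroups.Extraspecial.pow_mem_center hQ x)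
  have hcard : Nat.card M = p ^ (2 * n) := by
    have h1 := Subgroup.card_mul_index (Subgroup.center ↥Q)
    rw [hn, hQ.2, pow_succ'] at h1
    rw [hc₀]
    exact Nat.eq_of_mul_eq_mul_left hp.out.pos h1
  have hfr : finrank (ZMod p) M = finrank (ZMod p) (Fin (2 * n) → ZMod p) := by
    rw [Module.natCard_eq_pow_finrank (K := ZMod p), Nat.card_zmod] at hcard
    rw [finrank_fin_fun]
    exact Nat.pow_right_injective hp.out.two_le hcard
  haveI : Module.Finite (ZMod p) M := Module.Finite.of_finite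
  let e := LinearEquiv.ofFinrankEq M (Fin (2 * n) → ZMod p) hfr
  refine ⟨fun a => e (π₀ a), e.surjective.comp hs₀, fun a b => ?_, fun a => ?_⟩
  · show e (π₀ (a * b)) = _
    rw [hm₀, map_add]
  · exact e.map_eq_zero_iff.trans (hz₀ a)

theorem exists_coords (h : Ctx p n S Q F z) : Nonempty (Coords p n S Q z) := by
  classical
  haveI := h.finite_Q
  haveI := h.finite
  obtain ⟨π₀, hs₀, hm₀, hz₀⟩ := exists_proj h.extra h.card_Q
  have hcen : ∀ a : ↥Q, a ∈ Subgroup.center ↥Q ↔ (a : Ω) ∈ Subgroup.zpowers z := fun a =>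
    ⟨fun ha => h.center_Q a a.2 fun b hb =>
      (congrArg Subtype.val (Subgroup.mem_center_iff.mp ha ⟨b, hb⟩)).symm,
     fun ha => Subgroup.mem_center_iff.mpr fun b => Subtype.ext (h.comm_of_mem ha (h.le b.2))⟩
  let π : Ω → (Fin (2 * n) → ZMod p) := fun a => if ha : a ∈ Q then π₀ ⟨a, ha⟩ else 0
  have hπ : ∀ a (ha : a ∈ Q), π a = π₀ ⟨a, ha⟩ := fun a ha => dif_pos ha
  have π_mul : ∀ a ∈ Q, ∀ b ∈ Q, π (a * b) = π a + π b := fun a ha b hb => by
    rw [hπ _ (Q.mul_mem ha hb), hπ a ha, hπ b hb, ← hm₀]; rfl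
  have π_surj : ∀ v, ∃ a ∈ Q, π a = v := fun v => by
    obtain ⟨a, ha⟩ := hs₀ v
    exact ⟨a, a.2, (hπ _ a.2).trans ha⟩
  have π_zero : ∀ a ∈ Q, (π a = 0 ↔ a ∈ Subgroup.zpowers z) := fun a ha => by
    rw [hπ a ha, hz₀, hcen]
  choose sec hsecQ hsec using π_surj
  have eqz : ∀ a ∈ Q, ∃ i : ZMod p, sec (π a) = a * zp z i := fun a ha => by
    have h1 : a⁻¹ * sec (π a) ∈ Subgroup.zpowers z := by
      refine (π_zero _ (Q.mul_mem (Q.inv_mem ha) (hsecQ _))).mp ?_
      have h2 : π a⁻¹ + π a = 0 := by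
        rw [← π_mul _ (Q.inv_mem ha) _ ha, inv_mul_cancel]
        exact (π_zero 1 Q.one_mem).mpr (one_mem _)
      rw [π_mul _ (Q.inv_mem ha) _ (hsecQ _), hsec, h2]
    obtain ⟨i, hi⟩ := exists_zp h.z_order h1
    exact ⟨i, by rw [← hi, mul_inv_cancel_left]⟩
  have zpc : ∀ (i : ZMod p) (b : Ω), b ∈ S → b * zp z i = zp z i * b := fun i b hb =>
    h.comm_of_mem (zp_mem z i) hb
  have commz : ∀ a ∈ Q, ∀ b ∈ Q, ⁅a, b⁆ ∈ Subgroup.zpowers z := fun a ha b hb => by
    have h1 := CfsgLib.PGroups.Extraspecial.commutator_mem_center h.extra ⟨a, ha⟩ ⟨b, hb⟩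
    rw [hcen] at h1
    exact h1
  have powz : ∀ a ∈ Q, a ^ p ∈ Subgroup.zpowers z := fun a ha => by
    have h1 := CfsgLib.PGroups.Extraspecial.pow_mem_center h.extra ⟨a, ha⟩
    rw [hcen] at h1
    exact h1
  let lg : Ω → ZMod p := fun w => if hw : w ∈ Subgroup.zpowers z then
    (exists_zp h.z_order hw).choose else 0
  have hlg : ∀ w ∈ Subgroup.zpowers z, w = zp z (lg w) := fun w hw => by
    show w = zp z (dite _ _ _)
    rw [dif_pos hw]
    exact (exists_zp h.z_order hw).choose_spec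
  have comm_sec : ∀ a ∈ Q, ∀ b ∈ Q, ⁅sec (π a), sec (π b)⁆ = ⁅a, b⁆ := fun a ha b hb => by
    obtain ⟨i, hi⟩ := eqz a ha
    obtain ⟨j, hj⟩ := eqz b hb
    rw [hi, hj, commutatorElement_def, commutatorElement_def]
    calc a * zp z i * (b * zp z j) * (a * zp z i)⁻¹ * (b * zp z j)⁻¹
        = a * (zp z i * (b * zp z j)) * (zp z i)⁻¹ * a⁻¹ * (zp z j)⁻¹ * b⁻¹ := by group
      _ = a * ((b * zp z j) * zp z i) * (zp z i)⁻¹ * a⁻¹ * (zp z j)⁻¹ * b⁻¹ := by
          rw [zpc i (b * zp z j) (S.mul_mem (h.le hb) (h.le (h.zpowers_le (zp_mem z j))))]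
      _ = a * b * (zp z j * a⁻¹) * (zp z j)⁻¹ * b⁻¹ := by group
      _ = a * b * (a⁻¹ * zp z j) * (zp z j)⁻¹ * b⁻¹ := by
          rw [zpc j a⁻¹ (S.inv_mem (h.le ha))]
      _ = _ := by group
  have lg_add : ∀ u w, u ∈ Subgroup.zpowers z → w ∈ Subgroup.zpowers z →
      lg (u * w) = lg u + lg w := fun u w hu hw => zp_injective h.z_order (by
    rw [zp_add h.z_order, ← hlg _ (mul_mem hu hw), ← hlg u hu, ← hlg w hw])
  have sec_add : ∀ v w, sec v * sec w ∈ Q ∧ π (sec v * sec w) = v + w := fun v w =>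
    ⟨Q.mul_mem (hsecQ v) (hsecQ w), by rw [π_mul _ (hsecQ v) _ (hsecQ w), hsec, hsec]⟩
  obtain ⟨B, hB⟩ := exists_bilin (p := p) (fun v w => lg ⁅sec v, sec w⁆)
    (fun u v w => by
      have e : ⁅sec (u + v), sec w⁆ = ⁅sec u * sec v, sec w⁆ := by
        have h1 := comm_sec _ (sec_add u v).1 _ (hsecQ w)
        rwa [(sec_add u v).2, hsec] at h1
      rw [e, show ⁅sec u * sec v, sec w⁆ = sec u * ⁅sec v, sec w⁆ * (sec u)⁻¹ * ⁅sec u, sec w⁆ by
        simp only [commutatorElement_def]; group,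
        h.comm_of_mem (commz _ (hsecQ v) _ (hsecQ w)) (h.le (hsecQ u)), mul_inv_cancel_right,
        lg_add _ _ (commz _ (hsecQ v) _ (hsecQ w)) (commz _ (hsecQ u) _ (hsecQ w)), add_comm])
    (fun u v w => by
      have e : ⁅sec u, sec (v + w)⁆ = ⁅sec u, sec v * sec w⁆ := by
        have h1 := comm_sec _ (hsecQ u) _ (sec_add v w).1
        rwa [(sec_add v w).2, hsec] at h1
      rw [e, show ⁅sec u, sec v * sec w⁆ = ⁅sec u, sec v⁆ * (sec v * ⁅sec u, sec w⁆ * (sec v)⁻¹) by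
        simp only [commutatorElement_def]; group,
        h.comm_of_mem (commz _ (hsecQ u) _ (hsecQ w)) (h.le (hsecQ v)), mul_inv_cancel_right,
        lg_add _ _ (commz _ (hsecQ u) _ (hsecQ v)) (commz _ (hsecQ u) _ (hsecQ w))])
  have pow_sec : ∀ a ∈ Q, sec (π a) ^ p = a ^ p := fun a ha => by
    obtain ⟨i, hi⟩ := eqz a ha
    rw [hi, (show Commute a (zp z i) from zpc i a (h.le ha)).mul_pow, zp_pow h.z_order,
      ZMod.natCast_self, zero_mul, zp_zero, mul_one]
  have pow_mul' : ∀ a ∈ Q, ∀ b ∈ Q, (a * b) ^ p = a ^ p * b ^ p := fun a ha b hb => by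
    have h1 := CfsgLib.PGroups.mul_pow_of_central (a := (⟨a, ha⟩ : ↥Q)) (b := ⟨b, hb⟩)
      (CfsgLib.PGroups.Extraspecial.commutator_mem_center h.extra _ _) p
    have h2 := congrArg (Subtype.val : ↥Q → Ω) h1
    simp only [Subgroup.coe_mul, Subgroup.coe_pow] at h2
    rw [h2]
    obtain ⟨i, hi⟩ := exists_zp h.z_order (commz b hb a ha)
    have h3 : ((⁅(⟨b, hb⟩ : ↥Q), ⟨a, ha⟩⁆ : ↥Q) : Ω) = zp z i := hi ▸ rfl
    rw [h3, zp_pow h.z_order]
    have h4 : ((p.choose 2 : ℕ) : ZMod p) = 0 := by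
      rw [ZMod.natCast_eq_zero_iff]
      refine hp.out.dvd_choose_self two_ne_zero ?_
      exact lt_of_le_of_ne hp.out.two_le fun e => by
        obtain ⟨k, hk⟩ := h.odd; omega
    rw [h4, zero_mul, zp_zero, mul_one]
  obtain ⟨θ, hθ⟩ := exists_lin (p := p) (fun v => lg (sec v ^ p)) fun v w => by
    have h1 := pow_sec _ (sec_add v w).1
    rw [(sec_add v w).2] at h1
    show lg (sec (v + w) ^ p) = _
    rw [h1, pow_mul' _ (hsecQ v) _ (hsecQ w),
      lg_add _ _ (powz _ (hsecQ v)) (powz _ (hsecQ w))]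
  have hact : ∀ s, ∃ f : Module.End (ZMod p) (Fin (2 * n) → ZMod p),
      s ∈ S → ∀ v, f v = π (cj s (sec v)) := fun s => by
    by_cases hs : s ∈ S
    · obtain ⟨f, hf⟩ := exists_lin (p := p) (fun v => π (cj s (sec v))) fun v w => by
        obtain ⟨i, hi⟩ := eqz _ (sec_add v w).1
        rw [(sec_add v w).2] at hi
        rw [hi, cj_map_mul, cj_map_mul, h.cj_of_mem (zp_mem z i) hs,
          π_mul _ (Q.mul_mem (h.normal s hs _ (hsecQ v)) (h.normal s hs _ (hsecQ w))) _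
            (h.zpowers_le (zp_mem z i)), (π_zero _ (h.zpowers_le (zp_mem z i))).mpr (zp_mem z i),
          add_zero, π_mul _ (h.normal s hs _ (hsecQ v)) _ (h.normal s hs _ (hsecQ w))]
      exact ⟨f, fun _ => hf⟩
    · exact ⟨0, fun h' => absurd h' hs⟩
  choose act hact using hact
  have act_spec : ∀ s ∈ S, ∀ a ∈ Q, π (cj s a) = act s (π a) := fun s hs a ha => by
    obtain ⟨i, hi⟩ := eqz a ha
    rw [hact s hs, hi, cj_map_mul, h.cj_of_mem (zp_mem z i) hs,
      π_mul _ (h.normal s hs _ ha) _ (h.zpowers_le (zp_mem z i)),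
      (π_zero _ (h.zpowers_le (zp_mem z i))).mpr (zp_mem z i), add_zero]
  have hBa : ∀ a ∈ Q, ∀ b ∈ Q, ⁅a, b⁆ = zp z (B (π a) (π b)) := fun a ha b hb => by
    rw [hB, comm_sec a ha b hb]
    exact hlg _ (commz a ha b hb)
  have hθa : ∀ a ∈ Q, a ^ p = zp z (θ (π a)) := fun a ha => by
    rw [hθ, pow_sec a ha]; exact hlg _ (powz a ha)
  have act_Q : ∀ s ∈ Q, act s = 1 := fun s hs => LinearMap.ext fun v => by
    rw [hact s (h.le hs), End.one_apply, show cj s (sec v) = ⁅s, sec v⁆ * sec v by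
        simp only [cj, commutatorElement_def]; group,
      π_mul _ (h.zpowers_le (commz s hs _ (hsecQ v))) _ (hsecQ v),
      (π_zero _ (h.zpowers_le (commz s hs _ (hsecQ v)))).mpr (commz s hs _ (hsecQ v)), zero_add,
      hsec]
  have act_mul : ∀ s ∈ S, ∀ t ∈ S, act (s * t) = act s * act t := fun s hs t ht =>
    LinearMap.ext fun v => by
      rw [hact _ (S.mul_mem hs ht), End.mul_apply, cj_mul,
        act_spec s hs _ (h.normal t ht _ (hsecQ v)), hact t ht]
  have hnd : ∀ v, (∀ w, B v w = 0) → v = 0 := fun v hv => by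
    rw [← hsec v]
    refine (π_zero _ (hsecQ v)).mpr (h.center_Q _ (hsecQ v) fun b hb => ?_)
    rw [← commutatorElement_eq_one_iff_mul_comm, hBa _ (hsecQ v) b hb, hsec, hv, zp_zero]
  have hiso : ∀ s ∈ S, ∀ a ∈ Q, ∀ b ∈ Q, ⁅cj s a, cj s b⁆ = ⁅a, b⁆ := fun s hs a ha b hb => by
    have h1 := h.cj_of_mem (commz a ha b hb) hs
    conv_rhs => rw [← h1]
    simp only [cj, commutatorElement_def]
    group
  have alt' : ∀ v, B v v = 0 := fun v => zp_injective h.z_order (by
    rw [zp_zero, ← hsec v, ← hBa _ (hsecQ v) _ (hsecQ v), commutatorElement_self])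
  refine ⟨⟨π, B, θ, act, π_mul, fun v => ⟨sec v, hsecQ v, hsec v⟩, π_zero, hBa, hθa, act_spec,
    act_mul, act_Q, ?_, ?_, alt', hnd, ?_, ?_⟩⟩
  · intro s hs hsQ h1
    -- `s` induces an inner automorphism of `Q`
    have hcz : ∀ a ∈ Q, cj s a * a⁻¹ ∈ Subgroup.zpowers z := fun a ha => by
      refine (π_zero _ (Q.mul_mem (h.normal s hs a ha) (Q.inv_mem ha))).mp ?_
      have h2 : π a⁻¹ + π a = 0 := by
        rw [← π_mul _ (Q.inv_mem ha) _ ha, inv_mul_cancel]
        exact (π_zero 1 Q.one_mem).mpr (one_mem _)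
      rw [π_mul _ (h.normal s hs a ha) _ (Q.inv_mem ha), act_spec s hs a ha, h1, End.one_apply,
        add_comm, h2]
    obtain ⟨φ, hφ⟩ := exists_lin (p := p) (fun v => lg (cj s (sec v) * (sec v)⁻¹)) fun v w => by
      obtain ⟨i, hi⟩ := eqz _ (sec_add v w).1
      rw [(sec_add v w).2] at hi
      have hc := hcz _ (hsecQ w)
      rw [hi, cj_map_mul, cj_map_mul, h.cj_of_mem (zp_mem z i) hs,
        show cj s (sec v) * cj s (sec w) * zp z i * (sec v * sec w * zp z i)⁻¹ =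
          cj s (sec v) * (cj s (sec w) * (sec w)⁻¹) * (sec v)⁻¹ by group,
        h.comm_of_mem hc (h.le (h.normal s hs _ (hsecQ v))), mul_assoc,
        lg_add _ _ hc (hcz _ (hsecQ v)), add_comm]
    have hinj : Function.Injective B := by
      rw [← LinearMap.ker_eq_bot, LinearMap.ker_eq_bot']
      exact fun v hv => hnd v fun w => by rw [hv, LinearMap.zero_apply]
    obtain ⟨v, hv⟩ := (LinearMap.injective_iff_surjective_of_finrank_eq_finrank
      (Subspace.dual_finrank_eq (K := ZMod p) (V := Fin (2 * n) → ZMod p)).symm).mp hinj φ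
    set q := sec v with hqdef
    have hqQ : q ∈ Q := hsecQ v
    have hfix : ∀ a ∈ Q, cj (q⁻¹ * s) a = a := fun a ha => by
      obtain ⟨i, hi⟩ := eqz a ha
      have h2 : cj s a * a⁻¹ = zp z (φ (π a)) := by
        rw [hφ, hi, cj_map_mul, h.cj_of_mem (zp_mem z i) hs,
          show cj s a * zp z i * (a * zp z i)⁻¹ = cj s a * a⁻¹ by group]
        exact hlg _ (hcz a ha)
      have h3 : cj q a * a⁻¹ = zp z (φ (π a)) := by
        rw [show cj q a * a⁻¹ = ⁅q, a⁆ by simp [cj, commutatorElement_def], hBa q hqQ a ha, hqdef,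
          hsec, ← hv]
      have h4 : cj s a = cj q a := mul_right_cancel (h2.trans h3.symm)
      rw [cj_mul, h4, cj_inv_cj]
    set c := q⁻¹ * s with hcdef
    have hcS : c ∈ S := S.mul_mem (S.inv_mem (h.le hqQ)) hs
    have hcQ : c ∉ Q := fun hc => hsQ (by
      have h5 := Q.mul_mem hqQ hc
      rwa [hcdef, mul_inv_cancel_left] at h5)
    haveI : (Q.subgroupOf S).Normal := ⟨fun a ha g => h.normal g g.2 a ha⟩
    have hmax : (Q ⊔ Subgroup.zpowers c).subgroupOf S = ⊤ := by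
      have hlt : Q.subgroupOf S < (Q ⊔ Subgroup.zpowers c).subgroupOf S := by
        refine lt_of_le_of_ne (fun a ha => Subgroup.mem_sup_left ha) fun e => hcQ ?_
        have : (⟨c, hcS⟩ : S) ∈ (Q ⊔ Subgroup.zpowers c).subgroupOf S :=
          Subgroup.mem_sup_right (Subgroup.mem_zpowers c)
        rw [← e] at this
        exact this
      exact (CfsgLib.PGroups.isCoatom_of_index_eq_prime h.index).2 _ hlt
    refine hcQ (h.zpowers_le (h.center_S c hcS fun b hb => ?_))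
    have hb' : b ∈ Q ⊔ Subgroup.zpowers c := by
      have : (⟨b, hb⟩ : S) ∈ (Q ⊔ Subgroup.zpowers c).subgroupOf S := by rw [hmax]; trivial
      exact this
    have hle : Q ⊔ Subgroup.zpowers c ≤ Subgroup.centralizer {c} := by
      refine sup_le (fun a ha => Subgroup.mem_centralizer_singleton_iff.mpr ?_)
        (Subgroup.zpowers_le.mpr (Subgroup.mem_centralizer_singleton_iff.mpr rfl))
      exact (cj_fixed_iff.mp (hfix a ha)).symm
    exact (Subgroup.mem_centralizer_singleton_iff.mp (hle hb')).symm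
  · intro s hs
    have hk : ∀ k : ℕ, act (s ^ k) = act s ^ k := by
      intro k
      induction k with
      | zero => rw [pow_zero, pow_zero]; exact act_Q 1 Q.one_mem
      | succ k ih => rw [pow_succ, act_mul _ (S.pow_mem hs k) _ hs, ih, pow_succ]
    rw [← hk]
    exact act_Q _ (h.pow_mem_Q hs)
  · intro s hs v w
    refine zp_injective h.z_order ?_
    rw [hact s hs, hact s hs, ← hBa _ (h.normal s hs _ (hsecQ v)) _ (h.normal s hs _ (hsecQ w)),
      hiso s hs _ (hsecQ v) _ (hsecQ w), hBa _ (hsecQ v) _ (hsecQ w), hsec, hsec]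
  · intro s hs v
    refine zp_injective h.z_order ?_
    have hcp : cj s (sec v) ^ p = cj s (sec v ^ p) := by
      show (MulAut.conj s (sec v)) ^ p = MulAut.conj s (sec v ^ p)
      rw [map_pow]
    rw [hact s hs, ← hθa _ (h.normal s hs _ (hsecQ v)), hcp, h.cj_of_mem (powz _ (hsecQ v)) hs,
      hθa _ (hsecQ v), hsec]

theorem stmtSetup : StmtSetup.{u} := by
  classical
  intro Ω _ S _ p hp hodd hS Q hQS hQ hi h6 F hF hO
  haveI : Finite Q := CfsgLib.Fusion.finite_of_le hQS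
  obtain ⟨n, -, hcardQ⟩ := CfsgLib.PGroups.Extraspecial.exists_card_eq hQ
  have hcardS : Nat.card S = p ^ (2 * n + 2) := by
    have h1 := Subgroup.index_mul_card (Q.subgroupOf S)
    rw [hi, Nat.card_congr (Subgroup.subgroupOfEquivOfLe hQS).toEquiv, hcardQ] at h1
    rw [← h1, ← pow_succ']
  have hn : 2 ≤ n := by
    rw [hcardS] at h6
    have := (Nat.pow_le_pow_iff_right hp.out.one_lt).mp h6
    omega
  obtain ⟨g, hg⟩ := (isCyclic_of_prime_card (α := ↥(Subgroup.center ↥Q)) (p := p) hQ.2).exists_generator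
  set z : Ω := ((g : ↥Q) : Ω) with hzdef
  have hzo : orderOf z = p := by
    rw [hzdef, Subgroup.orderOf_coe, Subgroup.orderOf_coe, orderOf_eq_card_of_forall_mem_zpowers hg,
      hQ.2]
  have hcQ : ∀ a ∈ Q, (∀ b ∈ Q, a * b = b * a) → a ∈ Subgroup.zpowers z := fun a ha hb => by
    obtain ⟨k, hk⟩ := Subgroup.mem_zpowers_iff.mp (hg ⟨⟨a, ha⟩, Subgroup.mem_center_iff.mpr
      fun b => Subtype.ext (hb b b.2).symm⟩)
    refine Subgroup.mem_zpowers_iff.mpr ⟨k, ?_⟩
    simpa using congrArg (fun w : ↥(Subgroup.center ↥Q) => ((w : ↥Q) : Ω)) hk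
  have heq := Cfsg.Agent.S5178.result p hodd hS Q hQS hQ hi F hF hO
  have hzS : z ∈ S ⊓ Subgroup.centralizer (S : Set Ω) := by
    rw [heq]
    exact ⟨(g : ↥Q).2, Subgroup.mem_centralizer_iff.mpr fun q hq =>
      congrArg Subtype.val (Subgroup.mem_center_iff.mp g.2 ⟨q, hq⟩)⟩
  have hnorm : (Q.subgroupOf S).Normal := CfsgLib.PGroups.normal_of_isCoatom hS
    (CfsgLib.PGroups.isCoatom_of_index_eq_prime hi)
  have hctx : Ctx p n S Q F z := {
    prime := hp.out
    odd := hodd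
    finite := inferInstance
    group := hS
    le := hQS
    extra := hQ
    index := hi
    two_le := hn
    card_Q := hcardQ
    card_S := hcardS
    z_mem := (g : ↥Q).2
    z_order := hzo
    z_comm := fun s hs => Subgroup.mem_centralizer_iff.mp hzS.2 s hs
    center_Q := hcQ
    center_S := fun a ha hb => by
      have h1 : a ∈ Q ⊓ Subgroup.centralizer (Q : Set Ω) := heq ▸
        ⟨ha, Subgroup.mem_centralizer_iff.mpr fun b hbS => (hb b hbS).symm⟩
      exact hcQ a h1.1 fun b hbQ => (Subgroup.mem_centralizer_iff.mp h1.2 b hbQ).symm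
    normal := fun s hs a ha => hnorm.conj_mem ⟨a, hQS ha⟩ ha ⟨s, hs⟩
    sat := hF
    core := hO }
  exact ⟨n, z, hctx, exists_coords hctx⟩

end CfsgLib.ExtraIndexP
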