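import Cfsg.Agent.Lib.ExtraIndexP.Siegel.Space

/-!
# The Siegel case of S5177
-/

set_option autoImplicit false
set_option linter.unusedSectionVars false

open Cfsg Cfsg.FusionSystem CfsgLib.Fusion Module

namespace CfsgLib.ExtraIndexP.Siegel

universe u

section pure

variable {p : ℕ} [hp : Fact p.Prime] {W : Type*} [AddCommGroup W] [Module (ZMod p) W]

/-- A quadratic function without zero is linear or a form. -/
theorem quad_cases (hodd : Odd p) {β : W →ₗ[ZMod p] W →ₗ[ZMod p] ZMod p} {g : W → ZMod p}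
    (hadd : ∀ v w, g (v + w) = g v + g w + β v w) (hne : ∀ v, g v = 0 → v = 0) :
    (∀ v w, β v w = β w v) ∧ (((∀ v w, β v w = 0) ∧ ∀ (c : ZMod p) v, g (c • v) = c * g v) ∨
      ((∀ v, β v v = 0 → v = 0) ∧ ∀ v, g v = β v v / 2)) := by
  have h2 := two_ne_zero' (p := p) hodd
  have hsym : ∀ v w, β v w = β w v := fun v w => by
    have h1 := hadd v w
    rw [add_comm, hadd w v] at h1
    linear_combination -h1
  refine ⟨hsym, ?_⟩
  set l : W → ZMod p := fun v => g v - β v v / 2 with hl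
  have hladd : ∀ v w, l (v + w) = l v + l w := fun v w => by
    simp only [hl, hadd, map_add, LinearMap.add_apply, hsym w v]
    field_simp
    ring
  have hlsmul : ∀ (c : ZMod p) v, l (c • v) = c * l v := fun c v =>
    ZMod.map_smul (AddMonoidHom.mk' l hladd) c v
  have hg : ∀ v, g v = l v + β v v / 2 := fun v => by simp [hl]
  by_cases hl0 : ∀ v, l v = 0
  · exact Or.inr ⟨fun v hv => hne v (by rw [hg, hl0, hv]; simp),
      fun v => by rw [hg, hl0, zero_add]⟩
  push Not at hl0
  obtain ⟨v₀, hv₀⟩ := hl0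
  have hex : ∀ v, l v ≠ 0 → β v v = 0 := by
    intro v hv
    by_contra hb
    set t := -(2 * l v) / β v v with ht
    have h0 : g (t • v) = 0 := by
      simp only [hg, hlsmul, map_smul, LinearMap.smul_apply, smul_eq_mul, ht]
      field_simp
      ring
    have ht0 : t ≠ 0 := div_ne_zero (neg_ne_zero.2 (mul_ne_zero h2 hv)) hb
    exact hb (by rw [(smul_eq_zero.1 (hne _ h0)).resolve_left ht0]; simp)
  have hdiag : ∀ v, β v v = 0 := by
    intro w
    by_contra hw
    have hlw : l w = 0 := by_contra fun e => hw (hex w e)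
    have h1 := hex (w + v₀) (by rw [hladd, hlw, zero_add]; exact hv₀)
    have h2' := hex (w + (-1 : ZMod p) • v₀) (by
      rw [hladd, hlw, zero_add, hlsmul]; simpa using hv₀)
    have h3 := hex v₀ hv₀
    simp only [map_add, map_smul, LinearMap.add_apply, LinearMap.smul_apply, smul_eq_mul, h3]
      at h1 h2'
    refine hw ((mul_eq_zero.1 (?_ : 2 * β w w = 0)).resolve_left h2)
    linear_combination h1 + h2'
  have hzero : ∀ v w, β v w = 0 := fun v w => by
    have h := hdiag (v + w)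
    simp only [map_add, LinearMap.add_apply, hdiag, hsym w v] at h
    refine (mul_eq_zero.1 (?_ : 2 * β v w = 0)).resolve_left h2
    linear_combination h
  refine Or.inl ⟨hzero, fun c v => ?_⟩
  have e : ∀ w, g w = l w := fun w => by rw [hg, hdiag]; simp
  rw [e, e, hlsmul]

variable {β : W →ₗ[ZMod p] W →ₗ[ZMod p] ZMod p}

/-- No three orthogonal vectors. -/
theorem no_three (hodd : Odd p) (hsym : ∀ v w, β v w = β w v) (haniso : ∀ v, β v v = 0 → v = 0)
    {e₁ e₂ e₃ : W} (h₁ : e₁ ≠ 0) (h₂ : e₂ ≠ 0) (h₃ : e₃ ≠ 0) (h12 : β e₁ e₂ = 0)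
    (h13 : β e₁ e₃ = 0) (h23 : β e₂ e₃ = 0) : False := by
  have hcard : Fintype.card (ZMod p) % 2 = 1 := by rw [ZMod.card]; exact Nat.odd_iff.1 hodd
  have hd := Polynomial.degree_C_mul_X_pow (R := ZMod p) 2 (a := β e₂ e₂) fun h => h₂ (haniso _ h)
  obtain ⟨s, t, hst⟩ := FiniteField.exists_root_sum_quadratic
    (f := Polynomial.C (β e₁ e₁) * Polynomial.X ^ 2)
    (g := Polynomial.C (β e₂ e₂) * Polynomial.X ^ 2 + Polynomial.C (β e₃ e₃))
    (Polynomial.degree_C_mul_X_pow 2 fun h => h₁ (haniso _ h)) (by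
      rw [Polynomial.degree_add_eq_left_of_degree_lt (by
        rw [hd]; exact lt_of_le_of_lt Polynomial.degree_C_le (by norm_num)), hd]
      rfl) hcard
  simp only [Polynomial.eval_add, Polynomial.eval_mul, Polynomial.eval_C, Polynomial.eval_pow,
    Polynomial.eval_X] at hst
  have hv : s • e₁ + t • e₂ + e₃ = 0 := haniso _ (by
    simp only [map_add, map_smul, LinearMap.add_apply, LinearMap.smul_apply, smul_eq_mul, h12, h13,
      h23, hsym e₂ e₁, hsym e₃ e₁, hsym e₃ e₂]
    linear_combination hst)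
  refine h₃ (haniso _ ?_)
  have := congrArg (fun v => β v e₃) hv
  simpa [h13, h23] using this

/-- The projection on two orthogonal vectors. -/
theorem span_two (hodd : Odd p) (hsym : ∀ v w, β v w = β w v) (haniso : ∀ v, β v v = 0 → v = 0)
    {e₁ e₂ : W} (h₁ : e₁ ≠ 0) (h₂ : e₂ ≠ 0) (h12 : β e₁ e₂ = 0) (u : W) :
    u = (β e₁ u / β e₁ e₁) • e₁ + (β e₂ u / β e₂ e₂) • e₂ := by
  set d := u - ((β e₁ u / β e₁ e₁) • e₁ + (β e₂ u / β e₂ e₂) • e₂) with hd
  rw [← sub_eq_zero, ← hd]
  by_contra hd0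
  have q1 : β e₁ e₁ ≠ 0 := fun h => h₁ (haniso _ h)
  have q2 : β e₂ e₂ ≠ 0 := fun h => h₂ (haniso _ h)
  refine no_three hodd hsym haniso h₁ h₂ hd0 h12 ?_ ?_
  · simp [hd, h12, div_mul_cancel₀ _ q1]
  · simp [hd, hsym e₂ e₁, h12, div_mul_cancel₀ _ q2]

end pure

variable {Ω : Type u} [Group Ω] {p n : ℕ} [hp : Fact p.Prime] {S Q : Subgroup Ω}
  {F : FusionSystem S} {z : Ω} {E : Subgroup Ω} {α : MulAut E} {x : Ω}
  (st : Setting p n S Q F z E α x) (K : Coords p n S Q z)
include st K

theorem exists_fixed_ne : ∃ v : fixSp K x, v ≠ 0 := by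
  obtain ⟨a, ha, hax, haz⟩ := st.ne
  refine ⟨⟨K.π a, fixed_of_inC st K ⟨ha, hax⟩⟩, fun e => haz ((K.π_eq_zero a ha).1 ?_)⟩
  exact congrArg Subtype.val e

theorem mm_sq (haniso : ∀ v, form st K v v = 0 → v = 0) (v : Fin (2 * n) → ZMod p) :
    mm K x (mm K x v) = 0 := by
  set D := Submodule.comap (mm K x) (fixSp K x) with hD
  by_contra hv
  obtain ⟨b, hb, hbv⟩ := exists_perp st K (P := D) (v := v) hv
  have hxi := S.inv_mem st.two.x_mem
  have e1 : K.act x * K.act x⁻¹ = 1 := by
    rw [← K.act_mul _ st.two.x_mem _ hxi, mul_inv_cancel, K.act_one]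
  have e2 : K.act x⁻¹ * K.act x = 1 := K.act_inv st.two.x_mem
  have hcomm : ∀ d, mm K x (K.act x d) = K.act x (mm K x d) := fun d => by
    rw [mm, LinearMap.sub_apply, LinearMap.sub_apply, Module.End.one_apply, Module.End.one_apply,
      map_sub, ← Module.End.mul_apply, ← Module.End.mul_apply, e1, e2]
  have hinv : ∀ y, (∀ d ∈ D, K.B y d = 0) → ∀ d ∈ D, K.B (mm K x y) d = 0 := by
    intro y hy d hd
    have hd' : K.act x d ∈ D := by
      show mm K x (mm K x (K.act x d)) = 0
      rw [hcomm, hcomm, show mm K x (mm K x d) = 0 from hd, map_zero]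
    have e3 : K.act x⁻¹ (K.act x d) = d := by rw [← Module.End.mul_apply, e2]; rfl
    have h1 : K.B (K.act x⁻¹ y) d = 0 := by
      conv_lhs => rw [← e3]
      rw [K.isometry _ hxi, hy _ hd']
    rw [mm, LinearMap.sub_apply, Module.End.one_apply, map_sub, LinearMap.sub_apply, h1, hy d hd,
      sub_zero]
  have hk : ∀ (k : ℕ) y, (∀ d ∈ D, K.B y d = 0) → (mm K x ^ k) y = 0 → y = 0 := by
    intro k
    induction k with
    | zero => exact fun y _ e => by simpa using e
    | succ k ih =>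
      intro y hy e
      rw [pow_succ, Module.End.mul_apply] at e
      have hy0 : y ∈ fixSp K x := ih _ (hinv y hy) e
      have : (⟨y, hy0⟩ : fixSp K x) = 0 := haniso _ (by
        have h1 := hy (pre st K ⟨y, hy0⟩) (by
          show mm K x (mm K x _) = 0
          rw [mm_pre]; exact hy0)
        rw [K.flip, neg_eq_zero] at h1
        exact h1)
      exact congrArg Subtype.val this
  refine hbv ?_
  rw [hk p b hb (by rw [mm_nil st.ctx st.two K]; rfl), map_zero, LinearMap.zero_apply]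

theorem finrank_fix (haniso : ∀ v, form st K v v = 0 → v = 0) :
    finrank (ZMod p) (fixSp K x) = n ∧ LinearMap.range (mm K x) = fixSp K x := by
  have e : LinearMap.range (mm K x) = fixSp K x := by
    refine le_antisymm ?_ (fixed_le_range st K)
    rintro _ ⟨v, rfl⟩
    exact mm_sq st K haniso v
  refine ⟨?_, e⟩
  have h1 := K.finrank_ker_add (s := x⁻¹)
  change finrank (ZMod p) (LinearMap.range (mm K x)) + finrank (ZMod p) (fixSp K x) = 2 * n at h1
  rw [e] at h1
  omega

theorem main : Split p n S Q z K := by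
  have hodd := st.ctx.odd
  have hxi : x⁻¹ ∉ Q := fun e => st.two.x_not (inv_inv x ▸ Q.inv_mem e)
  obtain ⟨M⟩ := exists_model st K
  obtain ⟨hsym, hcase⟩ := quad_cases hodd (quad_add st K) fun _ hv => quad_ne st K hv
  obtain ⟨e₁, h₁⟩ := exists_fixed_ne st K
  rcases hcase with ⟨hβ, hg⟩ | ⟨haniso, hg⟩
  · exact (linear_false hodd M hβ hg h₁).elim
  obtain ⟨hfr, hrange⟩ := finrank_fix st K haniso
  -- a second vector
  obtain ⟨e₂, h₂, h12⟩ : ∃ e₂ : fixSp K x, e₂ ≠ 0 ∧ form st K e₁ e₂ = 0 := by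
    by_contra hcon
    push Not at hcon
    have q1 : form st K e₁ e₁ ≠ 0 := fun h => h₁ (haniso _ h)
    have hall : ∀ u, u = (form st K e₁ u / form st K e₁ e₁) • e₁ := by
      intro u
      rw [← sub_eq_zero]
      by_contra hu
      exact hcon _ hu (by simp [div_mul_cancel₀ _ q1])
    have := finrank_le_one (R := ZMod p) e₁ fun u => ⟨_, (hall u).symm⟩
    have := st.ctx.two_le
    omega
  have hspan := span_two hodd hsym haniso h₁ h₂ h12
  have hn : n = 2 := by
    let L : (ZMod p × ZMod p) →ₗ[ZMod p] fixSp K x :=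
      (LinearMap.toSpanSingleton (ZMod p) _ e₁).coprod (LinearMap.toSpanSingleton (ZMod p) _ e₂)
    have hL : LinearMap.range L = ⊤ := LinearMap.range_eq_top.2 fun u =>
      ⟨(_, _), by simpa [L] using (hspan u).symm⟩
    have h1 := LinearMap.finrank_range_le L
    rw [hL, finrank_top, finrank_prod, Module.finrank_self, hfr] at h1
    have := st.ctx.two_le
    omega
  have hrank : 2 ≤ finrank (ZMod p) (LinearMap.range (K.act x - 1)) := by
    rw [← K.range_eq st.ctx st.two.x_mem st.two.x_not (S.inv_mem st.two.x_mem) hxi]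
    change 2 ≤ finrank (ZMod p) (LinearMap.range (mm K x))
    rw [hrange, hfr, hn]
  -- the torus
  obtain ⟨r, hr, f, ⟨γ, hγ, hγf⟩, hf⟩ := exists_torus hodd M hsym haniso hg h₁ h₂ h12 hspan
  haveI := st.ctx.finite
  have hES := Ex_le st.ctx st.two
  obtain ⟨k, hk, hke⟩ := (isReceptive_iff.1
    (isFullyAutomized_of_normalized st.ctx.group st.ctx.sat st.two.ess.2.1).2).2 E _
    (isMor_autFun hES hγ) (img_autFun γ)
  have hgsmul : ∀ (c : ZMod p) v, quad st K (c • v) = c ^ 2 * quad st K v := fun c v => by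
    simp [hg]; ring
  have hQN : Q ≤ nExt S E (autFun γ) := by
    intro q hq
    set v : fixSp K x := ⟨mm K x (K.π q), mm_sq st K haniso _⟩ with hv
    obtain ⟨q', hq', e'⟩ := K.π_surj ((-r⁻¹) • K.π q)
    have hv' : mm K x (K.π q') = ((-r⁻¹) • v : fixSp K x) := by rw [e', map_smul]; rfl
    refine ⟨st.ctx.le hq, normal_E st.ctx st.two K hq (dd_inC st K hq (v := v) rfl), q',
      st.ctx.le hq', fun e he => ?_⟩
    obtain ⟨⟨a, w, b⟩, rfl⟩ := pt_surj st K he
    rw [cj_pt st K hq (v := v) rfl, hγf, hγf, cj_pt st K hq' hv', hf]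
    congr 1
    simp only [tr, hf, hgsmul, map_smul, LinearMap.smul_apply, map_neg, smul_eq_mul]
    refine Prod.ext rfl (Prod.ext ?_ ?_)
    · match_scalars <;> field_simp
    · field_simp
  have hEN : E ≤ nExt S E (autFun γ) := le_nExt (isMor_autFun hES hγ)
  have hkz : k z = zp z r⁻¹ := by
    have e := hγf (0, 0, 1)
    rw [pt_z, zp_one, hf] at e
    simp only [mul_zero, neg_zero, mul_one] at e
    rw [hke z st.two.z_mem, e, pt_z]
  have himg := K.img_Q_eq st.ctx st.two.x_mem st.two.x_not hrank hk hQN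
    (hkz ▸ zp_mem z _)
  have hθ : ∀ q ∈ Q, K.θ (K.π q) = 0 := by
    intro q hq
    have hkq : k q ∈ Q := himg ▸ mem_img_of_mem k hq
    set v : fixSp K x := ⟨mm K x (K.π q), mm_sq st K haniso _⟩ with hv
    set w : fixSp K x := ⟨mm K x (K.π (k q)), mm_sq st K haniso _⟩ with hw
    have e1 := hk.map_conj (hQN hq) (hEN (pt_mem st K (1, 0, 0)))
    rw [← cj, ← cj, cj_pt st K hq (v := v) rfl, hke _ (pt_mem st K _), hke _ (pt_mem st K _), hγf,
      hγf, cj_pt st K hkq (v := w) rfl] at e1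
    have e2 : r • w = -v := by
      have := congrArg (fun y : Pt p (fixSp K x) => y.2.1) (pt_inj st K e1)
      simpa [tr, hf] using this.symm
    have e3 : K.θ (K.π (k q)) = -(r⁻¹ * K.θ (K.π q)) := by
      have h1 : mm K x (K.π (k q) + r⁻¹ • K.π q) = 0 := by
        have : w = -(r⁻¹ • v) := by
          have := congrArg (r⁻¹ • ·) e2
          simp only [smul_smul, inv_mul_cancel₀ hr, one_smul, smul_neg] at this
          exact this
        rw [map_add, map_smul]
        show (w : Fin (2 * n) → ZMod p) + r⁻¹ • (v : Fin (2 * n) → ZMod p) = 0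
        rw [this]
        simp
      have h2 := θ_fixed st K ⟨_, h1⟩
      simp only [map_add, map_smul, smul_eq_mul] at h2
      linear_combination h2
    have e4 := hk.map_pow (hQN hq) p
    rw [K.pow q hq, K.pow _ hkq, map_zp' hk (hQN st.ctx.z_mem), hkz, e3] at e4
    change zp z r⁻¹ ^ (K.θ (K.π q)).val = _ at e4
    rw [zp_pow st.ctx.z_order, ZMod.natCast_zmod_val] at e4
    have e5 := zp_injective st.ctx.z_order e4
    refine (mul_eq_zero.1 (?_ : (2 * r⁻¹) * K.θ (K.π q) = 0)).resolve_left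
      (mul_ne_zero (two_ne_zero' hodd) (inv_ne_zero hr))
    linear_combination e5
  refine ⟨hn, fun a ha => by rw [K.pow a ha, hθ a ha, zp_zero], x, st.two.x_mem, st.two.x_not,
    st.two.x_pow, fun a ha e => ?_, hrank⟩
  refine ((inC_of_fixed st K ha ?_).2).eq.symm
  have hv : K.π a ∈ LinearMap.ker (K.act x - 1) := by
    rw [LinearMap.mem_ker, LinearMap.sub_apply, e, Module.End.one_apply, sub_self]
  rw [← K.ker_eq st.ctx st.two.x_mem st.two.x_not (S.inv_mem st.two.x_mem) hxi] at hv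
  exact hv

end CfsgLib.ExtraIndexP.Siegel

namespace CfsgLib.ExtraIndexP

universe u

/-- The unitary case of the second case. -/
theorem stmtSiegel : StmtSiegel.{u} := fun _ _ _ _ _ _ _ _ _ h K _ _ _ ht hne =>
  Siegel.main ⟨h, ht, hne⟩ K

end CfsgLib.ExtraIndexP
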