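import Cfsg.Agent.Lib.ExtraIndexP.Linear

/-!
# Subspaces cut out by subgroups, and the symplectic form
-/

set_option autoImplicit false
set_option linter.style.haveILetI false

open Cfsg Cfsg.FusionSystem CfsgLib.Fusion Module
open scoped commutatorElement

namespace CfsgLib.ExtraIndexP

universe u

variable {Ω : Type u} [Group Ω] {p n : ℕ} [hp : Fact p.Prime] {S Q : Subgroup Ω}
  {F : FusionSystem S} {z : Ω}

namespace Coords

variable (K : Coords p n S Q z)

/-- The image of `Q ⊓ H` modulo the centre. -/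
def proj (H : Subgroup Ω) : Submodule (ZMod p) (Fin (2 * n) → ZMod p) :=
  AddSubgroup.toZModSubmodule p
    { carrier := {v | ∃ a ∈ Q, a ∈ H ∧ K.π a = v}
      zero_mem' := ⟨1, Q.one_mem, H.one_mem, K.π_one⟩
      add_mem' := by
        rintro _ _ ⟨a, ha, haH, rfl⟩ ⟨b, hb, hbH, rfl⟩
        exact ⟨a * b, Q.mul_mem ha hb, H.mul_mem haH hbH, K.π_mul a ha b hb⟩
      neg_mem' := by
        rintro _ ⟨a, ha, haH, rfl⟩
        exact ⟨a⁻¹, Q.inv_mem ha, H.inv_mem haH, K.π_inv ha⟩ }

theorem mem_proj {H : Subgroup Ω} {v : Fin (2 * n) → ZMod p} :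
    v ∈ K.proj H ↔ ∃ a ∈ Q, a ∈ H ∧ K.π a = v := Iff.rfl

theorem π_mem_proj (h : Ctx p n S Q F z) {H : Subgroup Ω} (hz : z ∈ H) {a : Ω} (ha : a ∈ Q) :
    K.π a ∈ K.proj H ↔ a ∈ H := by
  refine ⟨fun hm => ?_, fun haH => ⟨a, ha, haH, rfl⟩⟩
  obtain ⟨b, hb, hbH, e⟩ := K.mem_proj.mp hm
  obtain ⟨i, rfl⟩ := K.eq_mul_zp h hb ha e
  exact H.mul_mem hbH (H.pow_mem hz _)

/-- An element commuting with lifts of a spanning set commutes with everything over it. -/
theorem comm_of_span (h : Ctx p n S Q F z) {x : Ω} (hx : x ∈ S)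
    {T : Set (Fin (2 * n) → ZMod p)}
    (hT : ∀ v ∈ T, ∃ a ∈ Q, K.π a = v ∧ x * a = a * x) {a : Ω} (ha : a ∈ Q)
    (hsp : K.π a ∈ Submodule.span (ZMod p) T) : x * a = a * x := by
  have hle : Submodule.span (ZMod p) T ≤ K.proj (Subgroup.centralizer {x}) :=
    Submodule.span_le.mpr fun v hv => by
      obtain ⟨b, hb, e, hc⟩ := hT v hv
      exact ⟨b, hb, Subgroup.mem_centralizer_singleton_iff.mpr hc.symm, e⟩
  exact (Subgroup.mem_centralizer_singleton_iff.mp ((K.π_mem_proj h
    (Subgroup.mem_centralizer_singleton_iff.mpr (h.z_comm x hx).symm) ha).mp (hle hsp))).symm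

theorem bij_B : Function.Bijective K.B := by
  have hi : Function.Injective K.B := (injective_iff_map_eq_zero K.B).mpr fun v hv =>
    K.nondeg v fun w => by rw [hv]; rfl
  exact ⟨hi, (LinearMap.injective_iff_surjective_of_finrank_eq_finrank
    (by rw [Subspace.dual_finrank_eq])).mp hi⟩

theorem finrank_ker_B {w : Fin (2 * n) → ZMod p} (hw : w ≠ 0) :
    finrank (ZMod p) (LinearMap.ker (K.B w)) + 1 = 2 * n := by
  have hne : K.B w ≠ 0 := fun e => hw (K.nondeg w fun v => by rw [e]; rfl)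
  have h1 := LinearMap.finrank_range_add_finrank_ker (K.B w)
  rw [LinearMap.range_eq_top.mpr (LinearMap.surjective hne), finrank_top, finrank_self,
    finrank_fin_fun] at h1
  omega

/-- The orthogonal space of a hyperplane `w⊥` is the line of `w`. -/
theorem mem_span_of_perp {w v : Fin (2 * n) → ZMod p} (hw : w ≠ 0)
    (hv : ∀ v', K.B w v' = 0 → K.B v v' = 0) : v ∈ Submodule.span (ZMod p) {w} := by
  obtain ⟨u, hu⟩ : ∃ u, K.B w u = 1 :=
    LinearMap.surjective (fun e => hw (K.nondeg w fun t => by rw [e]; rfl)) 1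
  refine Submodule.mem_span_singleton.mpr ⟨K.B v u, (sub_eq_zero.mp (K.nondeg _ fun t => ?_)).symm⟩
  have h2 := hv (t - K.B w t • u) (by simp [hu])
  simp only [map_sub, map_smul, smul_eq_mul] at h2
  simp only [map_sub, map_smul, LinearMap.sub_apply, LinearMap.smul_apply, smul_eq_mul]
  linear_combination h2

theorem exists_B_ne (h : Ctx p n S Q F z) {w : Fin (2 * n) → ZMod p} (hw : w ≠ 0) :
    ∃ v v', K.B w v = 0 ∧ K.B w v' = 0 ∧ K.B v v' ≠ 0 := by
  by_contra hcon
  push Not at hcon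
  have hle : LinearMap.ker (K.B w) ≤ Submodule.span (ZMod p) {w} := fun v hv =>
    K.mem_span_of_perp hw fun v' hv' => hcon v v' hv hv'
  have h1 := (Submodule.finrank_mono hle).trans (finrank_span_singleton hw).le
  have h2 := K.finrank_ker_B hw
  have h3 := h.two_le
  omega

/-- Isotropic subspaces have dimension at most `n`. -/
theorem isotropic_le {W : Submodule (ZMod p) (Fin (2 * n) → ZMod p)}
    (hW : ∀ v ∈ W, ∀ v' ∈ W, K.B v v' = 0) : finrank (ZMod p) W ≤ n := by
  let L := W.dualRestrict.comp K.B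
  have hs : Function.Surjective L := (Subspace.dualRestrict_surjective (W := W)).comp K.bij_B.2
  have h1 := LinearMap.finrank_range_add_finrank_ker L
  rw [LinearMap.range_eq_top.mpr hs, finrank_top, Subspace.dual_finrank_eq, finrank_fin_fun] at h1
  have h2 : W ≤ LinearMap.ker L := fun v hv => LinearMap.ext fun v' => hW v hv v' v'.2
  have := Submodule.finrank_mono h2
  omega

end Coords

end CfsgLib.ExtraIndexP
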